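import Cfsg.Agent.OddOrder.BG11.SylowOf
import Cfsg.Agent.OddOrder.BG5.Narrow
import Cfsg.Agent.OddOrder.Sigma.Basic
import Cfsg.Agent.Fusion.PComplement
import Cfsg.Agent.Hall.Existence
import Cfsg.Agent.H61.RankOne
import Cfsg.Agent.Components.PAction

/-!
The largest normal subgroup of a maximal subgroup whose primes are ideal.
-/

set_option autoImplicit false

universe u

namespace Cfsg.Agent.OddOrder.BG11

open Subgroup H40

/-- A group with a normal `p`-complement for every prime divisor of its order is nilpotent. -/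
theorem isNilpotent_of_normal_complements {H : Type u} [Group H] [Finite H]
    (h : ∀ p : ℕ, p.Prime → p ∣ Nat.card H → Cfsg.HasNormalPComplement p H) :
    Group.IsNilpotent H := by
  refine (Group.isNilpotent_of_finite_tfae (G := H)).out 0 3 |>.mpr ?_
  intro q hq Q
  let I : Subgroup H := ⨅ p : {p : ℕ // p.Prime ∧ p ∣ Nat.card H ∧ p ≠ q}, Cfsg.pResidual p.1 H
  have hQI : (Q : Subgroup H) ≤ I := le_iInf fun p x hx => by
    have : Fact p.1.Prime := ⟨p.2.1⟩
    obtain ⟨k, hk⟩ := IsPGroup.iff_orderOf.mp Q.isPGroup' ⟨x, hx⟩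
    rw [Subgroup.orderOf_mk] at hk
    refine (Fusion.mem_pResidual_iff_of_hasNormalPComplement (h p.1 p.2.1 p.2.2.1)).mpr ?_
    rw [hk]
    exact Nat.Coprime.pow_left k ((Nat.coprime_primes hq.out p.2.1).mpr (Ne.symm p.2.2.2))
  have hprime : ∀ d : ℕ, d.Prime → d ∣ Nat.card I → d = q := fun d hd hdI => by
    by_contra hne
    have : Fact d.Prime := ⟨hd⟩
    have hdH := hdI.trans (card_subgroup_dvd_card I)
    have hle : I ≤ Cfsg.pResidual d H :=
      iInf_le (fun p : {p : ℕ // p.Prime ∧ p ∣ Nat.card H ∧ p ≠ q} => Cfsg.pResidual p.1 H)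
        ⟨d, hd, hdH, hne⟩
    exact (Fusion.hasNormalPComplement_iff_pResidual (G := H) (p := d)).mp (h d hd hdH)
      (hdI.trans (card_dvd_of_le hle))
  have hI : IsPGroup q I :=
    IsPGroup.of_card (n := (Nat.card I).primeFactorsList.length)
      (Nat.eq_prime_pow_of_unique_prime_dvd Nat.card_pos.ne' fun {d} => hprime d)
  have hIn : I.Normal := normal_iInf_normal fun _ => inferInstance
  rw [← Q.is_maximal' hI hQI]
  exact hIn

/-- The centralizer of a suitable line of a maximal elementary subgroup of order `p ^ 2`. -/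
theorem exists_centralizer_splitting {p : ℕ} [hp : Fact p.Prime] {R : Type u} [Group R] [Finite R]
    {E : Subgroup R} (hp2 : p ≠ 2) (hR : IsPGroup p R) (h : BG5.NarrowData p R E) :
    ∃ R₀ R₁ : Subgroup R, R₀ ≤ E ∧ Nat.card R₀ = p ∧ IsCyclic R₁ ∧ R₀ ⊓ R₁ = ⊥ ∧
      (∀ a ∈ R₀, ∀ b ∈ R₁, a * b = b * a) ∧ R₀ ⊔ R₁ = centralizer (R₀ : Set R) := by
  obtain ⟨hnot, -, -, hchar, hidx⟩ := BG5.narrow_conclusion hp2 hR h
  set T := centralizer (BG5.omegaSecond p R : Set R) with hT
  obtain ⟨z, hzE, hzc, hzo, -⟩ := h.center_omega hR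
  have hzT : z ∈ T := mem_centralizer_iff.mpr fun w _ => mem_center_iff.mp hzc w
  obtain ⟨e, heE, heT⟩ := SetLike.not_le_iff_exists.mp hnot
  have he1 : e ≠ 1 := fun e1 => heT (e1 ▸ one_mem T)
  have heo : orderOf e = p := orderOf_eq_prime (h.elementary.2 e heE) he1
  set C := centralizer (zpowers e : Set R)
  set R₁ := T ⊓ C with hR₁
  have hcap : zpowers e ⊓ T = ⊥ := by
    by_contra hn
    refine heT ?_
    have hle : zpowers e ≤ T := by
      have h1 : 1 < Nat.card ↥(zpowers e ⊓ T) := (zpowers e ⊓ T).one_lt_card_iff_ne_bot.mpr hn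
      have h2 : Nat.card ↥(zpowers e ⊓ T) ∣ p := by
        rw [← heo, ← Nat.card_zpowers]
        exact card_dvd_of_le inf_le_left
      rcases (Nat.dvd_prime hp.out).mp h2 with h3 | h3
      · omega
      · exact inf_eq_left.mp (eq_of_le_of_card_ge inf_le_left
          (by rw [h3, Nat.card_zpowers, heo]))
    exact hle (mem_zpowers e)
  -- the elements of order `p` in `R₁` are the powers of `z`
  have hE : E = zpowers e ⊔ zpowers z := by
    refine (eq_of_le_of_card_ge (sup_le (zpowers_le.mpr heE) (zpowers_le.mpr hzE)) ?_).symm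
    have hlt : zpowers e < zpowers e ⊔ zpowers z := left_lt_sup.mpr fun hle => by
      have h3 : z ∈ zpowers e ⊓ T := ⟨hle (mem_zpowers z), hzT⟩
      rw [hcap, mem_bot] at h3
      exact hp.out.ne_one (hzo ▸ h3 ▸ orderOf_one)
    obtain ⟨a, ha⟩ := IsPGroup.iff_card.mp (hR.to_subgroup (zpowers e ⊔ zpowers z))
    have h1 : Nat.card (zpowers e) < Nat.card ↥(zpowers e ⊔ zpowers z) :=
      lt_of_le_of_ne (card_le_of_le hlt.le) fun he =>
        hlt.ne (eq_of_le_of_card_ge hlt.le he.ge)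
    rw [Nat.card_zpowers, heo, ha] at h1
    rw [h.card_eq, ha]
    refine Nat.pow_le_pow_right hp.out.pos ?_
    by_contra hlt'
    exact absurd h1 (not_lt.mpr ((Nat.pow_le_pow_right hp.out.pos
      (show a ≤ 1 by omega)).trans (pow_one p).le))
  have hroot : ∀ x ∈ R₁, x ^ p = 1 → x ∈ zpowers z := by
    rintro x ⟨hxT, hxC⟩ hxp
    have hxE : x ∈ E := BG5.mem_of_commute h.elementary h.maximal hxp (by
      have hE' : E ≤ centralizer ({x} : Set R) := by
        rw [hE, sup_le_iff, zpowers_le, zpowers_le]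
        exact ⟨mem_centralizer_singleton_iff.mpr (mem_centralizer_iff.mp hxC e (mem_zpowers e)),
          mem_centralizer_singleton_iff.mpr (mem_center_iff.mp hzc x).symm⟩
      exact mem_centralizer_iff.mpr fun a ha => mem_centralizer_singleton_iff.mp (hE' ha))
    have hle : zpowers z = E ⊓ T := by
      refine eq_of_le_of_card_ge (zpowers_le.mpr ⟨hzE, hzT⟩) ?_
      rw [Nat.card_zpowers, hzo]
      have hlt : E ⊓ T < E := lt_of_le_of_ne inf_le_left fun he => heT (inf_eq_left.mp he heE)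
      obtain ⟨a, ha⟩ := IsPGroup.iff_card.mp (hR.to_subgroup (E ⊓ T))
      have h1 : Nat.card ↥(E ⊓ T) < p ^ 2 := h.card_eq ▸ lt_of_le_of_ne (card_le_of_le hlt.le)
        fun he => hlt.ne (eq_of_le_of_card_ge hlt.le he.ge)
      rw [ha] at h1 ⊢
      have := (Nat.pow_lt_pow_iff_right hp.out.one_lt).mp h1
      exact (Nat.pow_le_pow_right hp.out.pos (show a ≤ 1 by omega)).trans (pow_one p).le
    exact hle ▸ ⟨hxE, hxT⟩
  have hcyc : IsCyclic R₁ := by
    refine H61.isCyclic_of_card_pow_eq_one_le hp2 (hR.to_subgroup R₁) ?_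
    refine le_of_le_of_eq (Nat.card_le_card_of_injective
      (fun y => (⟨(y.1 : R), hroot _ y.1.2 (congrArg Subtype.val y.2)⟩ : zpowers z)) ?_)
      (by rw [Nat.card_zpowers, hzo])
    intro a b hab
    exact Subtype.ext (Subtype.ext (congrArg (fun t : zpowers z => (t : R)) hab))
  refine ⟨zpowers e, R₁, zpowers_le.mpr heE, by rw [Nat.card_zpowers, heo], hcyc, ?_, ?_, ?_⟩
  · rw [hR₁, ← inf_assoc, hcap, bot_inf_eq]
  · exact fun a ha b hb => mem_centralizer_iff.mp hb.2 a ha
  · have heC : zpowers e ≤ C := zpowers_le.mpr <| mem_centralizer_iff.mpr fun a ha => by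
      obtain ⟨i, rfl⟩ := mem_zpowers_iff.mp ha
      exact ((Commute.refl e).zpow_left i).eq
    refine le_antisymm (sup_le heC inf_le_right) fun c hc => ?_
    have : T.Normal := normal_of_characteristic (h := hchar) _
    have htop : zpowers e ⊔ T = ⊤ := by
      by_contra hne
      have h1 := index_dvd_of_le (le_sup_right : T ≤ zpowers e ⊔ T)
      rw [hidx] at h1
      rcases (Nat.dvd_prime hp.out).mp h1 with h2 | h2
      · exact hne (index_eq_one.mp h2)
      · refine heT ?_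
        have he : T = zpowers e ⊔ T := by
          refine eq_of_le_of_card_ge le_sup_right (le_of_eq ?_)
          have h3 := T.card_mul_index
          rw [← (zpowers e ⊔ T).card_mul_index, hidx, h2] at h3
          exact (Nat.eq_of_mul_eq_mul_right hp.out.pos h3).symm
        rw [he]
        exact mem_sup_left (mem_zpowers e)
    obtain ⟨a, ha, t, ht, rfl⟩ := mem_sup_of_normal_right.mp (htop ▸ mem_top c : c ∈ zpowers e ⊔ T)
    have htC : t ∈ C := by simpa using C.mul_mem (C.inv_mem (heC ha)) hc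
    exact mul_mem (mem_sup_left ha) (mem_sup_right ⟨ht, htC⟩)

/-- A `p`-group with a maximal elementary subgroup of order `p ^ 2` is narrow. -/
theorem isNarrow_of_narrowData {p : ℕ} [hp : Fact p.Prime] {R : Type u} [Group R] [Finite R]
    {E : Subgroup R} (hp2 : p ≠ 2) (hR : IsPGroup p R) (h : BG5.NarrowData p R E) :
    Cfsg.IsNarrow p R :=
  (exists_centralizer_splitting hp2 hR h).elim fun R₀ h => h.elim fun R₁ h =>
    Or.inr ⟨R₀, R₁, h.2⟩

variable {G : Type u} [Group G] [Finite G]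

/-- A Sylow subgroup for a prime outside `β(M)` is narrow. -/
theorem isNarrow_of_not_beta (hG : Cfsg.IsMinSimpleOddOrder G) {M : Subgroup G}
    (hαs : Cfsg.alpha M ⊆ Cfsg.sigma M) {p : ℕ} [hp : Fact p.Prime] (hd : p ∣ Nat.card M)
    (hb : p ∉ Cfsg.beta M) (S : Sylow p M) : Cfsg.IsNarrow p ↥(S : Subgroup M) := by
  by_cases hr : Cfsg.PRankLE p 2 ↥(S : Subgroup M)
  · exact Or.inl hr
  have ha : p ∈ Cfsg.alpha M := ⟨hp.out, fun h => hr fun A hc he => by
    have h1 := h (A.map (S : Subgroup M).subtype) (map_isMulCommutative A _) (by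
      rintro _ ⟨x, hx, rfl⟩
      rw [← map_pow, he x hx, map_one])
    rwa [card_map_of_injective (S : Subgroup M).subtype_injective] at h1⟩
  obtain ⟨T, hT⟩ := exists_sylow_of_mem_sigma (hαs ha) S
  have hGr : ¬ Cfsg.PRankLE p 2 G := fun h => ha.2 fun A hc he => by
    have h1 := h (A.map M.subtype) (map_isMulCommutative A _) (by
      rintro _ ⟨x, hx, rfl⟩
      rw [← map_pow, he x hx, map_one])
    rwa [card_map_of_injective M.subtype_injective] at h1
  have hni : ¬ Cfsg.IsIdealPrime p G := fun h => hb ⟨ha, h⟩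
  simp only [Cfsg.IsIdealPrime, hp.out, hGr, not_false_eq_true, true_and, not_forall,
    not_exists, exists_prop, not_and] at hni
  obtain ⟨P, A, hAP, hA, hA2, hmax⟩ := hni
  obtain ⟨g, hg⟩ := MulAction.exists_smul_eq G P T
  -- transport `A` into `S`
  have hAT : cj g A ≤ (T : Subgroup G) := by
    rw [← hg, Sylow.coe_subgroup_smul]
    exact (cj_mono g hAP).trans (le_of_eq rfl)
  have hTP : ∀ B ≤ (T : Subgroup G), cj g⁻¹ B ≤ (P : Subgroup G) := fun B hB => by
    refine (cj_mono g⁻¹ hB).trans ?_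
    rw [← hg, Sylow.coe_subgroup_smul]
    exact (cj_inv_cj g (P : Subgroup G)).le
  set f : ↥(S : Subgroup M) →* G := M.subtype.comp (S : Subgroup M).subtype with hfdef
  have hf : Function.Injective f := M.subtype_injective.comp (S : Subgroup M).subtype_injective
  have hfr : f.range = (T : Subgroup G) := by
    rw [hfdef, MonoidHom.range_comp, range_subtype, hT]
  have hAr : cj g A ≤ f.range := hfr ▸ hAT
  have hmapA : ((cj g A).comap f).map f = cj g A := map_comap_eq_self hAr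
  have hcardA : Nat.card ↥((cj g A).comap f) = p ^ 2 := by
    rw [← card_map_of_injective hf, hmapA, card_cj, hA2]
  refine isNarrow_of_narrowData (ne_two_of_mem_card hG hd) S.isPGroup'
    (E := (cj g A).comap f) ⟨hr, ⟨?_, fun a ha => hf ?_⟩, hcardA, fun B hB hAB => ?_⟩
  · have := (elemAb_cj hA g).1
    exact ⟨⟨fun a b => Subtype.ext (hf (by
      rw [coe_mul, coe_mul, map_mul, map_mul]
      exact congrArg Subtype.val (mul_comm' (⟨f a, a.2⟩ : cj g A) ⟨f b, b.2⟩)))⟩⟩
  · rw [map_pow, (elemAb_cj hA g).2 _ ha, map_one]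
  · have hBe : Cfsg.IsElementaryAbelian p (B.map f) := ⟨have := hB.1; map_isMulCommutative B f, by
      rintro _ ⟨x, hx, rfl⟩
      rw [← map_pow, hB.2 x hx, map_one]⟩
    have h1 : A ≤ cj g⁻¹ (B.map f) := by
      rw [le_cj_iff, inv_inv, ← hmapA]
      exact map_mono hAB
    have h2 := hmax (cj g⁻¹ (B.map f)) (hTP _ (hfr ▸ map_le_range f B)) (elemAb_cj hBe g⁻¹)
    have h3 : cj g⁻¹ (B.map f) = A := by
      by_contra hne
      exact h2 (lt_of_le_of_ne h1 (Ne.symm hne))
    refine (eq_of_le_of_card_ge hAB ?_).symm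
    rw [hcardA, ← hA2, ← h3, card_cj, card_map_of_injective hf]

/-- The interface to BG 5.6 for the maximal subgroup `M`. -/
def NarrowConclusion (M : Subgroup G) : Prop :=
  ∀ (p : ℕ) [Fact p.Prime], p ∣ Nat.card M → ∀ S : Sylow p M,
    Cfsg.IsNarrow p ↥(S : Subgroup M) →
    (∀ q : ℕ, q.Prime → q ∣ (Cfsg.pPrimeCore p ↥M).index → q ≤ p) ∧
      Cfsg.HasNormalPComplement p ↥(commutator ↥M)

/-- The structure of `M` outside `β(M)`. -/
theorem betaCore_structure (hG : Cfsg.IsMinSimpleOddOrder G) {M : Subgroup G} (hM : IsCoatom M)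
    (halpha : Cfsg.IsPiHallOf (Cfsg.alpha M) (Cfsg.alphaCore M) M)
    (hαs : Cfsg.alpha M ⊆ Cfsg.sigma M) (hασ : Cfsg.alphaCore M ≤ Cfsg.sigmaCore M)
    (hder : Cfsg.sigmaCore M ≤ ⁅M, M⁆) (h55 : NarrowConclusion M) :
    Cfsg.IsPiHallOf (Cfsg.beta M) (Cfsg.piCoreOf (Cfsg.beta M) M) M ∧
      Cfsg.IsPiHall (Cfsg.beta M) (Cfsg.piCoreOf (Cfsg.beta M) M) ∧
      (∃ H : Subgroup G, Cfsg.IsPiHallOf {q | q.Prime ∧ q ∉ Cfsg.beta M} H ⁅M, M⁆ ∧
        Group.IsNilpotent H) ∧
      (∃ H : Subgroup G, Cfsg.IsPiHallOf {q | q.Prime ∧ q ∉ Cfsg.beta M} H (Cfsg.sigmaCore M) ∧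
        Group.IsNilpotent H) ∧
      ∀ p : ℕ, p.Prime → p ∣ Nat.card M → p ∉ Cfsg.beta M →
        Cfsg.HasNormalPComplement p ↥⁅M, M⁆ ∧ Cfsg.HasNormalPComplement p ↥(Cfsg.sigmaCore M) ∧
        ∀ q : ℕ, q.Prime → q ∣ (Cfsg.pPrimeCore p ↥M).index → q ≤ p := by
  have hsol : Group.IsSolvable M := hG.2.2.2 M hM.1
  have hmap : (commutator ↥M).map M.subtype = ⁅M, M⁆ := by
    rw [_root_.commutator_def, map_commutator, ← MonoidHom.range_eq_map, M.range_subtype]
  have hMM : ⁅M, M⁆ ≤ M := hmap ▸ map_subtype_le _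
  have hprim : ∀ p : ℕ, p.Prime → p ∣ Nat.card M → p ∉ Cfsg.beta M →
      Cfsg.HasNormalPComplement p ↥⁅M, M⁆ ∧
        ∀ q : ℕ, q.Prime → q ∣ (Cfsg.pPrimeCore p ↥M).index → q ≤ p := fun p hp hd hb => by
    have : Fact p.Prime := ⟨hp⟩
    obtain ⟨h1, h2⟩ := h55 p hd (Classical.arbitrary _) (isNarrow_of_not_beta hG hαs hd hb _)
    refine ⟨?_, h1⟩
    let e := ((commutator ↥M).equivMapOfInjective M.subtype M.subtype_injective).trans
      (MulEquiv.subgroupCongr hmap)
    exact Fusion.hasNormalPComplement_of_injective h2 e.symm.toMonoidHom e.symm.injective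
  -- Hall subgroups for the complement of `β`
  have hhall : ∀ X : Subgroup G, X ≤ ⁅M, M⁆ →
      ∃ H : Subgroup G, Cfsg.IsPiHallOf {q | q.Prime ∧ q ∉ Cfsg.beta M} H X ∧
        Group.IsNilpotent H := fun X hX => by
    have hXM : X ≤ M := hX.trans hMM
    have : Group.IsSolvable X := isSolvable_of_le_max hG hM hXM
    obtain ⟨H₀, hH₀⟩ := (Hall.hallDom_of_isSolvable {q | q.Prime ∧ q ∉ Cfsg.beta M} X).1
    refine ⟨H₀.map X.subtype, ⟨map_subtype_le _, ?_, ?_⟩, ?_⟩
    · rw [card_map_of_injective X.subtype_injective]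
      exact hH₀.1
    · rw [relIndex, subgroupOf, comap_map_eq_self_of_injective X.subtype_injective]
      exact hH₀.2
    · have : Group.IsNilpotent H₀ := by
        refine isNilpotent_of_normal_complements fun p hp hd => ?_
        have : Fact p.Prime := ⟨hp⟩
        have hdX : p ∣ Nat.card X := hd.trans (card_subgroup_dvd_card H₀)
        exact Fusion.hasNormalPComplement_subgroup
          (Fusion.hasNormalPComplement_of_le
            (hprim p hp (hdX.trans (card_dvd_of_le hXM)) (hH₀.1 p hp hd).2).1 hX) H₀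
      exact Group.nilpotent_of_mulEquiv (H₀.equivMapOfInjective X.subtype X.subtype_injective)
  -- the normal Hall `β`-subgroup
  set A := Cfsg.alphaCore M with hA
  let ι := {p : ℕ // p ∈ Cfsg.alpha M ∧ p ∉ Cfsg.beta M}
  let N₀ : Subgroup A := ⨅ p : ι, Cfsg.pResidual p.1 A
  have hN₀c : N₀.Characteristic := characteristic_iff_le_comap.mpr fun φ => by
    rw [comap_iInf]
    exact le_iInf fun p => (iInf_le _ p).trans (characteristic_iff_le_comap.mp inferInstance φ)
  set N := N₀.map A.subtype with hN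
  have hcN : Nat.card N = Nat.card N₀ := card_map_of_injective A.subtype_injective
  have hnc : ∀ p : ι, ¬ p.1 ∣ Nat.card (Cfsg.pResidual p.1 A) := fun p hd => by
    have : Fact p.1.Prime := ⟨p.2.1.1⟩
    refine Fusion.hasNormalPComplement_iff_pResidual.mp ?_ hd
    exact Fusion.hasNormalPComplement_of_le
      (hprim p.1 p.2.1.1 ((hd.trans (card_subgroup_dvd_card _)).trans (card_dvd_of_le halpha.1))
        p.2.2).1 (hασ.trans hder)
  have hNβ : ∀ q : ℕ, q.Prime → q ∣ Nat.card N → q ∈ Cfsg.beta M := fun q hq hd => by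
    rw [hcN] at hd
    have hqa : q ∈ Cfsg.alpha M := halpha.2.1 q hq (hd.trans (card_subgroup_dvd_card _))
    by_contra hb
    exact hnc ⟨q, hqa, hb⟩ (hd.trans (card_dvd_of_le (iInf_le _ (⟨q, hqa, hb⟩ : ι))))
  have hidx : ∀ q : ℕ, q.Prime → q ∈ Cfsg.beta M → ¬ q ∣ N₀.index := fun q hq hb hd => by
    have : Fact q.Prime := ⟨hq⟩
    obtain ⟨Q⟩ : Nonempty (Sylow q A) := inferInstance
    have hle : (Q : Subgroup A) ≤ N₀ := le_iInf fun p x hx => by
      have : Fact p.1.Prime := ⟨p.2.1.1⟩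
      obtain ⟨k, hk⟩ := IsPGroup.iff_orderOf.mp Q.isPGroup' ⟨x, hx⟩
      rw [Subgroup.orderOf_mk] at hk
      refine Fusion.mem_pResidual ?_
      rw [hk]
      exact Nat.Coprime.pow_left k ((Nat.coprime_primes hq p.2.1.1).mpr fun e => p.2.2 (e ▸ hb))
    exact Q.not_dvd_index (hd.trans (index_dvd_of_le hle))
  have hNA : N ≤ A := map_subtype_le _
  have hMN : M ≤ normalizer (N : Set G) := by
    rw [hN]
    exact Components.le_normalizer_map_characteristic N₀ (le_normalizer_piCoreOf _ M)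
  have hNcore : N ≤ Cfsg.piCoreOf (Cfsg.beta M) M :=
    le_piCoreOf (hNA.trans halpha.1) hMN fun q hq hd => hNβ q hq hd
  have hNrel : ∀ q : ℕ, q.Prime → q ∈ Cfsg.beta M → ¬ q ∣ N.relIndex M := fun q hq hb => by
    rw [← relIndex_mul_relIndex N A M hNA halpha.1, hq.dvd_mul, not_or]
    refine ⟨?_, halpha.2.2 q hq hb.1⟩
    rw [hN, relIndex, subgroupOf, comap_map_eq_self_of_injective A.subtype_injective]
    exact hidx q hq hb
  have hcore : Cfsg.IsPiHallOf (Cfsg.beta M) (Cfsg.piCoreOf (Cfsg.beta M) M) M :=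
    ⟨piCoreOf_le _ _, fun q hq hd => piCoreOf_isPiNumber _ _ q hq hd,
      fun q hq hb hd => hNrel q hq hb (hd.trans (relIndex_dvd_of_le_left M hNcore))⟩
  refine ⟨hcore, ⟨hcore.2.1, fun q hq hb => ?_⟩, hhall _ le_rfl, hhall _ hder, fun p hp hd hb =>
    haveI : Fact p.Prime := ⟨hp⟩
    ⟨(hprim p hp hd hb).1, Fusion.hasNormalPComplement_of_le (hprim p hp hd hb).1 hder,
      (hprim p hp hd hb).2⟩⟩
  have : Fact q.Prime := ⟨hq⟩
  rw [← relIndex_mul_index (piCoreOf_le (Cfsg.beta M) M), hq.dvd_mul, not_or]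
  exact ⟨hcore.2.2 q hq hb, not_dvd_index_of_mem_sigma (hαs hb.1)⟩

end Cfsg.Agent.OddOrder.BG11
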