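import Cfsg.Agent.OddOrder.BG11.SylowOf

/-!
Sylow subgroups of rank at most two, and control of fusion by the normalizer of a Sylow subgroup.
-/

set_option autoImplicit false

universe u

namespace Cfsg.Agent.OddOrder.BG11

open Subgroup H40
open scoped commutatorElement IsMulCommutative

/-- In a nonabelian group of order `p ^ 3` the center is the derived subgroup. -/
theorem inf_centralizer_eq_commutator {G : Type*} [Group G] [Finite G] {p : ℕ} [hp : Fact p.Prime]
    {A : Subgroup G} (hna : ¬ IsMulCommutative A) (hc : Nat.card A = p ^ 3) :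
    A ⊓ centralizer (A : Set G) = ⁅A, A⁆ := by
  have hA : IsPGroup p A := IsPGroup.of_card hc
  have hnab : ¬ ∀ a b : A, a * b = b * a := fun h => hna ⟨⟨h⟩⟩
  have hntr : Nontrivial A := Finite.one_lt_card_iff_nontrivial.mp
    (hc ▸ Nat.one_lt_pow (by norm_num) hp.out.one_lt)
  have hZ : Nat.card (center A) = p := by
    obtain ⟨k, hk⟩ := IsPGroup.iff_card.mp (hA.to_subgroup (center A))
    have hpos : 1 < Nat.card (center A) :=
      Finite.one_lt_card_iff_nontrivial.mpr hA.center_nontrivial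
    have hle : k ≤ 3 := (Nat.pow_dvd_pow_iff_le_right hp.out.one_lt).mp
      (hk ▸ hc ▸ card_subgroup_dvd_card (center A))
    have hmul := (center A).card_mul_index
    rw [hk, hc] at hmul
    rcases k with _ | _ | _ | k
    · rw [hk, pow_zero] at hpos
      exact absurd hpos (lt_irrefl 1)
    · rw [hk, zero_add, pow_one]
    · refine absurd (fun a b => ?_) hnab
      have hq : Nat.card (A ⧸ center A) = p := by
        rw [← index_eq_card]
        exact Nat.eq_of_mul_eq_mul_left (pow_pos hp.out.pos 2) (hmul.trans (pow_succ p 2))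
      have := isCyclic_of_prime_card hq
      exact (MonoidHom.isMulCommutative_of_isCyclic_of_ker_le_center (QuotientGroup.mk' (center A))
        (QuotientGroup.ker_mk' _).le).is_comm.comm a b
    · have hk3 : k = 0 := by omega
      subst hk3
      have htop : center A = ⊤ := eq_top_of_card_eq _ (hk.trans hc.symm)
      exact absurd (fun a b => (mem_center_iff.mp (htop ▸ mem_top b)) a) hnab
  have hle : commutator A ≤ center A := by
    have hq : Nat.card (A ⧸ center A) = p ^ 2 := by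
      have hmul := (center A).card_mul_index
      rw [hZ, hc, index_eq_card] at hmul
      exact Nat.eq_of_mul_eq_mul_left hp.out.pos (hmul.trans (pow_succ' p 2))
    have hab := IsPGroup.isMulCommutative_of_card_eq_prime_sq hq
    have h := Abelianization.commutator_subset_ker (QuotientGroup.mk' (center A))
    rwa [QuotientGroup.ker_mk'] at h
  have heq : commutator A = center A := by
    refine eq_of_le_of_card_ge hle ?_
    rw [hZ]
    have hne : commutator A ≠ ⊥ := fun e => hnab fun a b => by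
      have h : ⁅a, b⁆ ∈ commutator A := by
        rw [_root_.commutator_def]
        exact commutator_mem_commutator (mem_top a) (mem_top b)
      rw [e, mem_bot] at h
      exact commutatorElement_eq_one_iff_commute.mp h
    obtain ⟨k, hk⟩ := IsPGroup.iff_card.mp (hA.to_subgroup (commutator A))
    rcases k with _ | k
    · exact absurd (eq_bot_of_card_eq _ (by rwa [pow_zero] at hk)) hne
    · rw [hk]
      exact Nat.le_self_pow k.succ_ne_zero p
  have hmap : (commutator A).map A.subtype = ⁅A, A⁆ := by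
    rw [_root_.commutator_def, map_commutator, ← MonoidHom.range_eq_map, A.range_subtype]
  rw [← hmap, heq]
  refine le_antisymm ?_ ?_
  · rintro z ⟨hz, hzc⟩
    exact ⟨⟨z, hz⟩, mem_center_iff.mpr fun a => Subtype.ext (hzc a a.2), rfl⟩
  · rintro _ ⟨z, hz, rfl⟩
    exact ⟨z.2, fun a ha => congrArg Subtype.val (mem_center_iff.mp hz ⟨a, ha⟩)⟩

variable {G : Type u} [Group G] [Finite G] {p : ℕ} [hp : Fact p.Prime]

/-- The structure of a Sylow subgroup of rank at most two, from BG 4.9 and the focal property. -/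
theorem sylow_rank_two (hG : Cfsg.IsMinSimpleOddOrder G) (P : Sylow p G)
    (h4 : p ≠ 2 → ∀ R A : Subgroup G, IsPGroup p R → R ≠ ⊥ → Cfsg.PRankLE p 2 R →
      A ≤ normalizer (R : Set G) → (Nat.card A).Coprime p → Odd (Nat.card A) → ⁅R, A⁆ = R →
      IsMulCommutative R ∨ ∃ R₁ R₂ : Subgroup G, R₁ ⊔ R₂ = R ∧
        (∀ a ∈ R₁, ∀ b ∈ R₂, a * b = b * a) ∧
        ¬ IsMulCommutative R₁ ∧ Nat.card R₁ = p ^ 3 ∧ Monoid.exponent R₁ = p ∧ IsCyclic R₂ ∧
        closure {x : G | x ∈ R₂ ∧ x ^ p = 1} = ⁅R₁, R₁⁆)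
    (h10 : ∀ V : Subgroup G,
      Cfsg.IsComplIn (P : Subgroup G) V (normalizer ((P : Subgroup G) : Set G)) →
      (P : Subgroup G) = ⁅(P : Subgroup G), V⁆)
    (hr : Cfsg.PRankLE p 2 (P : Subgroup G)) :
    IsMulCommutative (P : Subgroup G) ∨ ∃ P₁ P₂ : Subgroup G, P₁ ⊔ P₂ = (P : Subgroup G) ∧
      (∀ a ∈ P₁, ∀ b ∈ P₂, a * b = b * a) ∧
      ¬ IsMulCommutative P₁ ∧ Nat.card P₁ = p ^ 3 ∧ Monoid.exponent P₁ = p ∧ IsCyclic P₂ ∧
      closure {x : G | x ∈ P₂ ∧ x ^ p = 1} = P₁ ⊓ centralizer (P₁ : Set G) := by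
  rcases eq_or_ne (P : Subgroup G) ⊥ with h0 | h0
  · left
    rw [h0]
    exact ⟨⟨fun a b => Subsingleton.elim _ _⟩⟩
  have hdP : p ∣ Nat.card (P : Subgroup G) := by
    obtain ⟨k, hk⟩ := IsPGroup.iff_card.mp P.isPGroup'
    rcases k with _ | k
    · exact absurd (eq_bot_of_card_eq _ (by rwa [pow_zero] at hk)) h0
    · exact hk ▸ dvd_pow_self p k.succ_ne_zero
  have hp2 : p ≠ 2 := ne_two_of_mem_card hG hdP
  set N := normalizer ((P : Subgroup G) : Set G)
  have hPN : (P : Subgroup G) ≤ N := le_normalizer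
  let S := (P : Subgroup G).subgroupOf N
  have : S.Normal := normal_in_normalizer
  have hcardS : Nat.card S = Nat.card (P : Subgroup G) :=
    Nat.card_congr (subgroupOfEquivOfLe hPN).toEquiv
  have hidx : ¬ p ∣ S.index := fun h => P.not_dvd_index (h.trans (relIndex_dvd_index_of_le hPN))
  have hcop : (Nat.card S).Coprime S.index := by
    obtain ⟨k, hk⟩ := IsPGroup.iff_card.mp P.isPGroup'
    rw [hcardS, hk]
    exact Nat.Coprime.pow_left k (hp.out.coprime_iff_not_dvd.mpr hidx)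
  obtain ⟨W, hW⟩ := exists_right_complement'_of_coprime hcop
  have hcomp : Cfsg.IsComplIn (P : Subgroup G) (W.map N.subtype) N := by
    refine ⟨hPN, map_subtype_le _, ?_, ?_⟩
    · rw [eq_bot_iff]
      rintro _ ⟨hx, w, hw, rfl⟩
      have h : w ∈ S ⊓ W := ⟨hx, hw⟩
      rw [hW.disjoint.eq_bot, mem_bot] at h
      simp [h]
    · intro m hm
      obtain ⟨⟨a, w⟩, hab, -⟩ := isComplement_iff_existsUnique.mp hW ⟨m, hm⟩
      exact ⟨(a : N), a.2, (w : N), ⟨_, w.2, rfl⟩, congrArg Subtype.val hab.symm⟩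
  have hWc : (Nat.card (W.map N.subtype)).Coprime p := by
    rw [card_map_of_injective N.subtype_injective]
    have hm := hW.card_mul_card
    rw [← S.card_mul_index] at hm
    rw [Nat.eq_of_mul_eq_mul_left Nat.card_pos hm]
    exact (hp.out.coprime_iff_not_dvd.mpr hidx).symm
  rcases h4 hp2 _ _ P.isPGroup' h0 hr (map_subtype_le _) hWc (odd_card hG _)
      (h10 _ hcomp).symm with h | ⟨R₁, R₂, h1, h2, h3, h4, h5, h6, h7⟩
  · exact Or.inl h
  · exact Or.inr ⟨R₁, R₂, h1, h2, h3, h4, h5, h6, h7.trans (inf_centralizer_eq_commutator h3 h4).symm⟩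

/-- A nontrivial Sylow subgroup of `G` has its normalizer in a maximal subgroup. -/
theorem exists_sigma_maximal (hG : Cfsg.IsMinSimpleOddOrder G) (P : Sylow p G)
    (h0 : (P : Subgroup G) ≠ ⊥) :
    ∃ M : Subgroup G, IsCoatom M ∧ normalizer ((P : Subgroup G) : Set G) ≤ M ∧
      p ∈ Cfsg.sigma M ∧ IsSylowOf p (P : Subgroup G) M := by
  have htop : (P : Subgroup G) ≠ ⊤ := fun e => by
    have := P.isPGroup'.isNilpotent
    rw [e] at this
    have hn := Group.nilpotent_of_mulEquiv (topEquiv (G := G))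
    have := hG.2.1
    exact hG.2.2.1 ⟨⟨IsSimpleGroup.comm_iff_isSolvable.mpr inferInstance⟩⟩
  obtain ⟨M, hM, hNM⟩ := exists_coatom_ge (normalizer_ne_top' hG h0 htop)
  have hS : IsSylowOf p (P : Subgroup G) M :=
    isSylowOf_mono (isSylowOf_top P) (le_normalizer.trans hNM) le_top
  refine ⟨M, hM, hNM, mem_sigma_of_normalizer_le ?_ hS hNM, hS⟩
  obtain ⟨k, hk⟩ := IsPGroup.iff_card.mp P.isPGroup'
  rcases k with _ | k
  · exact absurd (eq_bot_of_card_eq _ (by rwa [pow_zero] at hk)) h0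
  · exact (hk ▸ dvd_pow_self p k.succ_ne_zero).trans (card_dvd_of_le hS.1)

/-- `N(P)` controls fusion in `P`. -/
theorem fusion_in_sylow (hG : Cfsg.IsMinSimpleOddOrder G)
    (hst : ∀ M : Subgroup G, IsCoatom M → p ∈ Cfsg.sigma M →
      ∀ X : Subgroup G, IsPGroup p X → X ≠ ⊥ → X ≤ M →
      ∀ g : G, X.map (MulAut.conj g).toMonoidHom ≤ M →
        ∃ m ∈ M, ∃ c ∈ centralizer (X : Set G), g = m * c)
    (hpl : ∀ H : Subgroup G, H ≠ ⊤ → Cfsg.PLengthLE p 1 H)
    (hfus : ∀ (H : Subgroup G), Group.IsSolvable H → Cfsg.PLengthLE p 1 H → ∀ S : Sylow p H,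
      ∀ (Y : Set H) (x : H), Y ⊆ (S : Subgroup H) →
        (fun y => x * y * x⁻¹) '' Y ⊆ (S : Subgroup H) →
        ∃ g ∈ normalizer ((S : Subgroup H) : Set H), ∃ c ∈ centralizer Y, g * c = x)
    (P : Sylow p G) {Q : Subgroup G} {x : G} (hQ : Q ≤ (P : Subgroup G))
    (hQx : cj x Q ≤ (P : Subgroup G)) :
    ∃ y ∈ normalizer ((P : Subgroup G) : Set G), cj x Q = cj y Q := by
  rcases eq_or_ne Q ⊥ with rfl | h0
  · exact ⟨1, one_mem _, by simp [cj]⟩
  have hP0 : (P : Subgroup G) ≠ ⊥ := ne_bot_of_le_ne_bot h0 hQ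
  obtain ⟨M, hM, hNM, hs, hS⟩ := exists_sigma_maximal hG P hP0
  obtain ⟨m, hm, c, hc, rfl⟩ :=
    hst M hM hs Q (P.isPGroup'.to_le hQ) h0 (hQ.trans hS.1) x (hQx.trans hS.1)
  have hcQ : cj c Q = Q := cj_eq_iff.mpr (centralizer_le_normalizer _ hc)
  rw [cj_mul, hcQ] at hQx ⊢
  have hsol : Group.IsSolvable M := hG.2.2.2 M hM.1
  obtain ⟨S, hSP⟩ := exists_sylow_eq hS
  have hmemS : ∀ z : M, (z : G) ∈ (P : Subgroup G) ↔ z ∈ (S : Subgroup M) := fun z => by
    constructor
    · intro hz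
      rw [← hSP] at hz
      obtain ⟨s, hs', e⟩ := hz
      rwa [← Subtype.ext e]
    · intro hz
      rw [← hSP]
      exact ⟨z, hz, rfl⟩
  obtain ⟨g, hg, d, hd, hgd⟩ := hfus M hsol (hpl M hM.1) S
    ((Q.subgroupOf M : Subgroup M) : Set M) ⟨m, hm⟩ (fun y hy => (hmemS y).mp (hQ hy))
    (by
      rintro _ ⟨y, hy, rfl⟩
      exact (hmemS _).mp (hQx (conj_mem_cj m hy)))
  refine ⟨g, ?_, ?_⟩
  · refine cj_eq_iff.mp (eq_of_le_of_card_ge ?_ (card_cj _ _).ge)
    rintro _ ⟨z, hz, rfl⟩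
    rw [← hSP] at hz
    obtain ⟨s, hs', rfl⟩ := hz
    exact (hmemS ((g : M) * s * g⁻¹)).mpr ((mem_normalizer_iff.mp hg s).mp hs')
  · have hd' : (d : G) ∈ centralizer (Q : Set G) := by
      intro q hq
      exact congrArg Subtype.val (hd ⟨q, hS.1 (hQ hq)⟩ hq)
    have : m = (g : G) * d := congrArg Subtype.val hgd.symm
    rw [this, cj_mul, cj_eq_iff.mpr (centralizer_le_normalizer _ hd')]

/-- `N_P(Q)` is a Sylow subgroup of `N(Q)`. -/
theorem not_dvd_relIndex_normalizer (P : Sylow p G) {Q : Subgroup G} (hQ : Q ≤ (P : Subgroup G))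
    (hfus : ∀ x : G, cj x Q ≤ (P : Subgroup G) →
      ∃ y ∈ normalizer ((P : Subgroup G) : Set G), cj x Q = cj y Q) :
    ¬ p ∣ ((P : Subgroup G) ⊓ normalizer (Q : Set G)).relIndex (normalizer (Q : Set G)) := by
  set N := normalizer (Q : Set G)
  set T := (P : Subgroup G) ⊓ N
  have hQT : Q ≤ T := le_inf hQ le_normalizer
  obtain ⟨U, hU, hTU⟩ := exists_sylowOf_ge' (P.isPGroup'.to_le (inf_le_left : T ≤ _))
    (inf_le_right : T ≤ N)
  obtain ⟨x, -, hx⟩ := exists_conj_le (isSylowOf_top P) hU.2.1 le_top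
  obtain ⟨y, hy, hxy⟩ := hfus x ((cj_mono x (hQT.trans hTU)).trans hx)
  have h1 : cj (y⁻¹ * x) Q = Q := by rw [cj_mul, hxy, cj_inv_cj]
  have h2 : cj (y⁻¹ * x) U ≤ T := by
    refine le_inf ?_ ?_
    · rw [cj_mul]
      exact (cj_mono _ hx).trans (cj_eq_iff.mpr (inv_mem hy)).le
    · exact (cj_mono _ hU.1).trans ((cj_normalizer _ Q).trans (by rw [h1])).le
  have hTU' : T = U := eq_of_le_of_card_ge hTU ((card_cj (y⁻¹ * x) U).ge.trans
    (card_le_of_le h2))
  rw [hTU']
  obtain ⟨S, hS⟩ := exists_sylow_eq hU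
  have hidx : U.relIndex N = (S : Subgroup N).index := by
    rw [← hS, relIndex, subgroupOf, comap_map_eq_self_of_injective N.subtype_injective]
  rw [hidx]
  exact S.not_dvd_index

/-- A subgroup normalised by `N(P)` is normalised by `N(R)` for each `p`-group `R` containing it. -/
theorem normalizer_le_of_weakly_closed (P : Sylow p G) {R Q : Subgroup G} (hR : IsPGroup p R)
    (hQ : Q ≤ (P : Subgroup G) ⊓ R)
    (hN : normalizer ((P : Subgroup G) : Set G) ≤ normalizer (Q : Set G))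
    (hfus : ∀ x : G, cj x Q ≤ (P : Subgroup G) →
      ∃ y ∈ normalizer ((P : Subgroup G) : Set G), cj x Q = cj y Q) :
    normalizer (R : Set G) ≤ normalizer (Q : Set G) := by
  have hw : ∀ x : G, cj x Q ≤ (P : Subgroup G) → cj x Q = Q := fun x hx => by
    obtain ⟨y, hy, e⟩ := hfus x hx
    rw [e, cj_eq_iff.mpr (hN hy)]
  obtain ⟨x, -, hx⟩ := exists_conj_le (isSylowOf_top P) hR le_top
  have hxQ : cj x Q = Q := hw x ((cj_mono x (le_inf_iff.mp hQ).2).trans hx)
  intro n hn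
  have h1 : cj n Q ≤ R := (cj_mono n (le_inf_iff.mp hQ).2).trans (cj_eq_iff.mpr hn).le
  have h2 : cj (x * n) Q = Q := hw _ (by rw [cj_mul]; exact (cj_mono x h1).trans hx)
  refine cj_eq_iff.mp ?_
  rw [cj_mul] at h2
  calc cj n Q = cj x⁻¹ (cj x (cj n Q)) := (cj_inv_cj _ _).symm
    _ = Q := by rw [h2]; nth_rw 1 [← hxQ]; rw [cj_inv_cj]

end Cfsg.Agent.OddOrder.BG11
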