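import Cfsg.Agent.OddOrder.BG11.Section10
import Cfsg.Agent.OddOrder.BG11.Fusion
import Cfsg.Agent.OddOrder.BG11.BetaCore
import Cfsg.Agent.OddOrder.BG10.Cores
import Cfsg.Agent.OddOrder.BG10.PLength
import Cfsg.Agent.OddOrder.BG10.SigmaTrans
import Cfsg.Agent.OddOrder.BG10.Uniq
import Cfsg.Agent.OddOrder.BG4.OddOperator
import Cfsg.Agent.OddOrder.BG5.Action
import Cfsg.Agent.H41.UTheorem
import Cfsg.Agent.H72.PLengthOne

/-!
The properties gathered in `Section10` hold in every minimal simple group of odd order.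
-/

set_option autoImplicit false

universe u

namespace Cfsg.Agent.OddOrder.BG11

open Subgroup H40

variable {G : Type u} [Group G] [Finite G] {p : ℕ} [hp : Fact p.Prime]

/-- A Sylow subgroup of rank at most two. -/
theorem sylow_rank_two_structure (hG : Cfsg.IsMinSimpleOddOrder G) (P : Sylow p G)
    (hr : Cfsg.PRankLE p 2 (P : Subgroup G)) :
    IsMulCommutative (P : Subgroup G) ∨ ∃ P₁ P₂ : Subgroup G, P₁ ⊔ P₂ = (P : Subgroup G) ∧
      (∀ a ∈ P₁, ∀ b ∈ P₂, a * b = b * a) ∧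
      ¬ IsMulCommutative P₁ ∧ Nat.card P₁ = p ^ 3 ∧ Monoid.exponent P₁ = p ∧ IsCyclic P₂ ∧
      closure {x : G | x ∈ P₂ ∧ x ^ p = 1} = P₁ ⊓ centralizer (P₁ : Set G) :=
  sylow_rank_two hG P
    (fun hp2 _ _ h1 h2 h3 h4 h5 h6 h7 =>
      (BG4.odd_operator_structure hp2 h1 h2 h3 h4 h5 h6 h7).2)
    (fun _ hV => BG10.sylow_eq_commutator hG (fun _ hH => BG10.pLengthLE_one hG p hH) P hV) hr

/-- `N(P)` controls the fusion of subgroups of `P`. -/
theorem sylow_fusion (hG : Cfsg.IsMinSimpleOddOrder G) (P : Sylow p G) {Q : Subgroup G} {x : G}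
    (hQ : Q ≤ (P : Subgroup G)) (hQx : cj x Q ≤ (P : Subgroup G)) :
    ∃ y ∈ normalizer ((P : Subgroup G) : Set G), cj x Q = cj y Q :=
  fusion_in_sylow hG (fun _ hM hs _ h1 h2 h3 => (BG10.sigma_trans' hG hM hs h1 h2 h3).1)
    (fun _ hH => BG10.pLengthLE_one hG p hH)
    (fun H hsol hpl S => by
      have := hsol
      exact H72.PLengthOne.fusion hpl S) P hQ hQx

/-- The structure of a maximal subgroup outside its ideal primes. -/
theorem betaCore_all (hG : Cfsg.IsMinSimpleOddOrder G) {M : Subgroup G} (hM : IsCoatom M) :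
    Cfsg.IsPiHallOf (Cfsg.beta M) (Cfsg.piCoreOf (Cfsg.beta M) M) M ∧
      Cfsg.IsPiHall (Cfsg.beta M) (Cfsg.piCoreOf (Cfsg.beta M) M) ∧
      (∃ H : Subgroup G, Cfsg.IsPiHallOf {q | q.Prime ∧ q ∉ Cfsg.beta M} H ⁅M, M⁆ ∧
        Group.IsNilpotent H) ∧
      (∃ H : Subgroup G, Cfsg.IsPiHallOf {q | q.Prime ∧ q ∉ Cfsg.beta M} H (Cfsg.sigmaCore M) ∧
        Group.IsNilpotent H) ∧
      ∀ p : ℕ, p.Prime → p ∣ Nat.card M → p ∉ Cfsg.beta M →
        Cfsg.HasNormalPComplement p ↥⁅M, M⁆ ∧ Cfsg.HasNormalPComplement p ↥(Cfsg.sigmaCore M) ∧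
        ∀ q : ℕ, q.Prime → q ∣ (Cfsg.pPrimeCore p ↥M).index → q ≤ p := by
  refine betaCore_structure hG hM (BG10.alphaCore_hall hG hM).1 (BG10.alpha_subset_sigma hG hM)
    (BG10.alphaCore_le_sigmaCore hG hM) (BG10.sigmaCore_le_derived hG hM) ?_
  intro q _ hd S hS
  have : Group.IsSolvable M := hG.2.2.2 M hM.1
  have h := BG5.narrow_structure (OddOrder.odd_card hG M) hd S hS
    fun _ => BG10.pLengthLE_one hG q hM.1
  exact ⟨h.1, h.2.2.1⟩

end Cfsg.Agent.OddOrder.BG11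

namespace Cfsg.Agent.OddOrder.BG11

open Subgroup

/-- The facts of section 10 used in sections 11 and 12 hold. -/
theorem section10 {G : Type u} [Group G] [Finite G] (hG : Cfsg.IsMinSimpleOddOrder G) :
    Section10 G where
  minSimple := hG
  uniqueness := fun _ h1 h2 h3 => H41.uniqueness_theorem hG h1 h2 h3
  sigma_trans := fun _ hM _ _ hp _ h1 h2 h3 => BG10.sigma_trans' hG hM hp h1 h2 h3
  sigmaCore_hall := fun _ hM => ⟨(BG10.sigmaCore_hall hG hM).1, (BG10.sigmaCore_hall hG hM).2,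
    fun _ hn hN => BG10.eq_piCoreOf_of_hall hn hN⟩
  sigmaCore_le_derived := fun _ hM => BG10.sigmaCore_le_derived hG hM
  sigmaCore_ne_bot := fun _ hM => BG10.sigmaCore_ne_bot hG hM
  alphaCore_spec := fun _ hM => ⟨(BG10.alphaCore_hall hG hM).1, (BG10.alphaCore_hall hG hM).2,
    BG10.alphaCore_le_sigmaCore hG hM, BG10.rankLE_quotient_alphaCore hG hM,
    BG10.isNilpotent_derived_quotient hG hM⟩
  alpha_centralizer_uniq := fun _ hM _ hX hα hr => BG10.inUniqueMaximal_of_alphaCore hG hM hX hα hr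
  p2_maximal := fun _ hM _ _ hp _ hr1 => BG10.rank_two_of_not_sigma hG hM hp hr1
  plength_one := fun p _ _ hH => BG10.pLengthLE_one hG p hH
  sylow_le_derived := fun p _ P =>
    BG10.sylow_le_derived_normalizer hG (fun _ hH => BG10.pLengthLE_one hG p hH) P
  sylow_rank_two := fun _ _ P hr => sylow_rank_two_structure hG P hr
  betaCore_spec := fun _ hM => betaCore_all hG hM

end Cfsg.Agent.OddOrder.BG11
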