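import Cfsg.Agent.OddOrder.BG11.Abelian

/-!
BG 12.8: when the Sylow `p`-subgroups of `G` are abelian, `p ∈ τ₂(M)`, a Sylow subgroup of a
complement to `M_σ` is normal in it.
-/

set_option autoImplicit false

universe u

namespace Cfsg.Agent.OddOrder.BG11

open Subgroup H40

variable {G : Type u} [Group G] [Finite G] {p : ℕ} [hp : Fact p.Prime]

omit hp in
/-- The derived subgroup of `K L` lies in `K L'`. -/
theorem derived_sup_le {K L : Subgroup G} (hL : L ≤ normalizer (K : Set G)) :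
    ⁅K ⊔ L, K ⊔ L⁆ ≤ K ⊔ ⁅L, L⁆ := by
  set X := normalizer (K : Set G)
  set K₀ := K.subgroupOf X
  set L₀ := L.subgroupOf X
  have : K₀.Normal := normal_in_normalizer
  have hK₀ : K₀.map X.subtype = K := by rw [subgroupOf_map_subtype, inf_eq_left.mpr le_normalizer]
  have hL₀ : L₀.map X.subtype = L := by rw [subgroupOf_map_subtype, inf_eq_left.mpr hL]
  set π := QuotientGroup.mk' K₀
  have h1 : (K₀ ⊔ L₀).map π = L₀.map π := by
    rw [Subgroup.map_sup, (map_eq_bot_iff K₀).mpr (QuotientGroup.ker_mk' K₀).ge, bot_sup_eq]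
  have h2 : ⁅K₀ ⊔ L₀, K₀ ⊔ L₀⁆ ≤ K₀ ⊔ ⁅L₀, L₀⁆ := by
    intro x hx
    have h3 := mem_map_of_mem π hx
    rw [map_commutator, h1, ← map_commutator] at h3
    have h4 : x ∈ (⁅L₀, L₀⁆.map π).comap π := h3
    rwa [comap_map_eq, QuotientGroup.ker_mk', sup_comm] at h4
  have h5 := map_mono (f := X.subtype) h2
  rwa [map_commutator, Subgroup.map_sup, Subgroup.map_sup, map_commutator, hK₀, hL₀] at h5

namespace Section10

variable (S10 : Section10 G) {M E : Subgroup G}
include S10

/-- A Sylow subgroup of the complement is normal when the Sylow subgroups of `G` are abelian. -/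
theorem sylow_normal_of_abelian (hM : IsCoatom M) (hE : Cfsg.IsComplIn E (Cfsg.sigmaCore M) M)
    (hp2 : p ∈ Cfsg.tau2 M) (hab : ∀ S : Sylow p G, IsMulCommutative (S : Subgroup G))
    {A P : Subgroup G} (hA : A ≤ E ∧ Cfsg.IsElementaryAbelian p A ∧ Nat.card A = p ^ 2)
    (hP : IsSylowOf p P M) (hAP : A ≤ P) (hPE : P ≤ E) :
    (∃ S : Sylow p G, (S : Subgroup G) = P) ∧ E ≤ normalizer (P : Set G) := by
  have hG := S10.minSimple
  obtain ⟨hAE, hAe, hA2⟩ := hA
  have hs := hp2.2.1
  have hAM := hAE.trans hE.1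
  obtain ⟨-, ⟨-, hMN, -⟩, -⟩ := S10.compl_structure hM hE hp2 ⟨hAE, hAe, hA2⟩
  obtain ⟨A₀, EX⟩ := S10.exists_exc hM hs hAM hAe hA2
  set C := centralizer (A : Set G)
  have hCM : C ≤ M := S10.centralizer_le hM hAM hAe hA2
  have hCE : C ≤ E := (le_inf hCM (centralizer_le_normalizer _)).trans hMN.le
  obtain ⟨S, hS⟩ := hP.2.1.exists_le_sylow
  have hSC : (S : Subgroup G) ≤ C := fun x hx => mem_centralizer_iff.mpr fun a ha =>
    congrArg Subtype.val ((hab S).is_comm.comm (⟨a, hS (hAP ha)⟩ : (S : Subgroup G)) ⟨x, hx⟩)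
  have hSP : P = (S : Subgroup G) := (hP.eq_of_le S.isPGroup' hS (hSC.trans hCM))
  refine ⟨⟨S, hSP.symm⟩, ?_⟩
  have hPC : P ≤ C := hSP.le.trans hSC
  set K := H41.pCorePrime p C with hK
  set N := normalizer (A : Set G)
  have hNC : N ≤ normalizer (C : Set G) := fun n hn =>
    cj_eq_iff.mp (by rw [cj_centralizer, cj_eq_iff.mpr hn])
  have hNK : N ≤ normalizer (K : Set G) := by
    rw [hK, H41.pCorePrime]
    have := Cores.pPrimeCore_characteristic (p := p) (G := C)
    exact Components.le_normalizer_map_characteristic _ hNC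
  have hKC : K ≤ C := H41.pCorePrime_le C
  have hpK : ¬ p ∣ Nat.card K :=
    hp.out.coprime_iff_not_dvd.mp (H41.coprime_pCorePrime (p := p) C).symm
  have hPN : P ≤ ⁅N, N⁆ := by
    refine le_trans ?_ (commutator_mono (EX.normalizer_sylow_le_normalizer S10 hP hAP)
      (EX.normalizer_sylow_le_normalizer S10 hP hAP))
    rw [hSP]
    exact S10.sylow_le_derived p S
  -- `P` centralises a Sylow subgroup of `K` for each prime
  have key : K ≤ centralizer (P : Set G) := by
    refine Coprime.le_of_exists_sylow_le fun r hr => ?_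
    have : Fact r.Prime := ⟨hr⟩
    by_cases hrK : r ∣ Nat.card K
    swap
    · obtain ⟨T⟩ : Nonempty (Sylow r K) := inferInstance
      refine ⟨T, ?_⟩
      have h1 : Nat.card ((T : Subgroup K).map K.subtype) = 1 := by
        rw [card_map_of_injective K.subtype_injective, T.card_eq_multiplicity,
          Nat.factorization_eq_zero_of_not_dvd hrK, pow_zero]
      rw [eq_bot_of_card_eq _ h1]
      exact bot_le
    obtain ⟨R, hR⟩ := exists_sylowOf r K
    have hrp : r ≠ p := fun e => hpK (e ▸ hrK)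
    have hrs : r ∉ Cfsg.sigma M := not_mem_sigma_of_dvd_compl (S10.sigmaCore_hall M hM).1 hE hr
      (hrK.trans (card_dvd_of_le (hKC.trans hCE)))
    set L := N ⊓ normalizer (R : Set G)
    have hRM : R ≤ M := (hR.1.trans hKC).trans hCM
    have hNKL : N ≤ K ⊔ L := le_sup_normalizer (hKC.trans (centralizer_le_normalizer _)) hNK hR
    have hPL : P ≤ K ⊔ ⁅L, L⁆ := (hPN.trans (commutator_mono hNKL hNKL)).trans
      (derived_sup_le (inf_le_left.trans hNK))
    have hLK : ⁅L, L⁆ ≤ normalizer (K : Set G) := (derived_le L).trans (inf_le_left.trans hNK)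
    obtain ⟨T, hT⟩ := exists_sylowOf p ⁅L, L⁆
    -- `T` centralises `R`
    have hTR : T ≤ centralizer (R : Set G) := by
      intro t ht
      have hrodd : r ≠ 2 := ne_two_of_mem_card hG hrK
      have hsolL : Group.IsSolvable L :=
        hG.2.2.2 L fun e => by
          have : (L : Subgroup G) ≤ N := inf_le_left
          rw [e, top_le_iff] at this
          exact normalizer_ne_top' hG (ne_bot_of_card (hA2 ▸ Nat.one_lt_pow two_ne_zero hp.out.one_lt))
            (ne_top_of_le_coatom hM hAM) this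
      obtain ⟨k, hk⟩ := BG4.exists_pow_mem_centralizer_of_rank_two hrodd hR.2.1
        (pRankLE_of_le hRM (S10.pRankLE_two hM hrs)) (show L ≤ normalizer (R : Set G) from inf_le_right)
        hsolL (odd_card hG L) (hT.1 ht)
      obtain ⟨j, hj⟩ := IsPGroup.iff_orderOf.mp hT.2.1 ⟨t, ht⟩
      rw [Subgroup.orderOf_mk] at hj
      obtain ⟨m, hm⟩ := exists_pow_eq_self_of_coprime (x := t) (n := r ^ k)
        (by rw [hj]; exact (Nat.Coprime.pow k j ((Nat.coprime_primes hr hp.out).mpr hrp)))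
      rw [← hm]
      exact pow_mem hk m
    have hTsyl : IsSylowOf p T (K ⊔ ⁅L, L⁆) := by
      obtain ⟨U, hU, hTU⟩ := exists_sylowOf_ge' hT.2.1 (hT.1.trans (le_sup_right : _ ≤ K ⊔ ⁅L, L⁆))
      have hidx : ¬ p ∣ (⁅L, L⁆).relIndex (K ⊔ ⁅L, L⁆) := by
        intro hd
        refine hpK (hd.trans ?_)
        have : (K.subgroupOf (K ⊔ ⁅L, L⁆)).Normal :=
          normal_subgroupOf_of_le_normalizer (sup_le le_normalizer hLK)
        have hX : ⁅L, L⁆.relIndex (K ⊔ ⁅L, L⁆) * Nat.card ↥⁅L, L⁆ =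
            Nat.card ↥(K ⊔ ⁅L, L⁆) := by
          have h := relIndex_mul_relIndex ⊥ ⁅L, L⁆ (K ⊔ ⁅L, L⁆) bot_le le_sup_right
          rw [relIndex_bot_left, relIndex_bot_left] at h
          rw [mul_comm]
          exact h
        have hY : Nat.card ↥(K ⊔ ⁅L, L⁆) ∣ Nat.card K * Nat.card ↥⁅L, L⁆ := by
          have h := relIndex_mul_relIndex ⊥ K (K ⊔ ⁅L, L⁆) bot_le le_sup_left
          rw [relIndex_bot_left, relIndex_bot_left] at h
          rw [← h]
          refine mul_dvd_mul_left _ ?_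
          have h' : K.relIndex (K ⊔ ⁅L, L⁆) = K.relIndex ⁅L, L⁆ := by
            have hn := relIndex_sup_right (H := ⁅L, L⁆.subgroupOf (K ⊔ ⁅L, L⁆))
              (K := K.subgroupOf (K ⊔ ⁅L, L⁆))
            rw [← subgroupOf_sup le_sup_right le_sup_left,
              relIndex_subgroupOf (sup_le le_sup_right le_sup_left),
              relIndex_subgroupOf le_sup_right, sup_comm] at hn
            exact hn
          exact h' ▸ relIndex_dvd_card _ _
        rw [← hX] at hY
        exact Nat.dvd_of_mul_dvd_mul_right Nat.card_pos hY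
      have h1 := hT.2.2
      refine ⟨hT.1.trans le_sup_right, hT.2.1, ?_⟩
      have h := relIndex_mul_relIndex ⊥ ⁅L, L⁆ (K ⊔ ⁅L, L⁆) bot_le le_sup_right
      rw [relIndex_bot_left, relIndex_bot_left] at h
      have hpos : (⁅L, L⁆).relIndex (K ⊔ ⁅L, L⁆) ≠ 0 := fun e => by
        rw [e, mul_zero] at h
        exact Nat.card_pos.ne' h.symm
      rw [h1, ← h, Nat.factorization_mul Nat.card_pos.ne' hpos, Finsupp.add_apply,
        Nat.factorization_eq_zero_of_not_dvd hidx, add_zero]
    have hPsyl : IsSylowOf p P (K ⊔ ⁅L, L⁆) :=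
      isSylowOf_mono (hSP ▸ isSylowOf_top S) hPL le_top
    obtain ⟨m, hm, e⟩ := exists_conj_eq hPsyl hTsyl
    have hmK : m ∈ normalizer (K : Set G) := (sup_le le_normalizer hLK) hm
    have hR' : IsSylowOf r (cj m R) K := hR.map_conj hmK
    obtain ⟨U, hU⟩ := exists_sylow_eq hR'
    refine ⟨U, ?_⟩
    rw [hU, le_centralizer_iff, ← e, ← cj_centralizer]
    exact cj_mono m hTR
  have hdC : p ∣ Nat.card C := (dvd_of_elemAb hA2 hAP).trans (card_dvd_of_le hPC)
  have hrC : Cfsg.PRankLE p 2 C := pRankLE_of_le hCM (S10.pRankLE_two hM hs)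
  have hCP : C ≤ normalizer (P : Set G) :=
    (BG10.le_sup_normalizer_of_rank_two hG (ne_top_of_le_coatom hM hCM) hrC hdC
      (isSylowOf_mono hP hPC hCM)).trans
      (sup_le (key.trans (centralizer_le_normalizer _)) inf_le_right)
  intro e he
  refine cj_eq_iff.mp ?_
  have heN : e ∈ N := (S10.compl_le_normalizer hM hE hs hAE hAe hA2).1 he
  have h1 : IsSylowOf p (cj e P) C := by
    have h := isSylowOf_cj (isSylowOf_mono hP hPC hCM) e
    rwa [cj_eq_iff.mpr (hNC heN)] at h
  obtain ⟨c, hc, e'⟩ := exists_conj_eq h1 (isSylowOf_mono hP hPC hCM)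
  rw [cj_eq_iff.mpr (hCP hc)] at e'
  exact e'.symm

end Section10

end Cfsg.Agent.OddOrder.BG11
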