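import Cfsg.Agent.Coprime.FpfElem
import Cfsg.Agent.Coprime.Action
import Cfsg.Agent.Coprime.Centralize
import Cfsg.Agent.Components.PAction
import Cfsg.Agent.PGroups.Critical

/-!
An element of prime order without fixed points on a nilpotent group centralizes the image of every
coprime group of odd order which it normalizes.
-/

set_option autoImplicit false

universe u

namespace Cfsg.Agent.OddOrder.BG11

open Subgroup
open scoped commutatorElement

/-- `[⟨t⟩, K]` acts trivially on the nilpotent group `V`. -/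
theorem commutator_le_centralizer_of_fpf {r : ℕ} [hr : Fact r.Prime] :
    ∀ (n : ℕ) {X : Type u} [Group X] [Finite X] (V : Subgroup X), Nat.card V = n →
      Group.IsNilpotent V → ∀ (t : X), t ^ r = 1 → t ∈ normalizer (V : Set X) →
      ¬ r ∣ Nat.card V → (∀ v ∈ V, t * v = v * t → v = 1) → ∀ K : Subgroup X,
      K ≤ normalizer (V : Set X) → t ∈ normalizer (K : Set X) →
      (Nat.card K).Coprime (Nat.card V) → ¬ r ∣ Nat.card K → Odd (Nat.card K) →
      ⁅zpowers t, K⁆ ≤ centralizer (V : Set X) := by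
  intro n
  induction n using Nat.strong_induction_on with
  | _ n ih =>
  intro X _ _ V hn hnil t htr htV hrV hfix K hKV htK hcop hrK hodd
  rcases eq_or_ne V ⊥ with rfl | hV
  · intro x _
    exact mem_centralizer_iff.mpr fun y hy => by
      rw [SetLike.mem_coe, mem_bot] at hy
      rw [hy, one_mul, mul_one]
  have : Nontrivial V := (nontrivial_iff_ne_bot V).mpr hV
  have hZ : Nontrivial (center V) :=
    (nontrivial_iff_ne_bot _).mpr (Group.IsNilpotent.center_ne_bot (G := V))
  obtain ⟨l, hl, hld⟩ := Nat.exists_prime_and_dvd (n := Nat.card (center V))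
    (Finite.one_lt_card_iff_nontrivial.mpr hZ).ne'
  have : Fact l.Prime := ⟨hl⟩
  let W₀ : Subgroup V :=
    { carrier := {x | x ∈ center V ∧ x ^ l = 1}
      one_mem' := ⟨one_mem _, one_pow _⟩
      mul_mem' := fun {a b} ha hb => ⟨mul_mem ha.1 hb.1, by
        rw [Commute.mul_pow (Subgroup.mem_center_iff.mp hb.1 a), ha.2, hb.2,
          one_mul]⟩
      inv_mem' := fun {a} ha => ⟨inv_mem ha.1, by rw [inv_pow, ha.2, inv_one]⟩ }
  have hW₀ : W₀.Characteristic := characteristic_iff_le_comap.mpr fun φ x hx =>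
    ⟨(PGroups.apply_mem_iff_of_characteristic (centerCharacteristic (G := V)) φ).mpr hx.1,
      show φ x ^ l = 1 by rw [← map_pow, hx.2, map_one]⟩
  set W := W₀.map V.subtype with hW
  have hWV : W ≤ V := map_subtype_le _
  have hWne : W ≠ ⊥ := fun e => by
    obtain ⟨z, hz⟩ := exists_prime_orderOf_dvd_card' (G := center V) l hld
    have h1 : ((z : V) : X) ∈ W :=
      mem_map_of_mem _ ⟨z.2, orderOf_dvd_iff_pow_eq_one.mp (by rw [Subgroup.orderOf_coe, hz])⟩
    rw [e, mem_bot] at h1
    rw [← Subgroup.orderOf_coe, ← Subgroup.orderOf_coe, h1, orderOf_one] at hz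
    exact hl.one_lt.ne hz
  have hWe : ∀ v ∈ W, v ^ l = 1 := by
    rintro _ ⟨x, hx, rfl⟩
    rw [← map_pow, hx.2, map_one]
  have : IsMulCommutative W := by
    refine ⟨⟨?_⟩⟩
    rintro ⟨_, a, ha, rfl⟩ ⟨_, b, hb, rfl⟩
    exact Subtype.ext (show (a : X) * b = b * a from
      congrArg Subtype.val (Subgroup.mem_center_iff.mp hb.1 a))
  have hNW : normalizer (V : Set X) ≤ normalizer (W : Set X) :=
    Components.le_normalizer_map_characteristic W₀ le_rfl
  have hlV : l ∣ Nat.card V := hld.trans (card_subgroup_dvd_card _)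
  set C := ⁅zpowers t, K⁆ with hC
  have hCK : C ≤ K := le_normalizer_iff_commutator_le_right.mp (zpowers_le.mpr htK)
  have hlr : l ≠ r := fun e => hrV (e ▸ hlV)
  -- `C` centralises `W`
  have hCW : C ≤ centralizer (W : Set X) := by
    refine Coprime.FpfElem.commutator_le_centralizer (l := l) W hWe t htr hlr (hNW htV)
      (fun v hv => hfix v (hWV hv)) K (hKV.trans hNW) htK fun s hs hsd => ⟨?_, ?_, ?_⟩
    · rintro rfl
      exact Nat.not_coprime_of_dvd_of_dvd hs.one_lt hsd hlV hcop
    · rintro rfl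
      exact hrK hsd
    · rintro ⟨rfl, -⟩
      exact Nat.not_even_iff_odd.mpr hodd (even_iff_two_dvd.mpr hsd)
  -- and, by induction, `V / W`
  set Y := normalizer (W : Set X)
  set N := W.subgroupOf Y with hN
  have : N.Normal := normal_in_normalizer
  set π := QuotientGroup.mk' N with hπ
  have hVY : V ≤ Y := le_normalizer.trans hNW
  set V' := (V.subgroupOf Y).map π with hV'
  have hk : ∀ y : Y, π y = 1 ↔ (y : X) ∈ W := fun y => QuotientGroup.eq_one_iff y
  have hcardV' : Nat.card V' < n := by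
    have h1 : Nat.card V' * Nat.card W = Nat.card V := by
      have h2 := Subgroup.relIndex_mul_relIndex ⊥ N (V.subgroupOf Y) bot_le
        (fun y hy => hWV hy)
      rw [relIndex_bot_left, relIndex_bot_left] at h2
      have h3 : Nat.card V' = N.relIndex (V.subgroupOf Y) := by
        have h4 := relIndex_ker (K := V.subgroupOf Y) π
        rwa [hπ, QuotientGroup.ker_mk', eq_comm] at h4
      rw [h3, ← Nat.card_congr (subgroupOfEquivOfLe hVY).toEquiv,
        ← Nat.card_congr (subgroupOfEquivOfLe (hWV.trans hVY)).toEquiv, mul_comm]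
      exact h2
    rw [← hn, ← h1]
    exact lt_mul_of_one_lt_right Nat.card_pos (W.one_lt_card_iff_ne_bot.mpr hWne)
  have hdvd : Nat.card V' ∣ Nat.card V := by
    rw [← Nat.card_congr (subgroupOfEquivOfLe hVY).toEquiv]
    exact card_map_dvd _ _
  have hnil' : Group.IsNilpotent V' := by
    have : Group.IsNilpotent (V.subgroupOf Y) :=
      Group.nilpotent_of_mulEquiv (subgroupOfEquivOfLe hVY).symm
    exact Group.nilpotent_of_surjective _ ((π.subgroupMap_surjective (V.subgroupOf Y)))
  set T : Y := ⟨t, hNW htV⟩ with hT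
  have hKY : K ≤ Y := hKV.trans hNW
  have hnormV : ∀ y : Y, (y : X) ∈ normalizer (V : Set X) → π y ∈ normalizer (V' : Set _) := by
    intro y hy
    refine le_normalizer_map π ⟨y, mem_normalizer_iff.mpr fun v => ?_, rfl⟩
    exact mem_normalizer_iff.mp hy (v : X)
  have hfix' : ∀ v ∈ V', π T * v = v * π T → v = 1 := by
    rintro _ ⟨v, hv, rfl⟩ hcomm
    obtain ⟨c, hc, hcv⟩ := Coprime.exists_centralizer_mem_of_comm_mem
      (A := zpowers t) (K := V) (zpowers_le.mpr htV)
      (by
        rw [Nat.card_zpowers]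
        exact Nat.Coprime.coprime_dvd_left (orderOf_dvd_of_pow_eq_one htr)
          (hr.out.coprime_iff_not_dvd.mpr hrV))
      (Or.inl inferInstance) hWV (le_normalizer.trans hNW) (zpowers_le.mpr (hNW htV)) hv
      (fun a ha => by
        obtain ⟨i, rfl⟩ := mem_zpowers_iff.mp ha
        have h1 : π (T ^ i * v * (T ^ i)⁻¹ * v⁻¹) = 1 := by
          rw [map_mul, map_mul, map_mul, map_inv, map_inv, map_zpow,
            (Commute.zpow_left hcomm i).eq, mul_inv_cancel_right, mul_inv_cancel]
        simpa [T] using (hk _).mp h1)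
    rw [hfix c hc.1 (mem_centralizer_iff.mp hc.2 t (mem_zpowers t)), mul_one] at hcv
    exact (hk v).mpr (by simpa using W.inv_mem hcv)
  have hC' : ⁅zpowers (π T), (K.subgroupOf Y).map π⁆ ≤ centralizer (V' : Set _) := by
    refine ih _ hcardV' V' rfl hnil' (π T) ?_ (hnormV T htV) (fun h => hrV (h.trans hdvd))
      hfix' _ ?_ (le_normalizer_map π ⟨T, mem_normalizer_iff.mpr fun y =>
        mem_normalizer_iff.mp htK (y : X), rfl⟩) ?_ ?_ ?_
    · rw [← map_pow, show T ^ r = 1 from Subtype.ext htr, map_one]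
    · rintro _ ⟨y, hy, rfl⟩
      exact hnormV y (hKV hy)
    · refine (hcop.coprime_dvd_left ?_).coprime_dvd_right hdvd
      rw [← Nat.card_congr (subgroupOfEquivOfLe hKY).toEquiv]
      exact card_map_dvd _ _
    · intro h
      refine hrK (h.trans ?_)
      rw [← Nat.card_congr (subgroupOfEquivOfLe hKY).toEquiv]
      exact card_map_dvd _ _
    · refine hodd.of_dvd_nat ?_
      rw [← Nat.card_congr (subgroupOfEquivOfLe hKY).toEquiv]
      exact card_map_dvd _ _
  have hCY : C ≤ Y := hCK.trans hKY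
  have hVC : ⁅V, C⁆ ≤ W := by
    refine commutator_le.mpr fun v hv c hc => ?_
    have hcm : π ⟨c, hCY hc⟩ ∈ ⁅zpowers (π T), (K.subgroupOf Y).map π⁆ := by
      rw [← MonoidHom.map_zpowers, ← map_commutator]
      refine mem_map_of_mem π ?_
      have h1 : ⁅(zpowers T).map Y.subtype, (K.subgroupOf Y).map Y.subtype⁆ = C := by
        rw [MonoidHom.map_zpowers, subgroupOf_map_subtype, inf_eq_left.mpr hKY]
        rfl
      rw [← map_commutator] at h1
      obtain ⟨z, hz, hzc⟩ := h1.ge hc
      rwa [show (⟨c, hCY hc⟩ : Y) = z from Subtype.ext hzc.symm]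
    have h2 : π (⁅(⟨v, hVY hv⟩ : Y), ⟨c, hCY hc⟩⁆) = 1 := by
      rw [map_commutatorElement, commutatorElement_eq_one_iff_commute]
      exact mem_centralizer_iff.mp (hC' hcm) _ ⟨_, hv, rfl⟩
    exact (hk _).mp h2
  exact Coprime.le_centralizer_of_commutator_le (hCK.trans hKV)
    (hcop.coprime_dvd_left (card_dvd_of_le hCK)) hVC hCW

/-- The form for a subgroup of prime order. -/
theorem commutator_le_centralizer_of_fpf' {X : Type u} [Group X] [Finite X] {r : ℕ}
    [hr : Fact r.Prime] {V A K : Subgroup X} (hV : Group.IsNilpotent V) (hA : Nat.card A = r)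
    (hAV : A ≤ normalizer (V : Set X)) (hrV : ¬ r ∣ Nat.card V)
    (hfix : V ⊓ centralizer (A : Set X) = ⊥) (hKV : K ≤ normalizer (V : Set X))
    (hAK : A ≤ normalizer (K : Set X)) (hcop : (Nat.card K).Coprime (Nat.card V))
    (hrK : ¬ r ∣ Nat.card K) (hodd : Odd (Nat.card K)) :
    ⁅A, K⁆ ≤ centralizer (V : Set X) := by
  obtain ⟨⟨t, htA⟩, ht1'⟩ := ne_bot_iff_exists_ne_one.mp (fun e => hr.out.one_lt.ne' (by
    rw [← hA, e, card_bot]) : A ≠ ⊥)
  have ht1 : t ≠ 1 := fun e => ht1' (Subtype.ext e)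
  have hAt : A = zpowers t := by
    refine (eq_of_le_of_card_ge (zpowers_le.mpr htA) ?_).symm
    rw [hA, Nat.card_zpowers]
    refine Nat.le_of_dvd (orderOf_pos t) (dvd_of_eq ?_)
    rw [orderOf_eq_prime (p := r) (orderOf_dvd_iff_pow_eq_one.mp ?_) ht1]
    rw [← hA]
    exact A.orderOf_dvd_natCard htA
  subst hAt
  refine commutator_le_centralizer_of_fpf _ V rfl hV t ?_ (hAV htA) hrV (fun v hv hc => ?_) K hKV
    (hAK htA) hcop hrK hodd
  · rw [← hA, Nat.card_zpowers]
    exact pow_orderOf_eq_one t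
  · have h1 : v ∈ V ⊓ centralizer (zpowers t : Set X) := ⟨hv, mem_centralizer_iff.mpr fun a ha => by
      obtain ⟨i, rfl⟩ := mem_zpowers_iff.mp ha
      exact (Commute.zpow_left hc i).eq⟩
    rwa [hfix, mem_bot] at h1

end Cfsg.Agent.OddOrder.BG11
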