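import Cfsg.Agent.OddOrder.BG11.LocalBasic

/-!
Sylow subgroups of subgroups, the set `σ(M)` in these terms, invariance under conjugation.
-/

set_option autoImplicit false

namespace Cfsg.Agent.OddOrder.BG11

open Subgroup H40
open scoped Pointwise

variable {G : Type*} [Group G] [Finite G] {p : ℕ} [hp : Fact p.Prime]

omit hp in
theorem isSylowOf_cj {P M : Subgroup G} (h : IsSylowOf p P M) (g : G) :
    IsSylowOf p (cj g P) (cj g M) :=
  ⟨cj_mono g h.1, h.2.1.map _, by rw [card_cj, card_cj]; exact h.2.2⟩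

theorem exists_sylow_eq {P M : Subgroup G} (h : IsSylowOf p P M) :
    ∃ S : Sylow p M, (S : Subgroup M).map M.subtype = P := by
  obtain ⟨S, hS⟩ := (h.2.1.comap_subtype (K := M)).exists_le_sylow
  refine ⟨S, (h.eq_of_le (S.isPGroup'.map _) ?_ (map_subtype_le _)).symm⟩
  exact fun v hv => ⟨⟨v, h.1 hv⟩, hS hv, rfl⟩

theorem exists_conj_le {R S M : Subgroup G} (hS : IsSylowOf p S M) (hR : IsPGroup p R)
    (hRM : R ≤ M) : ∃ m ∈ M, cj m R ≤ S := by
  obtain ⟨S₀, hS₀⟩ := exists_sylow_eq hS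
  obtain ⟨T, hT⟩ := (hR.comap_subtype (K := M)).exists_le_sylow
  obtain ⟨e, he⟩ := MulAction.exists_smul_eq (↥M) T S₀
  refine ⟨e, e.2, ?_⟩
  rintro _ ⟨r, hr, rfl⟩
  rw [← hS₀, ← he, Sylow.coe_subgroup_smul]
  exact ⟨MulAut.conj e ⟨r, hRM hr⟩, smul_mem_pointwise_smul _ _ _ (hT hr), rfl⟩

theorem exists_conj_eq {R S M : Subgroup G} (hS : IsSylowOf p S M) (hR : IsSylowOf p R M) :
    ∃ m ∈ M, cj m R = S := by
  obtain ⟨m, hm, h⟩ := exists_conj_le hS hR.2.1 hR.1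
  exact ⟨m, hm, eq_of_le_of_card_ge h (by rw [card_cj, hR.2.2, hS.2.2])⟩

theorem exists_sylowOf_ge' {U M : Subgroup G} (hU : IsPGroup p U) (hUM : U ≤ M) :
    ∃ S, IsSylowOf p S M ∧ U ≤ S := by
  obtain ⟨T, hT⟩ := (hU.comap_subtype (K := M)).exists_le_sylow
  exact ⟨_, isSylowOf_map T, fun v hv => ⟨⟨v, hUM hv⟩, hT hv, rfl⟩⟩

theorem exists_sylowOf (p : ℕ) [Fact p.Prime] (M : Subgroup G) : ∃ S, IsSylowOf p S M :=
  ⟨_, isSylowOf_map (Classical.arbitrary (Sylow p M))⟩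

theorem isSylowOf_mono {P H M : Subgroup G} (h : IsSylowOf p P M) (hPH : P ≤ H) (hHM : H ≤ M) :
    IsSylowOf p P H := by
  obtain ⟨S, hS, hPS⟩ := exists_sylowOf_ge' h.2.1 hPH
  rwa [h.eq_of_le hS.2.1 hPS (hS.1.trans hHM)]

omit hp in
theorem sylowOf_top_iff {P : Subgroup G} :
    IsSylowOf p P ⊤ ↔ IsPGroup p P ∧ Nat.card P = p ^ (Nat.card G).factorization p := by
  simp [IsSylowOf]

theorem isSylowOf_top (S : Sylow p G) : IsSylowOf p (S : Subgroup G) ⊤ :=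
  sylowOf_top_iff.mpr ⟨S.isPGroup', S.card_eq_multiplicity⟩

theorem sylowOf_ne_bot {P M : Subgroup G} (h : IsSylowOf p P M) (hd : p ∣ Nat.card M) : P ≠ ⊥ := by
  rintro rfl
  have h1 := h.2.2
  rw [card_bot] at h1
  have h2 : 0 < (Nat.card M).factorization p :=
    hp.out.factorization_pos_of_dvd Nat.card_pos.ne' hd
  exact absurd h1 (Nat.one_lt_pow h2.ne' hp.out.one_lt).ne

/-- The Frattini argument. -/
theorem le_sup_normalizer {N M P : Subgroup G} (hNM : N ≤ M) (hn : M ≤ normalizer (N : Set G))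
    (hP : IsSylowOf p P N) : M ≤ N ⊔ (M ⊓ normalizer (P : Set G)) := by
  intro m hm
  have hP' : IsSylowOf p (cj m P) N := hP.map_conj (hn hm)
  obtain ⟨n, hn', e⟩ := exists_conj_eq hP hP'
  rw [← cj_mul] at e
  have h : n * m ∈ M ⊓ normalizer (P : Set G) := ⟨M.mul_mem (hNM hn') hm, cj_eq_iff.mp e⟩
  have : m = n⁻¹ * (n * m) := by group
  rw [this]
  exact mul_mem (mem_sup_left (inv_mem hn')) (mem_sup_right h)

theorem normalizer_le_of_mem_sigma {M P : Subgroup G} (h : p ∈ Cfsg.sigma M)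
    (hP : IsSylowOf p P M) : normalizer (P : Set G) ≤ M := by
  obtain ⟨-, -, Q, hQ⟩ := h
  obtain ⟨m, hm, e⟩ := exists_conj_eq hP (isSylowOf_map Q)
  rw [← e, ← cj_normalizer]
  exact (cj_mono m hQ).trans (cj_eq_of_mem hm).le

theorem mem_sigma_of_normalizer_le {M P : Subgroup G} (hd : p ∣ Nat.card M) (hP : IsSylowOf p P M)
    (h : normalizer (P : Set G) ≤ M) : p ∈ Cfsg.sigma M := by
  obtain ⟨S, hS⟩ := exists_sylow_eq hP
  exact ⟨hp.out, hd, S, hS.symm ▸ h⟩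

theorem not_normalizer_le {M P : Subgroup G} (h : p ∉ Cfsg.sigma M) (hd : p ∣ Nat.card M)
    (hP : IsSylowOf p P M) : ¬ normalizer (P : Set G) ≤ M :=
  fun h' => h (mem_sigma_of_normalizer_le hd hP h')

/-- Conjugation invariance of `σ`. -/
theorem mem_sigma_cj {M : Subgroup G} (g : G) (h : p ∈ Cfsg.sigma M) : p ∈ Cfsg.sigma (cj g M) := by
  obtain ⟨P, hP⟩ := exists_sylowOf p M
  refine mem_sigma_of_normalizer_le (by rw [card_cj]; exact h.2.1) (isSylowOf_cj hP g) ?_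
  rw [← cj_normalizer]
  exact cj_mono g (normalizer_le_of_mem_sigma h hP)

omit [Finite G] hp in
theorem pRankLE_cj {k : ℕ} {M : Subgroup G} (g : G) (h : Cfsg.PRankLE p k M) :
    Cfsg.PRankLE p k (cj g M) :=
  pRankLE_congr ((MulAut.conj g).subgroupMap M) h

end Cfsg.Agent.OddOrder.BG11
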