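import Cfsg.Agent.OddOrder.BG11.Core
import Cfsg.Agent.OddOrder.BG11.BetaCore
import Cfsg.Agent.Coprime.Generation
import Cfsg.Agent.Fusion.Complements
import Cfsg.Agent.S1392

/-!
Maximal elementary abelian subgroups of order `p ^ 2` in a minimal simple group of odd order and the
invariant subgroups they have.
-/

set_option autoImplicit false

universe u

namespace Cfsg.Agent.OddOrder.BG11

open Subgroup H40

variable {G : Type u} [Group G] [Finite G] {p : ℕ} [hp : Fact p.Prime]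

/-- A `p`-group, `p` odd, of rank at most one is cyclic. -/
theorem isCyclic_of_pRankLE_one {P : Subgroup G} (hp2 : p ≠ 2) (hP : IsPGroup p P)
    (hr : Cfsg.PRankLE p 1 P) : IsCyclic P := by
  rcases eq_or_ne P ⊥ with rfl | hne
  · infer_instance
  obtain ⟨z, hzP, hzc, hzo⟩ := PGroups.exists_mem_center_orderOf_eq hP (⊤ : Subgroup P)
    (by
      intro e
      refine hne (eq_bot_iff.mpr fun x hx => ?_)
      have h1 : (⟨x, hx⟩ : P) ∈ (⊥ : Subgroup P) := e ▸ mem_top _
      exact mem_bot.mpr (congrArg Subtype.val (mem_bot.mp h1)))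
  refine H61.isCyclic_of_card_pow_eq_one_le hp2 hP ?_
  have hroot : ∀ x : P, x ^ p = 1 → x ∈ zpowers z := fun x hx => by
    have hzp : z ^ p = 1 := hzo ▸ pow_orderOf_eq_one z
    have he : Cfsg.IsElementaryAbelian p (zpowers z ⊔ zpowers x) :=
      BG5.elementary_sup (BG5.elementary_zpowers hzp) (BG5.elementary_zpowers hx)
        (zpowers_le.mpr (mem_centralizer_iff.mpr fun a ha => by
          obtain ⟨i, rfl⟩ := mem_zpowers_iff.mp ha
          exact (Commute.zpow_left (mem_center_iff.mp hzc x).symm i).eq))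
    have h2 : Nat.card ↥(zpowers z ⊔ zpowers x) ≤ p ^ 1 := hr _ he.1 he.2
    have h3 : zpowers z = zpowers z ⊔ zpowers x :=
      eq_of_le_of_card_ge le_sup_left (by rwa [Nat.card_zpowers, hzo, ← pow_one p])
    rw [h3]
    exact mem_sup_right (mem_zpowers x)
  refine le_of_le_of_eq (Nat.card_le_card_of_injective
    (fun y => (⟨(y.1 : P), hroot _ y.2⟩ : zpowers z)) ?_) (by rw [Nat.card_zpowers, hzo])
  exact fun a b hab => Subtype.ext (congrArg (fun t : zpowers z => (t : P)) hab)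

omit [Finite G] hp in
/-- The derived subgroup of a subgroup lies in it. -/
theorem derived_le (M : Subgroup G) : ⁅M, M⁆ ≤ M :=
  commutator_le.mpr fun _ ha _ hb => mul_mem (mul_mem (mul_mem ha hb) (inv_mem ha)) (inv_mem hb)

omit hp in
theorem le_normalizer_derived (M : Subgroup G) : M ≤ normalizer ((⁅M, M⁆ : Subgroup G) : Set G) := fun m hm =>
  cj_eq_iff.mp (by
    rw [show cj m ⁅M, M⁆ = ⁅cj m M, cj m M⁆ from map_commutator M M _, cj_eq_of_mem hm])

/-- If every line of `A` has centralizer in `X` inside `M`, then `X ≤ M`. -/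
theorem le_of_lines {A X M : Subgroup G} (hA : Cfsg.IsElementaryAbelian p A)
    (hA2 : Nat.card A = p ^ 2) (hX : ¬ p ∣ Nat.card X) (hAX : A ≤ normalizer (X : Set G))
    (h : ∀ A₀ ≤ A, Nat.card A₀ = p → X ⊓ centralizer (A₀ : Set G) ≤ M) : X ≤ M := by
  haveI := hA.1
  refine Coprime.le_of_centralizer_noncyclic_le (elemAb_not_cyclic hA hA2.ge) hAX
    (coprime_card_of_isPGroup (elemAb_isPGroup hA) hX) fun a ha ha1 => ?_
  refine le_trans (inf_le_inf_left X fun c hc => ?_)
    (h (zpowers a) (zpowers_le.mpr ha) (by rw [Nat.card_zpowers, orderOf_eq_prime (hA.2 a ha) ha1]))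
  refine mem_centralizer_iff.mpr fun b hb => ?_
  obtain ⟨i, rfl⟩ := mem_zpowers_iff.mp hb
  exact (Commute.zpow_left (mem_centralizer_singleton_iff.mp hc).symm i).eq

omit hp in
/-- An invariant Sylow subgroup of `G` is a maximal invariant `q`-subgroup. -/
theorem mem_maxInv_of_sylow {q : ℕ} [hq : Fact q.Prime] {A Q : Subgroup G}
    (hQ : ∃ S : Sylow q G, (S : Subgroup G) = Q) (hAQ : A ≤ normalizer (Q : Set G)) :
    Q ∈ Cfsg.maxInvSubgroups ⊤ A {q} := by
  obtain ⟨S, rfl⟩ := hQ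
  refine ⟨⟨le_top, fun r hr hd => ?_, hAQ⟩, fun R hR hSR =>
    S.is_maximal' (H41.isPGroup_of_invSubgroups hq.out hR) hSR⟩
  obtain ⟨k, hk⟩ := IsPGroup.iff_card.mp S.isPGroup'
  rw [hk] at hd
  exact Nat.prime_eq_prime_of_dvd_pow hr hq.out hd

/-- A maximal elementary subgroup of order `p ^ 2` is no part of an ideal prime. -/
theorem not_isIdealPrime {A : Subgroup G} (hA : Cfsg.IsElementaryAbelian p A)
    (hA2 : Nat.card A = p ^ 2)
    (hmax : ∀ B : Subgroup G, Cfsg.IsElementaryAbelian p B → A ≤ B → B = A) :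
    ¬ Cfsg.IsIdealPrime p G := fun h => by
  obtain ⟨P, hAP⟩ := (elemAb_isPGroup hA).exists_le_sylow
  obtain ⟨B, -, hB, hAB⟩ := h.2.2 P A hAP hA hA2
  exact hAB.ne (hmax B hB hAB.le).symm

namespace Section10

variable (S10 : Section10 G) {M : Subgroup G}
include S10

/-- An elementary subgroup of order `p ^ 2` outside `U` is maximal elementary. -/
theorem eq_of_not_inUniqueMaximal {A : Subgroup G}
    (hA : Cfsg.IsElementaryAbelian p A) (hA2 : Nat.card A = p ^ 2)
    (hU : ¬ Cfsg.InUniqueMaximal A) :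
    ∀ B : Subgroup G, Cfsg.IsElementaryAbelian p B → A ≤ B → B = A := by
  intro B hB hAB
  by_contra hne
  refine hU (S10.uniqueness A ?_ (not_rankLE_one hA hA2 le_rfl) (Or.inr fun hr => ?_))
  · intro e
    have := hA.1
    rw [e] at this
    exact S10.minSimple.2.2.1 ⟨⟨fun a b => congrArg Subtype.val
      (this.is_comm.comm (⟨a, mem_top a⟩ : (⊤ : Subgroup G)) ⟨b, mem_top b⟩)⟩⟩
  · have hle : B ≤ centralizer (A : Set G) := fun b hb => mem_centralizer_iff.mpr fun a ha =>
      elemAb_commute hB (hAB ha) hb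
    have h1 := card_le_of_pRankLE (hr p hp.out) hle hB
    obtain ⟨k, hk⟩ := IsPGroup.iff_card.mp (elemAb_isPGroup hB)
    rw [hk] at h1
    refine hne (eq_of_le_of_card_ge hAB ?_).symm
    rw [hk, hA2]
    exact h1

theorem not_mem_beta {A : Subgroup G} (hA : Cfsg.IsElementaryAbelian p A)
    (hA2 : Nat.card A = p ^ 2)
    (hmax : ∀ B : Subgroup G, Cfsg.IsElementaryAbelian p B → A ≤ B → B = A) (M : Subgroup G) :
    p ∉ Cfsg.beta M := fun h => not_isIdealPrime hA hA2 hmax h.2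

/-- A normal `p'`-subgroup of `M` containing all `q`-subgroups, `q ∈ σ(M) - {p}`. -/
theorem exists_pPrime_normal (hM : IsCoatom M) (hd : p ∣ Nat.card M) (hb : p ∉ Cfsg.beta M) :
    ∃ K : Subgroup G, K ≤ Cfsg.sigmaCore M ∧ M ≤ normalizer (K : Set G) ∧ ¬ p ∣ Nat.card K ∧
      ∀ q : ℕ, q.Prime → q ∈ Cfsg.sigma M → q ≠ p → ∀ X : Subgroup G, X ≤ M → IsPGroup q X →
        X ≤ K := by
  have hc := ((S10.betaCore_spec M hM).2.2.2.2 p hp.out hd hb).2.1
  refine ⟨(Cfsg.pResidual p ↥(Cfsg.sigmaCore M)).map (Cfsg.sigmaCore M).subtype, map_subtype_le _,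
    Components.le_normalizer_map_characteristic _ (le_normalizer_sigmaCore M), ?_, ?_⟩
  · rw [card_map_of_injective (Cfsg.sigmaCore M).subtype_injective]
    exact Fusion.hasNormalPComplement_iff_pResidual.mp hc
  · intro q hq hs hqp X hXM hX x hx
    have : Fact q.Prime := ⟨hq⟩
    have hxσ := S10.le_sigmaCore_of_isPGroup hM hs hXM hX hx
    refine ⟨⟨x, hxσ⟩, (Fusion.mem_pResidual_iff_of_hasNormalPComplement hc).mpr ?_, rfl⟩
    obtain ⟨k, hk⟩ := IsPGroup.iff_orderOf.mp hX ⟨x, hx⟩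
    rw [Subgroup.orderOf_mk] at hk ⊢
    rw [hk]
    exact Nat.Coprime.pow_left k ((Nat.coprime_primes hq hp.out).mpr hqp)

/-- Invariant Sylow subgroups for primes in `σ(M)`. -/
theorem exists_invariant_sylow_ge (hM : IsCoatom M) {A : Subgroup G} (hA : IsPGroup p A)
    (hAM : A ≤ M) (hd : p ∣ Nat.card M) (hb : p ∉ Cfsg.beta M) {q : ℕ} [hq : Fact q.Prime]
    (hqs : q ∈ Cfsg.sigma M) (hqp : q ≠ p) {S : Subgroup G} (hSM : S ≤ M) (hS : IsPGroup q S)
    (hAS : A ≤ normalizer (S : Set G)) :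
    ∃ Q : Subgroup G, IsSylowOf q Q M ∧ S ≤ Q ∧ A ≤ normalizer (Q : Set G) := by
  obtain ⟨K, hKσ, hMK, hpK, hall⟩ := S10.exists_pPrime_normal hM hd hb
  have hKM : K ≤ M := hKσ.trans (sigmaCore_le M)
  obtain ⟨Q₀, hQ₀⟩ := exists_sylowOf q M
  have hQ₀K : IsSylowOf q Q₀ K :=
    isSylowOf_mono hQ₀ (hall q hq.out hqs hqp Q₀ hQ₀.1 hQ₀.2.1) hKM
  have hsolA : Group.IsSolvable A := by
    have := hA.isNilpotent
    infer_instance
  obtain ⟨P, hSP, hAP⟩ := Coprime.exists_invariant_sylow_ge (hAM.trans hMK)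
    (coprime_card_of_isPGroup hA hpK) (Or.inl hsolA) q (hall q hq.out hqs hqp S hSM hS) hS hAS
  refine ⟨_, ⟨(map_subtype_le _).trans hKM, P.isPGroup'.map _, ?_⟩, hSP, hAP⟩
  rw [(isSylowOf_map P).2.2, ← hQ₀K.2.2, hQ₀.2.2]

/-- Conjugacy of two maximal invariant subgroups with a common nontrivial part. -/
theorem exists_centralizer_conj {A : Subgroup G} (hA : Cfsg.IsElementaryAbelian p A)
    (hA2 : Nat.card A = p ^ 2)
    (hmax : ∀ B : Subgroup G, Cfsg.IsElementaryAbelian p B → A ≤ B → B = A)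
    {q : ℕ} [hq : Fact q.Prime] (hqp : q ≠ p) {Q₁ Q₂ D : Subgroup G}
    (h₁ : Q₁ ∈ Cfsg.maxInvSubgroups ⊤ A {q}) (h₂ : Q₂ ∈ Cfsg.maxInvSubgroups ⊤ A {q})
    (hD : D ≠ ⊥) (hD₁ : D ≤ Q₁) (hD₂ : D ≤ Q₂) (hAD : A ≤ normalizer (D : Set G)) :
    ∃ k ∈ centralizer (A : Set G), cj k Q₁ = Q₂ := by
  have hG := S10.minSimple
  have hqA : ¬ q ∣ Nat.card A := fun hd => by
    rw [hA2] at hd
    exact hqp (Nat.prime_eq_prime_of_dvd_pow hq.out hp.out hd)
  have hDq : IsPGroup q D := (H41.isPGroup_of_invSubgroups hq.out h₁.1).to_le hD₁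
  have hDtop : D ≠ ⊤ := fun e => by
    have := hDq.isNilpotent
    rw [e] at this
    have := Group.nilpotent_of_mulEquiv (topEquiv (G := G))
    have := hG.2.1
    exact hG.2.2.1 ⟨⟨IsSimpleGroup.comm_iff_isSolvable.mpr inferInstance⟩⟩
  obtain ⟨k, hk, hk'⟩ := Cfsg.Agent.S1392.result hG A (S10.transitivity_hypothesis hA hA2 hmax) q
    hq.out hqA Q₁ Q₂ h₁ h₂ (normalizer (D : Set G)) (normalizer_ne_top' hG hD hDtop) hAD
    (ne_bot_of_le_ne_bot hD (le_inf le_normalizer hD₁))
    (ne_bot_of_le_ne_bot hD (le_inf le_normalizer hD₂))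
  exact ⟨k, piCoreOf_le _ _ hk, hk'.symm⟩

/-- Conjugacy of all maximal invariant subgroups when `q` divides `|C(A)|`. -/
theorem exists_centralizer_conj' {A : Subgroup G} (hA : Cfsg.IsElementaryAbelian p A)
    (hA2 : Nat.card A = p ^ 2)
    (hmax : ∀ B : Subgroup G, Cfsg.IsElementaryAbelian p B → A ≤ B → B = A)
    {q : ℕ} [hq : Fact q.Prime] (hqp : q ≠ p) {Q₁ Q₂ : Subgroup G}
    (h₁ : Q₁ ∈ Cfsg.maxInvSubgroups ⊤ A {q}) (h₂ : Q₂ ∈ Cfsg.maxInvSubgroups ⊤ A {q})
    (hqC : q ∣ Nat.card (centralizer (A : Set G))) :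
    ∃ k ∈ centralizer (A : Set G), cj k Q₁ = Q₂ := by
  have hqA : ¬ q ∣ Nat.card A := fun hd => by
    rw [hA2] at hd
    exact hqp (Nat.prime_eq_prime_of_dvd_pow hq.out hp.out hd)
  have hZ : ¬ Cfsg.RankLE 1 ↥(A ⊓ centralizer (A : Set G)) :=
    not_rankLE_one hA hA2 (le_inf le_rfl fun a ha => mem_centralizer_iff.mpr fun b hb =>
      elemAb_commute hA hb ha)
  obtain ⟨k, hk, hk'⟩ := Cfsg.Agent.S1394.result S10.minSimple A
    (S10.transitivity_hypothesis hA hA2 hmax) hZ q hq.out hqA hqC Q₁ h₁ Q₂ h₂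
  exact ⟨k, piCoreOf_le _ _ hk, hk'.symm⟩

/-- The centralizer of a maximal elementary `A` of order `p ^ 2` in a Sylow subgroup is abelian. -/
theorem commute_centralizer_inf_sylow {A : Subgroup G} (hA : Cfsg.IsElementaryAbelian p A)
    (hA2 : Nat.card A = p ^ 2)
    (hmax : ∀ B : Subgroup G, Cfsg.IsElementaryAbelian p B → A ≤ B → B = A)
    (S : Sylow p G) (hAS : A ≤ (S : Subgroup G)) {x y : G}
    (hxS : x ∈ (S : Subgroup G)) (hyS : y ∈ (S : Subgroup G))
    (hx : x ∈ centralizer (A : Set G)) (hy : y ∈ centralizer (A : Set G)) : x * y = y * x := by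
  have hG := S10.minSimple
  have hp2 : p ≠ 2 := ne_two_of_mem_card hG (dvd_of_elemAb hA2 le_rfl)
  by_cases hr : Cfsg.PRankLE p 2 (S : Subgroup G)
  · rcases S10.sylow_rank_two p S hr with hab | ⟨P₁, P₂, hsup, hcomm, hna, hc, he, hcyc, hΩ⟩
    · exact congrArg Subtype.val
        (hab.is_comm.comm (⟨x, hxS⟩ : (S : Subgroup G)) ⟨y, hyS⟩)
    have hP₂n : P₁ ≤ normalizer (P₂ : Set G) := fun a ha =>
      (le_normalizer_iff.mpr fun a ha b hb => by rwa [hcomm a ha b hb, mul_inv_cancel_right]) ha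
    have hdec : ∀ z ∈ (S : Subgroup G), ∃ a ∈ P₁, ∃ b ∈ P₂, a * b = z := fun z hz => by
      rw [← hsup, ← SetLike.mem_coe, coe_mul_of_left_le_normalizer_right P₁ P₂ hP₂n,
        Set.mem_mul] at hz
      exact hz
    have hP₁e : ∀ a ∈ P₁, a ^ p = 1 := fun a ha =>
      congrArg Subtype.val (he ▸ Monoid.pow_exponent_eq_one (⟨a, ha⟩ : P₁))
    -- elements of order dividing `p` lie in `P₁`
    have hroot : ∀ z ∈ (S : Subgroup G), z ^ p = 1 → z ∈ P₁ := fun z hz hzp => by
      obtain ⟨a, ha, b, hb, rfl⟩ := hdec z hz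
      rw [Commute.mul_pow (hcomm a ha b hb), hP₁e a ha, one_mul] at hzp
      refine mul_mem ha ?_
      have h1 : b ∈ closure {x : G | x ∈ P₂ ∧ x ^ p = 1} := subset_closure ⟨hb, hzp⟩
      rw [hΩ] at h1
      exact h1.1
    have hAP : A ≤ P₁ := fun a ha => hroot a (hAS ha) (hA.2 a ha)
    -- `A` is its own centralizer in `P₁`
    have hCA : P₁ ⊓ centralizer (A : Set G) ≤ A := by
      intro c hc
      have hsupc : Cfsg.IsElementaryAbelian p (A ⊔ zpowers c) :=
        BG5.elementary_sup hA (BG5.elementary_zpowers (hP₁e c hc.1)) (zpowers_le.mpr hc.2)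
      exact hmax _ hsupc le_sup_left ▸ mem_sup_right (mem_zpowers c)
    have hmemA : ∀ z ∈ (S : Subgroup G), z ∈ centralizer (A : Set G) →
        ∃ a ∈ A, ∃ b ∈ P₂, a * b = z := fun z hz hzc => by
      obtain ⟨a, ha, b, hb, rfl⟩ := hdec z hz
      refine ⟨a, hCA ⟨ha, ?_⟩, b, hb, rfl⟩
      have hb' : b ∈ centralizer (A : Set G) :=
        mem_centralizer_iff.mpr fun w hw => hcomm w (hAP hw) b hb
      simpa using mul_mem hzc (inv_mem hb')
    obtain ⟨a, ha, b, hb, rfl⟩ := hmemA x hxS hx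
    obtain ⟨c, hc', d, hd, rfl⟩ := hmemA y hyS hy
    have hbd : b * d = d * b := by
      have := hcyc
      let _ := IsCyclic.commGroup (α := P₂)
      exact congrArg Subtype.val (mul_comm (⟨b, hb⟩ : P₂) ⟨d, hd⟩)
    exact ((Commute.mul_right (elemAb_commute hA ha hc') (hcomm a (hAP ha) d hd)).mul_left
      (Commute.mul_right (hcomm c (hAP hc') b hb).symm hbd)).eq
  · have hmapA : (A.subgroupOf (S : Subgroup G)).map (S : Subgroup G).subtype = A := by
      rw [subgroupOf_map_subtype, inf_eq_left.mpr hAS]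
    have hData : BG5.NarrowData p ↥(S : Subgroup G) (A.subgroupOf (S : Subgroup G)) := by
      refine ⟨hr, ⟨⟨⟨fun a b => Subtype.ext (Subtype.ext (elemAb_commute hA a.2 b.2))⟩⟩,
        fun a ha => Subtype.ext (by simpa using hA.2 a ha)⟩, ?_, fun B hB hAB => ?_⟩
      · rw [Nat.card_congr (subgroupOfEquivOfLe hAS).toEquiv, hA2]
      · refine map_injective (S : Subgroup G).subtype_injective ?_
        rw [hmapA]
        refine hmax _ ⟨have := hB.1; map_isMulCommutative B _, ?_⟩ (hmapA.ge.trans (map_mono hAB))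
        rintro _ ⟨z, hz, rfl⟩
        rw [← map_pow, hB.2 z hz, map_one]
    obtain ⟨R₀, R₁, hR₀, hR₀c, hcyc, -, hcomm, hsup⟩ :=
      exists_centralizer_splitting hp2 S.isPGroup' hData
    have hmem : ∀ (z : G) (hz : z ∈ (S : Subgroup G)), z ∈ centralizer (A : Set G) →
        (⟨z, hz⟩ : (S : Subgroup G)) ∈ R₀ ⊔ R₁ := fun z hz hzc => by
      rw [hsup]
      exact mem_centralizer_iff.mpr fun w hw => Subtype.ext
        (mem_centralizer_iff.mp hzc w (hR₀ hw))
    have := isCyclic_of_prime_card hR₀c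
    have hsupc : IsMulCommutative ↥(R₀ ⊔ R₁) := by
      let _ := IsCyclic.commGroup (α := R₀)
      let _ := IsCyclic.commGroup (α := R₁)
      have h0 : R₀ ⊔ R₁ ≤ centralizer ((R₀ ⊔ R₁ : Subgroup ↥(S : Subgroup G)) : Set _) := by
        have e0 : R₀ ≤ centralizer (R₀ : Set _) := fun a ha => mem_centralizer_iff.mpr fun b hb =>
          congrArg Subtype.val (mul_comm (⟨b, hb⟩ : R₀) ⟨a, ha⟩)
        have e1 : R₁ ≤ centralizer (R₁ : Set _) := fun a ha => mem_centralizer_iff.mpr fun b hb =>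
          congrArg Subtype.val (mul_comm (⟨b, hb⟩ : R₁) ⟨a, ha⟩)
        have e01 : R₀ ≤ centralizer (R₁ : Set _) := fun a ha => mem_centralizer_iff.mpr fun b hb =>
          (hcomm a ha b hb).symm
        exact le_centralizer_iff.mp (sup_le (le_centralizer_iff.mp (sup_le e0 (le_centralizer_iff.mp e01)))
          (le_centralizer_iff.mp (sup_le e01 e1)))
      exact ⟨⟨fun a b => Subtype.ext ((mem_centralizer_iff.mp (h0 b.2)) a a.2)⟩⟩
    exact congrArg (fun t : ↥(R₀ ⊔ R₁) => ((t : (S : Subgroup G)) : G))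
      (hsupc.is_comm.comm (⟨_, hmem x hxS hx⟩ : ↥(R₀ ⊔ R₁)) ⟨_, hmem y hyS hy⟩)

omit hp in
theorem isNilpotent_derived_of_alpha_empty (hM : IsCoatom M) (h : ∀ q, q ∉ Cfsg.alpha M) :
    Group.IsNilpotent ↥⁅M, M⁆ := by
  obtain ⟨-, -, -, -, hnil⟩ := S10.alphaCore_spec M hM
  have hcore : Cfsg.piCore (Cfsg.alpha M) ↥M = ⊥ :=
    card_eq_one.mp (Nat.eq_one_iff_not_exists_prime_dvd.mpr fun r hr hd =>
      h r (Cores.piCore_isPiNumber (Cfsg.alpha M) r hr hd))
  have hi : Group.IsNilpotent (commutator ↥M) := by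
    refine Group.nilpotent_of_mulEquiv ((commutator ↥M).equivMapOfInjective
      (QuotientGroup.mk' (Cfsg.piCore (Cfsg.alpha M) ↥M)) ?_).symm
    rw [← MonoidHom.ker_eq_bot_iff, QuotientGroup.ker_mk', hcore]
  have hmap : (commutator ↥M).map M.subtype = ⁅M, M⁆ := by
    rw [_root_.commutator_def, map_commutator, ← MonoidHom.range_eq_map, M.range_subtype]
  exact Group.nilpotent_of_mulEquiv
    (((commutator ↥M).equivMapOfInjective M.subtype M.subtype_injective).trans
      (MulEquiv.subgroupCongr hmap))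

omit hp in
theorem isNilpotent_sigmaCore_of_alpha_empty (hM : IsCoatom M) (h : ∀ q, q ∉ Cfsg.alpha M) :
    Group.IsNilpotent (Cfsg.sigmaCore M) :=
  Hall.isNilpotent_of_le (S10.sigmaCore_le_derived M hM)
    (S10.isNilpotent_derived_of_alpha_empty hM h)

end Section10

/-- The centralizer of `M_σ` in `M'`. -/
def centDerived (M : Subgroup G) : Subgroup G :=
  ⁅M, M⁆ ⊓ centralizer (Cfsg.sigmaCore M : Set G)

omit [Finite G] hp in
theorem centDerived_le (M : Subgroup G) : centDerived M ≤ M := inf_le_left.trans (derived_le M)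

omit hp in
theorem le_normalizer_centDerived (M : Subgroup G) : M ≤ normalizer (centDerived M : Set G) :=
  fun m hm => cj_eq_iff.mp (by
    have h := cj_eq_iff.mpr (le_normalizer_sigmaCore M hm)
    rw [centDerived, cj_inf, cj_centralizer, h, cj_eq_iff.mpr (le_normalizer_derived M hm)])

namespace Section10

variable (S10 : Section10 G) {M : Subgroup G}
include S10

omit hp in
theorem isNilpotent_centDerived (hM : IsCoatom M) : Group.IsNilpotent (centDerived M) := by
  refine isNilpotent_of_normal_complements fun r hr hd => ?_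
  have : Fact r.Prime := ⟨hr⟩
  by_cases hs : r ∈ Cfsg.sigma M
  · obtain ⟨R⟩ : Nonempty (Sylow r (centDerived M)) := inferInstance
    have hcen : ∀ x ∈ (R : Subgroup (centDerived M)), ∀ c : centDerived M, x * c = c * x :=
      fun x hx c => Subtype.ext (by
        have hxσ := S10.le_sigmaCore_of_isPGroup hM hs
          ((map_subtype_le _).trans (centDerived_le M)) (R.isPGroup'.map (centDerived M).subtype)
          (mem_map_of_mem _ hx)
        exact mem_centralizer_iff.mp c.2.2 _ hxσ)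
    have : IsMulCommutative (R : Subgroup (centDerived M)) :=
      ⟨⟨fun a b => Subtype.ext (hcen a a.2 b)⟩⟩
    exact Fusion.hasNormalPComplement_of_abelian R fun g _ _ =>
      mem_centralizer_iff.mpr fun x hx => hcen x hx g
  · exact Fusion.hasNormalPComplement_of_le ((S10.betaCore_spec M hM).2.2.2.2 r hr
      (hd.trans (card_dvd_of_le (centDerived_le M)))
      fun hb => hs (S10.alpha_subset_sigma hM hb.1)).1 inf_le_left

/-- The subgroups of prime power order of `C_{M'}(M_σ)` outside `σ(M)` are normal in `M`. -/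
theorem le_normalizer_of_le_centDerived (hM : IsCoatom M) (hs : p ∉ Cfsg.sigma M) {X : Subgroup G}
    (hX : X ≤ centDerived M) (hXp : IsPGroup p X) : M ≤ normalizer (X : Set G) := by
  have hnil := S10.isNilpotent_centDerived hM
  obtain ⟨T, hT, hXT⟩ := exists_sylowOf_ge' hXp hX
  obtain ⟨T₀, hT₀⟩ := exists_sylow_eq hT
  have hTn : (T₀ : Subgroup (centDerived M)).Normal :=
    Group.isNilpotent_of_finite_tfae.out 0 3 rfl rfl |>.mp hnil p hp T₀
  have : (T₀ : Subgroup (centDerived M)).Characteristic := Sylow.characteristic_of_normal T₀ hTn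
  have hMT : M ≤ normalizer (T : Set G) := by
    rw [← hT₀]
    exact Components.le_normalizer_map_characteristic _ (le_normalizer_centDerived M)
  rcases eq_or_ne X ⊥ with rfl | hne
  · exact fun m _ => cj_eq_iff.mp (map_bot _)
  have hdT : p ∣ Nat.card T := by
    obtain ⟨k, hk⟩ := IsPGroup.iff_card.mp hXp
    rcases k with _ | k
    · exact absurd (eq_bot_of_card_eq _ (by rwa [pow_zero] at hk)) hne
    · exact (hk ▸ dvd_pow_self p k.succ_ne_zero).trans (card_dvd_of_le hXT)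
  have hcyc : IsCyclic T := by
    refine isCyclic_of_pRankLE_one (ne_two_of_mem_card S10.minSimple hdT) hT.2.1 ?_
    intro E hEc hEe
    by_contra hlt
    rw [not_le, pow_one] at hlt
    obtain ⟨k, hk⟩ := IsPGroup.iff_card.mp (hT.2.1.to_subgroup E)
    have hk2 : 2 ≤ k := by
      by_contra hk1
      rw [hk] at hlt
      exact absurd hlt (not_lt.mpr ((Nat.pow_le_pow_right hp.out.pos
        (show k ≤ 1 by omega)).trans (pow_one p).le))
    obtain ⟨F, hF⟩ := Sylow.exists_subgroup_card_pow_prime (G := E) p (hk ▸ pow_dvd_pow p hk2)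
    set A := (F.map E.subtype).map T.subtype
    have hA2 : Nat.card A = p ^ 2 := by
      rw [card_map_of_injective T.subtype_injective, card_map_of_injective E.subtype_injective, hF]
    have hA : Cfsg.IsElementaryAbelian p A := by
      refine ⟨⟨⟨?_⟩⟩, ?_⟩
      · rintro ⟨_, _, ⟨a, -, rfl⟩, rfl⟩ ⟨_, _, ⟨b, -, rfl⟩, rfl⟩
        exact Subtype.ext (congrArg (fun t : E => ((t : T) : G)) (hEc.is_comm.comm a b))
      · rintro _ ⟨_, ⟨a, -, rfl⟩, rfl⟩
        rw [← map_pow, show (E.subtype a) ^ p = 1 from hEe a a.2, map_one]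
    have hAT : A ≤ T := map_subtype_le _
    exact S10.not_le_centralizer_sigmaCore hM hs ((hAT.trans hT.1).trans (centDerived_le M)) hA hA2
      ((hAT.trans hT.1).trans inf_le_right)
  intro m hm
  refine cj_eq_iff.mp (H41.eq_of_card_eq_of_le_cyclic hcyc ?_ hXT (card_cj m X))
  exact (cj_mono m hXT).trans (cj_eq_iff.mpr (hMT hm)).le

end Section10

end Cfsg.Agent.OddOrder.BG11
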