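import Cfsg.Agent.OddOrder.BG11.TauTwo

/-!
BG 12.10: nilpotent `σ'`-subgroups are abelian, centralizers of `τ₂`-elements.
-/

set_option autoImplicit false

universe u

namespace Cfsg.Agent.OddOrder.BG11

open Subgroup H40

variable {G : Type u} [Group G] [Finite G]

namespace Section10

variable (S10 : Section10 G) {M : Subgroup G}
include S10

/-- BG 12.10 (a). -/
theorem commute_nilpotent (hM : IsCoatom M) {N : Subgroup G} (hN : N ≤ M)
    (hnil : Group.IsNilpotent N)
    (hs : ∀ p : ℕ, p.Prime → p ∣ Nat.card N → p ∉ Cfsg.sigma M) : IsMulCommutative N := by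
  have hle : N ≤ centralizer (N : Set G) := by
    refine Coprime.le_of_exists_sylow_le fun q hq => ?_
    have : Fact q.Prime := ⟨hq⟩
    obtain ⟨T⟩ : Nonempty (Sylow q N) := inferInstance
    refine ⟨T, ?_⟩
    rcases eq_or_ne ((T : Subgroup N).map N.subtype) ⊥ with h0 | h0
    · rw [h0]; exact bot_le
    have hqN : q ∣ Nat.card N := by
      by_contra hd
      refine h0 (eq_bot_of_card_eq _ ?_)
      rw [card_map_of_injective N.subtype_injective, T.card_eq_multiplicity,
        Nat.factorization_eq_zero_of_not_dvd hd, pow_zero]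
    have hqs := hs q hq hqN
    set R := (T : Subgroup N).map N.subtype
    have hRp : IsPGroup q R := T.isPGroup'.map _
    have hRN : R ≤ N := map_subtype_le _
    rw [le_centralizer_iff]
    refine Coprime.le_of_exists_sylow_le fun r hr => ?_
    have : Fact r.Prime := ⟨hr⟩
    obtain ⟨U⟩ : Nonempty (Sylow r N) := inferInstance
    refine ⟨U, fun u hu => mem_centralizer_iff.mpr fun x hx => ?_⟩
    have huN : u ∈ N := map_subtype_le _ hu
    rcases eq_or_ne r q with rfl | hrq
    · -- both lie in the unique Sylow subgroup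
      have : U = T := by
        have hTn : (T : Subgroup N).Normal :=
          Group.isNilpotent_of_finite_tfae.out 0 3 rfl rfl |>.mp hnil r ⟨hr⟩ T
        have := T.unique_of_normal hTn
        exact Subsingleton.elim U T
      subst this
      exact S10.commute_of_not_sigma hM hqs hRp (hRN.trans hN) x hx u hu
    · refine H41.commute_of_coprime_of_isNilpotent hnil (hRN hx) huN ?_
      obtain ⟨a, ha⟩ := IsPGroup.iff_orderOf.mp hRp ⟨x, hx⟩
      obtain ⟨b, hb⟩ := IsPGroup.iff_orderOf.mp (U.isPGroup'.map N.subtype) ⟨u, hu⟩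
      rw [Subgroup.orderOf_mk] at ha hb
      rw [ha, hb]
      exact Nat.Coprime.pow _ _ ((Nat.coprime_primes hq hr).mpr hrq.symm)
  exact ⟨⟨fun a b => Subtype.ext (mem_centralizer_iff.mp (hle b.2) a a.2)⟩⟩

/-- BG 12.10 (b). -/
theorem commute_compl_derived (hM : IsCoatom M) {E : Subgroup G}
    (hE : Cfsg.IsComplIn E (Cfsg.sigmaCore M) M) : IsMulCommutative ↥⁅E, E⁆ := by
  have hH := (S10.sigmaCore_hall M hM).1
  have hs : ∀ q : ℕ, q.Prime → q ∣ Nat.card ↥⁅E, E⁆ → q ∉ Cfsg.sigma M := fun q hq hd =>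
    not_mem_sigma_of_dvd_compl hH hE hq (hd.trans (card_dvd_of_le (derived_le E)))
  refine S10.commute_nilpotent hM ((derived_le E).trans hE.1) ?_ hs
  refine isNilpotent_of_normal_complements fun q hq hd => ?_
  have : Fact q.Prime := ⟨hq⟩
  exact Fusion.hasNormalPComplement_of_le
    ((S10.betaCore_spec M hM).2.2.2.2 q hq (hd.trans (card_dvd_of_le ((derived_le E).trans hE.1)))
      fun hb => hs q hq hd (S10.alpha_subset_sigma hM hb.1)).1
    (commutator_mono hE.1 hE.1)

/-- BG 12.10 (c). -/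
theorem normalizer_le_of_not_isCyclic (hM : IsCoatom M) {p : ℕ} {P : Subgroup G}
    (hps : p ∈ Cfsg.sigma M) (hP : IsPGroup p P) (hPM : P ≤ M) (hnc : ¬ IsCyclic P) :
    normalizer (P : Set G) ≤ M := by
  have : Fact p.Prime := ⟨hps.1⟩
  have hP0 : P ≠ ⊥ := fun e => hnc (by subst e; infer_instance)
  rw [(S10.sigma_trans M hM p hps P hP hP0 hPM).2, sup_le_iff]
  refine ⟨inf_le_left, ?_⟩
  have hd : p ∣ Nat.card P := by
    obtain ⟨k, hk⟩ := IsPGroup.iff_card.mp hP
    rcases k with _ | k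
    · exact absurd (eq_bot_of_card_eq _ (by rwa [pow_zero] at hk)) hP0
    · exact hk ▸ dvd_pow_self p k.succ_ne_zero
  have hr : ¬ Cfsg.PRankLE p 1 P := fun h =>
    hnc (isCyclic_of_pRankLE_one (ne_two_of_mem_card S10.minSimple hd) hP h)
  obtain ⟨A, hAP, hA, hA2⟩ := exists_elemAb_sq hr
  exact (Subgroup.centralizer_le hAP).trans (S10.centralizer_le hM (hAP.trans hPM) hA hA2)

/-- BG 12.10 (d). -/
theorem centralizer_tauTwo_element (hM : IsCoatom M) {x : G} (hx : x ∈ M) (hx1 : x ≠ 1)
    (hτ : ∀ p : ℕ, p.Prime → p ∣ orderOf x → p ∈ Cfsg.tau2 M) (hσ : x ∈ Cfsg.sigmaHat M) :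
    centralizer ({x} : Set G) ≤ M ∧
      ∀ L : Subgroup G, IsCoatom L → centralizer ({x} : Set G) ≤ L → L = M := by
  have hG := S10.minSimple
  obtain ⟨-, y, hy, hy1, hxy⟩ := hσ
  have hne1 : orderOf x ≠ 1 := fun e => hx1 (orderOf_eq_one_iff.mp e)
  set p := (orderOf x).minFac
  have hp : p.Prime := Nat.minFac_prime hne1
  have : Fact p.Prime := ⟨hp⟩
  have hpd : p ∣ orderOf x := Nat.minFac_dvd _
  have hp2 := hτ p hp hpd
  have hUs : ∀ q : ℕ, q.Prime → q ∣ Nat.card (zpowers x) → q ∉ Cfsg.sigma M := fun q hq hd =>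
    (hτ q hq (Nat.card_zpowers x ▸ hd)).2.1
  obtain ⟨E, hE, hxE⟩ := S10.exists_compl_ge hM (zpowers_le.mpr hx) hUs
  obtain ⟨B, hBM, hB, hB2⟩ := exists_elemAb_sq hp2.2.2.2
  -- an elementary subgroup inside the complement
  have hBs : ∀ q : ℕ, q.Prime → q ∣ Nat.card B → q ∉ Cfsg.sigma M := fun q hq hd => by
    rw [hB2] at hd
    exact Nat.prime_eq_prime_of_dvd_pow hq hp hd ▸ hp2.2.1
  obtain ⟨E', hE', hBE'⟩ := S10.exists_compl_ge hM hBM hBs
  have hH := (S10.sigmaCore_hall M hM).1
  obtain ⟨m, hm, e⟩ := Coprime.exists_conj_hallOf (S10.isSolvable_max hM)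
    (compl_isPiHallOf hH hE') (compl_isPiHallOf hH hE)
  set A := cj m B
  have hAE : A ≤ E := (cj_mono m hBE').trans e.le
  have hA : Cfsg.IsElementaryAbelian p A := elemAb_cj hB m
  have hA2 : Nat.card A = p ^ 2 := (card_cj m B).trans hB2
  have hs := hp2.2.1
  have hEA := (S10.compl_le_normalizer hM hE hs hAE hA hA2).1
  have hAM := hAE.trans hE.1
  have hxA : zpowers x ≤ centralizer (A : Set G) := by
    refine Coprime.le_of_exists_sylow_le fun q hq => ?_
    have : Fact q.Prime := ⟨hq⟩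
    obtain ⟨T⟩ : Nonempty (Sylow q (zpowers x)) := inferInstance
    refine ⟨T, fun t ht => ?_⟩
    set R := (T : Subgroup (zpowers x)).map (zpowers x).subtype
    have hRp : IsPGroup q R := T.isPGroup'.map _
    have hRx : R ≤ zpowers x := map_subtype_le _
    rcases eq_or_ne t 1 with rfl | ht1
    · exact one_mem _
    have hqd : q ∣ orderOf x := by
      obtain ⟨k, hk⟩ := IsPGroup.iff_orderOf.mp hRp ⟨t, ht⟩
      rw [Subgroup.orderOf_mk] at hk
      rcases k with _ | k
      · exact absurd (orderOf_eq_one_iff.mp (by rw [hk, pow_zero])) ht1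
      · rw [← Nat.card_zpowers]
        exact (hk ▸ dvd_pow_self q k.succ_ne_zero).trans ((zpowers x).orderOf_dvd_natCard (hRx ht))
    have htE : t ∈ E := hxE (hRx ht)
    rcases eq_or_ne q p with rfl | hqp
    · -- in a common abelian Sylow subgroup
      refine mem_centralizer_iff.mpr fun a ha => ?_
      exact S10.commute_of_not_sigma hM hs (hRp.to_sup_of_normal_right' (elemAb_isPGroup hA)
        ((hRx.trans hxE).trans hEA)) (sup_le ((hRx.trans hxE).trans hE.1) hAM) a
        (mem_sup_right ha) t (mem_sup_left ht)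
    · by_contra htc
      obtain ⟨k, hk⟩ := IsPGroup.iff_orderOf.mp hRp ⟨t, ht⟩
      rw [Subgroup.orderOf_mk] at hk
      have hlt : p < q := lt_of_le_of_ne (Nat.minFac_le_of_dvd hq.two_le hqd) hqp.symm
      have hp3 : p ≠ 2 := ne_two_of_mem_card hG (dvd_of_elemAb hA2 le_rfl)
      have hr : Cfsg.PRankLE p 2 A := fun F _ _ =>
        (Nat.le_of_dvd Nat.card_pos (card_subgroup_dvd_card F)).trans hA2.le
      have hqo : q ≠ 2 := ne_two_of_mem_card hG (H := zpowers x) (by rwa [Nat.card_zpowers])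
      have := hp.two_le
      rcases BG4.prime_dvd_of_small_action hp3 (elemAb_isPGroup hA) hr (hEA htE) hq hqp hk htc with h | h
      · have := Nat.le_of_dvd (by omega) h
        omega
      · have := Nat.le_of_dvd (by omega) h
        have hpe : p % 2 = 1 := hp.eq_two_or_odd.resolve_left hp3
        have hqe : q % 2 = 1 := hq.eq_two_or_odd.resolve_left hqo
        omega
  have hAC : A ≤ centralizer ({x} : Set G) := fun a ha => mem_centralizer_singleton_iff.mpr
    (mem_centralizer_iff.mp (hxA (mem_zpowers x)) a ha)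
  have huniq : ∀ L : Subgroup G, IsCoatom L → centralizer ({x} : Set G) ≤ L → L = M :=
    fun L hL hle => by_contra fun hne => hy1 (mem_bot.mp
      ((S10.sigmaCore_inf_eq_bot hM hs hAM hA hA2 hL hne (hAC.trans hle)) ▸
        ⟨hy, hle (mem_centralizer_singleton_iff.mpr hxy.symm)⟩))
  refine ⟨?_, huniq⟩
  have hne : centralizer ({x} : Set G) ≠ ⊤ := fun e' => by
    refine centralizer_ne_top hG (X := zpowers x) (fun h => hx1 (zpowers_eq_bot.mp h))
      (ne_top_of_le_coatom hM (zpowers_le.mpr hx)) (eq_top_iff.mpr fun g _ =>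
        mem_centralizer_iff.mpr fun b hb => ?_)
    obtain ⟨i, rfl⟩ := mem_zpowers_iff.mp hb
    have hg : g ∈ centralizer ({x} : Set G) := e' ▸ mem_top g
    exact (Commute.zpow_left (mem_centralizer_singleton_iff.mp hg).symm i).eq
  obtain ⟨L, hL, hle⟩ := exists_coatom_ge hne
  exact huniq L hL hle ▸ hle

end Section10

end Cfsg.Agent.OddOrder.BG11
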