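import Cfsg.Agent.OddOrder.BG11.Section10
import Cfsg.Agent.OddOrder.Sigma.Basic
import Cfsg.Agent.Fusion.PComplement
import Cfsg.Agent.H40.Generation
import Cfsg.Agent.H41.FittingMax
import Cfsg.Agent.S1394
import Cfsg.Agent.S1395
import Cfsg.Agent.S1396
import Cfsg.Agent.S1399
import Cfsg.Agent.OddOrder.BG5.Narrow
import Cfsg.Agent.Components.PAction
import Cfsg.Agent.Hall.Wielandt

/-!
Consequences of the results on maximal subgroups gathered in `Section10`.
-/

set_option autoImplicit false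

universe u

namespace Cfsg.Agent.OddOrder.BG11

open Subgroup H40

variable {G : Type u} [Group G] [Finite G] {p : ℕ} [hp : Fact p.Prime]

/-- An elementary subgroup of order `p ^ 2` shows that the rank is at least two. -/
theorem not_pRankLE_one {A X : Subgroup G} (hA : Cfsg.IsElementaryAbelian p A)
    (hA2 : Nat.card A = p ^ 2) (hAX : A ≤ X) : ¬ Cfsg.PRankLE p 1 X := fun h => by
  have h1 := card_le_of_pRankLE h hAX hA
  rw [hA2] at h1
  exact absurd ((Nat.pow_le_pow_iff_right hp.out.one_lt).mp h1) (by norm_num)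

theorem not_rankLE_one {A X : Subgroup G} (hA : Cfsg.IsElementaryAbelian p A)
    (hA2 : Nat.card A = p ^ 2) (hAX : A ≤ X) : ¬ Cfsg.RankLE 1 X :=
  fun h => not_pRankLE_one hA hA2 hAX (h p hp.out)

omit [Finite G] hp in
theorem ne_bot_of_card {A : Subgroup G} (h : 1 < Nat.card A) : A ≠ ⊥ := fun e => by
  rw [e, card_bot] at h
  exact lt_irrefl 1 h

theorem dvd_of_elemAb {A X : Subgroup G} (hA2 : Nat.card A = p ^ 2) (hAX : A ≤ X) :
    p ∣ Nat.card X :=
  (hA2 ▸ dvd_pow_self p two_ne_zero).trans (card_dvd_of_le hAX)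

omit [Finite G] hp in
theorem dvd_of_not_pRankLE {A : Type u} [Group A] [Finite A] {p k : ℕ} [hp : Fact p.Prime]
    (h : ¬ Cfsg.PRankLE p k A) : p ∣ Nat.card A := by
  by_contra hd
  refine h fun E _ he => le_trans (le_of_eq ?_) (Nat.one_le_pow k p hp.out.pos)
  rw [card_eq_one, eq_bot_iff]
  intro x hx
  rw [mem_bot, ← orderOf_eq_one_iff]
  exact Nat.eq_one_of_dvd_coprimes (hp.out.coprime_iff_not_dvd.mpr hd)
    (orderOf_dvd_of_pow_eq_one (he x hx)) (orderOf_dvd_natCard x)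

namespace Section10

variable (S10 : Section10 G) {M H : Subgroup G}
include S10

/-- The hypothesis on `M` as one term. -/
theorem isSolvable_max (hM : IsCoatom M) : Group.IsSolvable M :=
  isSolvable_of_le_max S10.minSimple hM le_rfl

omit hp in
theorem alpha_subset_sigma (hM : IsCoatom M) : Cfsg.alpha M ⊆ Cfsg.sigma M := by
  intro q hq
  have : Fact q.Prime := ⟨hq.1⟩
  obtain ⟨hhall, -, hle, -, -⟩ := S10.alphaCore_spec M hM
  have hd : q ∣ Nat.card M := dvd_of_not_pRankLE hq.2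
  have hdA : q ∣ Nat.card (Cfsg.alphaCore M) := by
    have h := relIndex_mul_relIndex ⊥ (Cfsg.alphaCore M) M bot_le hhall.1
    rw [relIndex_bot_left, relIndex_bot_left] at h
    rw [← h] at hd
    exact (hq.1.dvd_mul.mp hd).resolve_right (hhall.2.2 q hq.1 hq)
  exact sigmaCore_isPiNumber M q hq.1 (hdA.trans (card_dvd_of_le hle))

theorem pRankLE_two (hM : IsCoatom M) (h : p ∉ Cfsg.sigma M) : Cfsg.PRankLE p 2 M :=
  by_contra fun hr => h (S10.alpha_subset_sigma hM ⟨hp.out, hr⟩)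

theorem not_dvd_relIndex_sigmaCore (hM : IsCoatom M) (h : p ∈ Cfsg.sigma M) :
    ¬ p ∣ (Cfsg.sigmaCore M).relIndex M :=
  (S10.sigmaCore_hall M hM).1.2.2 p hp.out h

/-- `M_σ` contains every `σ`-subgroup of `M`. -/
theorem le_sigmaCore (hM : IsCoatom M) {X : Subgroup G} (hXM : X ≤ M)
    (hX : ∀ q : ℕ, q.Prime → q ∣ Nat.card X → q ∈ Cfsg.sigma M) : X ≤ Cfsg.sigmaCore M := by
  have hn : M ≤ normalizer (Cfsg.sigmaCore M : Set G) := le_normalizer_sigmaCore M
  have h1 : (Cfsg.sigmaCore M).relIndex X ∣ (Cfsg.sigmaCore M).relIndex M := by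
    have : ((Cfsg.sigmaCore M).subgroupOf M).Normal := normal_subgroupOf_of_le_normalizer hn
    rw [← relIndex_subgroupOf hXM]
    exact relIndex_dvd_index_of_normal _ _
  refine relIndex_eq_one.mp (Nat.eq_one_iff_not_exists_prime_dvd.mpr fun q hq hd => ?_)
  exact (S10.sigmaCore_hall M hM).1.2.2 q hq (hX q hq (hd.trans (relIndex_dvd_card _ _))) (hd.trans h1)

theorem le_sigmaCore_of_isPGroup (hM : IsCoatom M) (h : p ∈ Cfsg.sigma M) {X : Subgroup G}
    (hXM : X ≤ M) (hX : IsPGroup p X) : X ≤ Cfsg.sigmaCore M :=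
  S10.le_sigmaCore hM hXM fun q hq hd => by
    obtain ⟨k, hk⟩ := IsPGroup.iff_card.mp hX
    rw [hk] at hd
    exact (Nat.prime_eq_prime_of_dvd_pow hq hp.out hd) ▸ h

theorem dvd_sigmaCore (hM : IsCoatom M) (h : p ∈ Cfsg.sigma M) :
    p ∣ Nat.card (Cfsg.sigmaCore M) := by
  obtain ⟨P, hP⟩ := exists_sylowOf p M
  have hne := sylowOf_ne_bot hP h.2.1
  obtain ⟨k, hk⟩ := IsPGroup.iff_card.mp hP.2.1
  rcases k with _ | k
  · exact absurd (eq_bot_of_card_eq _ (by rwa [pow_zero] at hk)) hne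
  · exact (hk ▸ dvd_pow_self p k.succ_ne_zero).trans
      (card_dvd_of_le (S10.le_sigmaCore_of_isPGroup hM h hP.1 hP.2.1))

theorem sylow_le_sigmaCore (hM : IsCoatom M) (h : p ∈ Cfsg.sigma M) {P : Subgroup G}
    (hP : IsSylowOf p P M) : IsSylowOf p P (Cfsg.sigmaCore M) :=
  isSylowOf_mono hP (S10.le_sigmaCore_of_isPGroup hM h hP.1 hP.2.1) (sigmaCore_le M)

omit S10 in
/-- A Sylow subgroup of `M` for a prime in `σ(M)` is one of `G`. -/
theorem sylow_top {P : Subgroup G} (h : p ∈ Cfsg.sigma M)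
    (hP : IsSylowOf p P M) : ∃ S : Sylow p G, (S : Subgroup G) = P := by
  obtain ⟨P₀, hP₀⟩ := exists_sylow_eq hP
  obtain ⟨S, hS⟩ := exists_sylow_of_mem_sigma h P₀
  exact ⟨S, hS.trans hP₀⟩

/-- `N1`: subgroups of `H'` of coprime prime power orders commute outside `β(H)`. -/
theorem le_centralizer_of_not_beta (hH : IsCoatom H) {q : ℕ} [hq : Fact q.Prime] (hpq : p ≠ q)
    {X Y : Subgroup G} (hX : IsPGroup p X) (hY : IsPGroup q Y) (hXH : X ≤ ⁅H, H⁆)
    (hYH : Y ≤ ⁅H, H⁆) (hn : X ≤ normalizer (Y : Set G)) (hb : q ∉ Cfsg.beta H) :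
    X ≤ centralizer (Y : Set G) := by
  intro x hx
  refine mem_centralizer_iff.mpr fun y hy => ?_
  by_cases hy1 : y = 1
  · simp [hy1]
  have hdY : q ∣ Nat.card Y := by
    obtain ⟨k, hk⟩ := IsPGroup.iff_card.mp hY
    rcases k with _ | k
    · exact absurd (mem_bot.mp (eq_bot_of_card_eq Y (by rwa [pow_zero] at hk) ▸ hy)) hy1
    · exact hk ▸ dvd_pow_self q k.succ_ne_zero
  have hHH : ⁅H, H⁆ ≤ H :=
    commutator_le.mpr fun a ha b hb => mul_mem (mul_mem (mul_mem ha hb) (inv_mem ha)) (inv_mem hb)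
  have hc : Cfsg.HasNormalPComplement q ↥⁅H, H⁆ :=
    ((S10.betaCore_spec H hH).2.2.2.2 q hq.out
      (hdY.trans (card_dvd_of_le (hYH.trans hHH))) hb).1
  set K := Cfsg.pResidual q ↥⁅H, H⁆
  set x' : ↥⁅H, H⁆ := ⟨x, hXH hx⟩
  set y' : ↥⁅H, H⁆ := ⟨y, hYH hy⟩
  have hxK : x' ∈ K := by
    refine (Fusion.mem_pResidual_iff_of_hasNormalPComplement hc).mpr ?_
    obtain ⟨k, hk⟩ := IsPGroup.iff_orderOf.mp hX ⟨x, hx⟩
    rw [Subgroup.orderOf_mk] at hk ⊢
    rw [hk]
    exact Nat.Coprime.pow_left k ((Nat.coprime_primes hp.out hq.out).mpr hpq)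
  have hcK : x' * y' * x'⁻¹ * y'⁻¹ ∈ K := by
    rw [mul_assoc x' y', mul_assoc]
    exact K.mul_mem hxK ((inferInstance : K.Normal).conj_mem _ (K.inv_mem hxK) y')
  have hcY : x * y * x⁻¹ * y⁻¹ ∈ Y := Y.mul_mem ((mem_normalizer_iff.mp (hn hx) y).mp hy) (Y.inv_mem hy)
  have h1 : x' * y' * x'⁻¹ * y'⁻¹ = 1 := by
    rw [← orderOf_eq_one_iff]
    obtain ⟨k, hk⟩ := IsPGroup.iff_orderOf.mp hY ⟨_, hcY⟩
    rw [Subgroup.orderOf_mk] at hk
    refine Nat.eq_one_of_dvd_coprimes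
      (((Fusion.mem_pResidual_iff_of_hasNormalPComplement hc).mp hcK).pow_right k) dvd_rfl ?_
    rw [← hk, ← Subgroup.orderOf_coe]
    exact dvd_rfl
  have h2 : x * y * x⁻¹ * y⁻¹ = 1 := congrArg Subtype.val h1
  rw [mul_inv_eq_one, mul_inv_eq_iff_eq_mul] at h2
  exact h2.symm

/-- A Sylow subgroup of `M` for a prime in `α(M)` lies in exactly one maximal subgroup. -/
theorem inUniqueMaximal_sylow_alpha (hM : IsCoatom M) (h : p ∈ Cfsg.alpha M) {P : Subgroup G}
    (hP : IsSylowOf p P M) : Cfsg.InUniqueMaximal P := by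
  have hne : ¬ Cfsg.PRankLE p 2 P := by
    intro hr
    obtain ⟨P₀, hP₀⟩ := exists_sylow_eq hP
    refine h.2 (pRankLE_of_sylow P₀ (pRankLE_congr ?_ hr))
    exact (MulEquiv.subgroupCongr hP₀.symm).trans
      ((P₀ : Subgroup M).equivMapOfInjective M.subtype M.subtype_injective).symm
  refine S10.uniqueness P (ne_top_of_le_coatom hM hP.1) (fun h1 => hne ?_) (Or.inl fun h2 => hne (h2 p hp.out))
  exact fun A hA he => (h1 p hp.out A hA he).trans (Nat.pow_le_pow_right hp.out.pos one_le_two)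

/-- A Sylow subgroup of a nilpotent `M_σ` is normal in `M`. -/
theorem normalizer_sylow_of_nilpotent (hM : IsCoatom M) (h : p ∈ Cfsg.sigma M)
    (hn : Group.IsNilpotent (Cfsg.sigmaCore M)) {P : Subgroup G} (hP : IsSylowOf p P M) :
    normalizer (P : Set G) = M := by
  have hP' := S10.sylow_le_sigmaCore hM h hP
  refine le_antisymm (normalizer_le_of_mem_sigma h hP) fun m hm => ?_
  obtain ⟨S, hS⟩ := exists_sylow_eq hP'
  have : (S : Subgroup (Cfsg.sigmaCore M)).Normal :=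
    Group.isNilpotent_of_finite_tfae.out 0 3 rfl rfl |>.mp hn p hp S
  have : (S : Subgroup (Cfsg.sigmaCore M)).Characteristic :=
    Sylow.characteristic_of_normal S inferInstance
  rw [← hS]
  exact Components.le_normalizer_map_characteristic _ (le_normalizer_sigmaCore M) hm

/-- `CONJ`: maximal subgroups sharing such a prime are conjugate. -/
theorem exists_cj_eq (hM : IsCoatom M) (hH : IsCoatom H) (hpM : p ∈ Cfsg.sigma M)
    (hpH : p ∈ Cfsg.sigma H) (h : p ∈ Cfsg.alpha M ∨ Group.IsNilpotent (Cfsg.sigmaCore M)) :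
    ∃ g : G, cj g H = M := by
  obtain ⟨P, hP⟩ := exists_sylowOf p M
  obtain ⟨S, hS⟩ := sylow_top hpM hP
  obtain ⟨R, hR⟩ := exists_sylowOf p H
  obtain ⟨T, hT⟩ := sylow_top hpH hR
  obtain ⟨g, hg⟩ := MulAction.exists_smul_eq G T S
  have hRP : cj g R = P := by
    rw [← hS, ← hT, ← hg, Sylow.coe_subgroup_smul]
    rfl
  have hPH : IsSylowOf p P (cj g H) := hRP ▸ isSylowOf_cj hR g
  refine ⟨g, ?_⟩
  rcases h with ha | hn
  · exact eq_of_inUniqueMaximal (S10.inUniqueMaximal_sylow_alpha hM ha hP) hM hP.1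
      (coatom_cj hH g) hPH.1
  · have hle : M ≤ cj g H := by
      conv_lhs => rw [← S10.normalizer_sylow_of_nilpotent hM hpM hn hP]
      exact normalizer_le_of_mem_sigma (mem_sigma_cj g hpH) hPH
    exact (hM.le_iff.mp hle).resolve_left (coatom_cj hH g).1

/-- `A ∈ E²_p(M)`, `p ∉ σ(M)`, does not lie in exactly one maximal subgroup. -/
theorem not_inUniqueMaximal (hM : IsCoatom M) (h : p ∉ Cfsg.sigma M) {A : Subgroup G}
    (hAM : A ≤ M) (hA : Cfsg.IsElementaryAbelian p A) (hA2 : Nat.card A = p ^ 2) :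
    ¬ Cfsg.InUniqueMaximal A := fun hU => by
  obtain ⟨P, hP, hAP⟩ := exists_sylowOf_ge' (elemAb_isPGroup hA) hAM
  obtain ⟨x, hx, hxM⟩ := SetLike.not_le_iff_exists.mp
    (not_normalizer_le h (dvd_of_elemAb hA2 hAM) hP)
  refine hxM (mem_of_cj_eq S10.minSimple hM ?_)
  refine eq_of_inUniqueMaximal hU hM hAM (coatom_cj hM x) ?_
  rw [le_cj_iff]
  exact (cj_mono _ hAP).trans ((cj_eq_iff.mpr (inv_mem hx)).le.trans hP.1)

/-- An elementary subgroup of order `p ^ 2`, `p ∉ σ(M)`, is maximal among the elementary subgroups. -/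
theorem eq_of_elemAb_ge (hM : IsCoatom M) (h : p ∉ Cfsg.sigma M) {A : Subgroup G}
    (hAM : A ≤ M) (hA : Cfsg.IsElementaryAbelian p A) (hA2 : Nat.card A = p ^ 2) :
    ∀ B : Subgroup G, Cfsg.IsElementaryAbelian p B → A ≤ B → B = A :=
  (S10.p2_maximal M hM p h (S10.pRankLE_two hM h) (not_pRankLE_one hA hA2 hAM)).2 A hAM hA hA2

omit S10 in
theorem mem_of_pow_eq_one {A : Subgroup G} (hA : Cfsg.IsElementaryAbelian p A)
    (hmax : ∀ B : Subgroup G, Cfsg.IsElementaryAbelian p B → A ≤ B → B = A) {x : G}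
    (hx : x ∈ centralizer (A : Set G)) (hxp : x ^ p = 1) : x ∈ A :=
  BG5.mem_of_commute hA hmax hxp hx

theorem transitivity_hypothesis {A : Subgroup G}
    (hA : Cfsg.IsElementaryAbelian p A) (hA2 : Nat.card A = p ^ 2)
    (hmax : ∀ B : Subgroup G, Cfsg.IsElementaryAbelian p B → A ≤ B → B = A) :
    Cfsg.TransitivityHypothesis A := by
  refine Cfsg.Agent.S1396.result S10.minSimple p
    ((dvd_of_elemAb hA2 le_rfl).trans (card_subgroup_dvd_card A)) A (elemAb_isPGroup hA) hA.1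
    (Or.inl ⟨fun x hx => ⟨mem_of_pow_eq_one hA hmax hx, hA.2 x⟩, fun H hH => S10.plength_one p H hH⟩)

/-- `10.11 (b)`: `A` does not centralise `M_σ`. -/
theorem not_le_centralizer_sigmaCore (hM : IsCoatom M) (h : p ∉ Cfsg.sigma M) {A : Subgroup G}
    (hAM : A ≤ M) (hA : Cfsg.IsElementaryAbelian p A) (hA2 : Nat.card A = p ^ 2) :
    ¬ A ≤ centralizer (Cfsg.sigmaCore M : Set G) := by
  intro hc
  have hG := S10.minSimple
  by_cases hα : ∃ q, q ∈ Cfsg.alpha M
  · obtain ⟨q, hq⟩ := hα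
    have : Fact q.Prime := ⟨hq.1⟩
    obtain ⟨Q, hQ⟩ := exists_sylowOf q M
    have hU := S10.inUniqueMaximal_sylow_alpha hM hq hQ
    refine S10.not_inUniqueMaximal hM h hAM hA hA2 (Cfsg.Agent.S1399.result hG Q A hU ?_
      (not_rankLE_one hA hA2 le_rfl))
    exact hc.trans (centralizer_le
      (S10.le_sigmaCore_of_isPGroup hM (S10.alpha_subset_sigma hM hq) hQ.1 hQ.2.1))
  push Not at hα
  obtain ⟨-, -, -, -, hnil⟩ := S10.alphaCore_spec M hM
  -- here the derived subgroup of `M` is nilpotent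
  have hnilM : Group.IsNilpotent (commutator ↥M) := by
    have hcore : Cfsg.piCore (Cfsg.alpha M) ↥M = ⊥ := by
      refine card_eq_one.mp (Nat.eq_one_iff_not_exists_prime_dvd.mpr fun r hr hd => ?_)
      exact hα r (Cores.piCore_isPiNumber (Cfsg.alpha M) r hr hd)
    refine Group.nilpotent_of_mulEquiv ((commutator ↥M).equivMapOfInjective
      (QuotientGroup.mk' (Cfsg.piCore (Cfsg.alpha M) ↥M)) ?_).symm
    rw [← MonoidHom.ker_eq_bot_iff, QuotientGroup.ker_mk', hcore]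
  obtain ⟨q, hqp, hqd⟩ := Nat.exists_prime_and_dvd (n := Nat.card (Cfsg.sigmaCore M))
    fun e => S10.sigmaCore_ne_bot M hM (card_eq_one.mp e)
  have : Fact q.Prime := ⟨hqp⟩
  have hqs : q ∈ Cfsg.sigma M := sigmaCore_isPiNumber M q hqp hqd
  have hqne : q ≠ p := fun e => h (e ▸ hqs)
  have hnσ : Group.IsNilpotent (Cfsg.sigmaCore M) := by
    have hmap : (commutator ↥M).map M.subtype = ⁅M, M⁆ := by
      rw [_root_.commutator_def, map_commutator, ← MonoidHom.range_eq_map, M.range_subtype]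
    have : Group.IsNilpotent ↥⁅M, M⁆ := Group.nilpotent_of_mulEquiv
      (((commutator ↥M).equivMapOfInjective M.subtype M.subtype_injective).trans
        (MulEquiv.subgroupCongr hmap))
    exact Hall.isNilpotent_of_le (S10.sigmaCore_le_derived M hM) this
  obtain ⟨Q, hQ⟩ := exists_sylowOf q M
  have hNQ : normalizer (Q : Set G) = M := S10.normalizer_sylow_of_nilpotent hM hqs hnσ hQ
  obtain ⟨QG, hQG⟩ := sylow_top hqs hQ
  have hQσ : Q ≤ Cfsg.sigmaCore M := S10.le_sigmaCore_of_isPGroup hM hqs hQ.1 hQ.2.1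
  have hmax := S10.eq_of_elemAb_ge hM h hAM hA hA2
  have hTH := S10.transitivity_hypothesis hA hA2 hmax
  have hAQ : A ≤ centralizer (Q : Set G) := hc.trans (centralizer_le hQσ)
  have hQA : Q ≤ centralizer (A : Set G) := le_centralizer_iff.mp hAQ
  have hqA : ¬ q ∣ Nat.card A := fun hd => by
    rw [hA2] at hd
    exact hqne (Nat.prime_eq_prime_of_dvd_pow hqp hp.out hd)
  have hQmem : Q ∈ Cfsg.maxInvSubgroups ⊤ A {q} := by
    refine ⟨⟨le_top, ?_, hAQ.trans (centralizer_le_normalizer _)⟩, fun R hR hQR => ?_⟩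
    · intro r hr hd
      obtain ⟨k, hk⟩ := IsPGroup.iff_card.mp hQ.2.1
      rw [hk] at hd
      exact Nat.prime_eq_prime_of_dvd_pow hr hqp hd
    · rw [← hQG]
      exact QG.is_maximal' (H41.isPGroup_of_invSubgroups hqp hR) (hQG ▸ hQR)
  have hZ : ¬ Cfsg.RankLE 1 ↥(A ⊓ centralizer (A : Set G)) :=
    not_rankLE_one hA hA2 (le_inf le_rfl fun a ha => mem_centralizer_iff.mpr fun b hb =>
      elemAb_commute hA hb ha)
  have hqC : q ∣ Nat.card (centralizer (A : Set G)) := by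
    have hne := sylowOf_ne_bot hQ hqs.2.1
    obtain ⟨k, hk⟩ := IsPGroup.iff_card.mp hQ.2.1
    rcases k with _ | k
    · exact absurd (eq_bot_of_card_eq _ (by rwa [pow_zero] at hk)) hne
    · exact (hk ▸ dvd_pow_self q k.succ_ne_zero).trans (card_dvd_of_le hQA)
  have htr := Cfsg.Agent.S1394.result hG A hTH hZ q hqp hqA hqC
  obtain ⟨P, hAP⟩ := (elemAb_isPGroup hA).exists_le_sylow
  have hPtop : (P : Subgroup G) ≠ ⊤ := fun e => by
    have := P.isPGroup'.isNilpotent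
    rw [e] at this
    have := Group.nilpotent_of_mulEquiv (topEquiv (G := G))
    have := hG.2.1
    exact hG.2.2.1 ⟨⟨IsSimpleGroup.comm_iff_isSolvable.mpr inferInstance⟩⟩
  have hpi : ∀ r : ℕ, r.Prime → r ∣ Nat.card (P : Subgroup G) → r ∣ Nat.card A := fun r hr hd => by
    obtain ⟨k, hk⟩ := IsPGroup.iff_card.mp P.isPGroup'
    rw [hk] at hd
    rw [Nat.prime_eq_prime_of_dvd_pow hr hp.out hd]
    exact dvd_of_elemAb hA2 le_rfl
  obtain ⟨-, -, hsub, hQ'⟩ := Cfsg.Agent.S1395.result hG A hTH q hqp hqA P hPtop hpi hAP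
    (have := P.isPGroup'.isNilpotent; H41.isSubnormal_of_isNilpotent _) htr
  obtain ⟨R, hR, -⟩ := H41.exists_maxInvSubgroups_ge (X := ⊤) (A := (P : Subgroup G)) (π := {q})
    (Q := ⊥) ⟨bot_le, fun r hr hd => absurd (card_bot (G := G) ▸ hd) hr.not_dvd_one,
      fun x _ => cj_eq_iff.mp (map_bot _)⟩
  obtain ⟨k, hk, hRk⟩ := htr Q hQmem R (hsub hR)
  have hPle : (P : Subgroup G) ≤ cj k ⁅M, M⁆ := by
    have h1 := (le_inf le_rfl (S10.sylow_le_derived p P)).trans (hQ' R hR).1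
    have h2 : normalizer (R : Set G) = cj k M := by
      rw [hRk, ← hNQ]
      exact (cj_normalizer k Q).symm
    rw [h2, ← map_commutator] at h1
    exact h1
  set P' := cj k⁻¹ (P : Subgroup G) with hP'def
  have hP'M : P' ≤ ⁅M, M⁆ := le_cj_iff.mp hPle
  have hMM : ⁅M, M⁆ ≤ M :=
    commutator_le.mpr fun a ha b hb => mul_mem (mul_mem (mul_mem ha hb) (inv_mem ha)) (inv_mem hb)
  have hP'top : IsSylowOf p P' ⊤ := by
    have h1 := isSylowOf_cj (isSylowOf_top P) k⁻¹
    rwa [show cj k⁻¹ (⊤ : Subgroup G) = ⊤ from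
      map_top_of_surjective _ (MulAut.conj k⁻¹).surjective] at h1
  have hP'D : IsSylowOf p P' ⁅M, M⁆ := isSylowOf_mono hP'top hP'M le_top
  obtain ⟨S, hS⟩ := exists_sylow_eq hP'D
  have hnil' : Group.IsNilpotent ↥⁅M, M⁆ := by
    have hmap : (commutator ↥M).map M.subtype = ⁅M, M⁆ := by
      rw [_root_.commutator_def, map_commutator, ← MonoidHom.range_eq_map, M.range_subtype]
    exact Group.nilpotent_of_mulEquiv
      (((commutator ↥M).equivMapOfInjective M.subtype M.subtype_injective).trans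
        (MulEquiv.subgroupCongr hmap))
  have : (S : Subgroup ↥⁅M, M⁆).Normal :=
    Group.isNilpotent_of_finite_tfae.out 0 3 rfl rfl |>.mp hnil' p hp S
  have : (S : Subgroup ↥⁅M, M⁆).Characteristic := Sylow.characteristic_of_normal S inferInstance
  have hMP : M ≤ normalizer (P' : Set G) := by
    rw [← hS]
    refine Components.le_normalizer_map_characteristic _ fun m hm => cj_eq_iff.mp ?_
    rw [show cj m ⁅M, M⁆ = ⁅cj m M, cj m M⁆ from map_commutator M M _, cj_eq_of_mem hm]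
  have hne : P' ≠ ⊥ := sylowOf_ne_bot hP'D
    ((dvd_of_elemAb hA2 hAP).trans ((dvd_of_eq (card_cj k⁻¹ (P : Subgroup G)).symm).trans
      (card_dvd_of_le hP'M)))
  exact h (mem_sigma_of_normalizer_le (dvd_of_elemAb hA2 hAM)
    (isSylowOf_mono hP'top (hP'M.trans hMM) le_top)
    (normalizer_eq_coatom hG hM (hP'M.trans hMM) hne hMP).le)

end Section10

end Cfsg.Agent.OddOrder.BG11
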