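import Cfsg.Agent.OddOrder.BG11.SylowOf
import Mathlib.FieldTheory.Finite.Basic

/-!
Elementary lemmas for BG 12.12: lines of a plane fixed by an element, the eigenvector lifting
in an abelian `p`-group, equality of exponents.
-/

set_option autoImplicit false

universe u

namespace Cfsg.Agent.OddOrder.BG11

open Subgroup H40
open scoped IsMulCommutative

variable {G : Type u} [Group G] [Finite G] {p : ℕ} [hp : Fact p.Prime]

omit [Finite G] hp in
/-- An element which conjugates two generators of `A` to their `k`-th powers does so on `A`. -/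
theorem conj_eq_pow_of_generators {A X Y : Subgroup G} (hA : IsMulCommutative A) (hX : X ≤ A)
    (hY : Y ≤ A) (hsup : X ⊔ Y = A) {e : G} {k : ℕ} (hx : ∀ x ∈ X, e * x * e⁻¹ = x ^ k)
    (hy : ∀ y ∈ Y, e * y * e⁻¹ = y ^ k) : ∀ a ∈ A, e * a * e⁻¹ = a ^ k := by
  intro a ha
  have hcomm : ∀ u ∈ A, ∀ v ∈ A, Commute u v := fun u hu v hv =>
    congrArg Subtype.val (hA.is_comm.comm (⟨u, hu⟩ : A) ⟨v, hv⟩)
  have hn : Y ≤ normalizer (X : Set G) := fun b hb => centralizer_le_normalizer _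
    (mem_centralizer_iff.mpr fun z hz => hcomm z (hX hz) b (hY hb))
  rw [← hsup, ← SetLike.mem_coe, coe_mul_of_right_le_normalizer_left X Y hn, Set.mem_mul] at ha
  obtain ⟨x, hxX, y, hyY, rfl⟩ := ha
  rw [(hcomm x (hX hxX) y (hY hyY)).mul_pow, ← hx x hxX, ← hy y hyY]
  group

omit [Finite G] in
/-- Conjugation acts as a power on a subgroup of prime order which it fixes. -/
theorem exists_pow_eq_conj {X : Subgroup G} {x e : G} (hX : Nat.card X = p) (hx : x ∈ X)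
    (hx1 : x ≠ 1) (he : e ∈ normalizer (X : Set G)) [Finite G] :
    ∃ k : ℕ, e * x * e⁻¹ = x ^ k ∧ ∀ v ∈ X, e * v * e⁻¹ = v ^ k := by
  have hXx : X = zpowers x := by
    refine (eq_of_le_of_card_ge (zpowers_le.mpr hx) ?_).symm
    rw [hX, Nat.card_zpowers]
    refine Nat.le_of_dvd (orderOf_pos x) (dvd_of_eq ?_)
    rw [orderOf_eq_prime (p := p) ?_ hx1]
    exact orderOf_dvd_iff_pow_eq_one.mp (hX ▸ X.orderOf_dvd_natCard hx)
  obtain ⟨k, hk⟩ := (mem_powers_iff_mem_zpowers (x := x)).mpr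
    (hXx ▸ (mem_normalizer_iff.mp he x).mp hx : e * x * e⁻¹ ∈ zpowers x)
  have hk : x ^ k = e * x * e⁻¹ := hk
  refine ⟨k, hk.symm, fun v hv => ?_⟩
  rw [hXx] at hv
  obtain ⟨i, rfl⟩ := (mem_powers_iff_mem_zpowers (x := x)).mpr hv
  show e * x ^ i * e⁻¹ = (x ^ i) ^ k
  rw [← conj_pow, ← hk, ← pow_mul, ← pow_mul, mul_comm]

/-- An element fixing three lines of a plane fixes all its subgroups. -/
theorem fix_of_three_lines {A X Y Z : Subgroup G} (hA : Cfsg.IsElementaryAbelian p A)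
    (hA2 : Nat.card A = p ^ 2) (hX : X ≤ A) (hY : Y ≤ A) (hZ : Z ≤ A) (hXc : Nat.card X = p)
    (hYc : Nat.card Y = p) (hZc : Nat.card Z = p) (hXY : X ≠ Y) (hXZ : Z ≠ X) (hYZ : Z ≠ Y)
    (hsupd : ∀ U V : Subgroup G, U ≤ A → V ≤ A → Nat.card U = p → Nat.card V = p → U ≠ V →
      U ⊔ V = A)
    {e : G} (heX : e ∈ normalizer (X : Set G)) (heY : e ∈ normalizer (Y : Set G))
    (heZ : e ∈ normalizer (Z : Set G)) : ∀ W ≤ A, e ∈ normalizer (W : Set G) := by
  have hcomm : ∀ u ∈ A, ∀ v ∈ A, Commute u v := fun u hu v hv =>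
    congrArg Subtype.val (hA.1.is_comm.comm (⟨u, hu⟩ : A) ⟨v, hv⟩)
  have hsup := hsupd X Y hX hY hXc hYc hXY
  obtain ⟨⟨z, hz⟩, hz1'⟩ := ne_bot_iff_exists_ne_one.mp
    (fun h => hp.out.one_lt.ne' (by rw [← hZc, h, card_bot]) : Z ≠ ⊥)
  have hz1 : z ≠ 1 := fun h => hz1' (Subtype.ext h)
  have hprime : ∀ U V : Subgroup G, Nat.card U = p → Nat.card V = p → U ≠ V → U ⊓ V = ⊥ := by
    intro U V hU hV hne
    rcases (Nat.dvd_prime hp.out).mp (hU ▸ card_dvd_of_le (inf_le_left : U ⊓ V ≤ U)) with h | h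
    · exact eq_bot_of_card_eq _ h
    · refine absurd ?_ hne
      have h1 : U ≤ V := inf_eq_left.mp (eq_of_le_of_card_ge inf_le_left (by rw [h, hU]))
      exact eq_of_le_of_card_ge h1 (by rw [hU, hV])
  have hn : Y ≤ normalizer (X : Set G) := fun b hb => centralizer_le_normalizer _
    (mem_centralizer_iff.mpr fun w hw => hcomm w (hX hw) b (hY hb))
  have hzA : z ∈ X ⊔ Y := hsup.ge (hZ hz)
  rw [← SetLike.mem_coe, coe_mul_of_right_le_normalizer_left X Y hn, Set.mem_mul] at hzA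
  obtain ⟨x, (hx : x ∈ X), y, (hy : y ∈ Y), hxy⟩ := hzA
  have hx1 : x ≠ 1 := fun h => by
    have h1 : z ∈ Y ⊓ Z := ⟨by rw [← hxy, h, one_mul]; exact hy, hz⟩
    rw [hprime Y Z hYc hZc hYZ.symm, mem_bot] at h1
    exact hz1 h1
  have hy1 : y ≠ 1 := fun h => by
    have h1 : z ∈ X ⊓ Z := ⟨by rw [← hxy, h, mul_one]; exact hx, hz⟩
    rw [hprime X Z hXc hZc hXZ.symm, mem_bot] at h1
    exact hz1 h1
  obtain ⟨k, hk, -⟩ := exists_pow_eq_conj hZc hz hz1 heZ
  obtain ⟨i, hi, hiX⟩ := exists_pow_eq_conj hXc hx hx1 heX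
  obtain ⟨j, hj, hjY⟩ := exists_pow_eq_conj hYc hy hy1 heY
  -- compare the components
  have h1 : x ^ i * y ^ j = x ^ k * y ^ k := by
    rw [← hi, ← hj, ← (hcomm x (hX hx) y (hY hy)).mul_pow, hxy, ← hk, ← hxy]
    group
  have h2 : (x ^ k)⁻¹ * x ^ i = y ^ k * (y ^ j)⁻¹ := by
    rw [eq_mul_inv_iff_mul_eq, mul_assoc, h1, inv_mul_cancel_left]
  have h3 : (x ^ k)⁻¹ * x ^ i ∈ X ⊓ Y :=
    Subgroup.mem_inf.mpr ⟨mul_mem (inv_mem (pow_mem hx k)) (pow_mem hx i),
      h2 ▸ mul_mem (pow_mem hy k) (inv_mem (pow_mem hy j))⟩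
  rw [hprime X Y hXc hYc hXY, mem_bot] at h3
  have hik : x ^ i = x ^ k := (inv_mul_eq_one.mp h3).symm
  have hjk : y ^ j = y ^ k := by
    rw [h3] at h2
    exact (mul_inv_eq_one.mp h2.symm).symm
  have hgen : ∀ (U : Subgroup G) (u : G) (a b : ℕ), Nat.card U = p → u ∈ U → u ≠ 1 → u ^ a = u ^ b →
      (∀ v ∈ U, e * v * e⁻¹ = v ^ a) → ∀ v ∈ U, e * v * e⁻¹ = v ^ b := by
    intro U u a b hU hu hu1 hab h v hv
    have hUu : zpowers u = U := by
      refine eq_of_le_of_card_ge (zpowers_le.mpr hu) ?_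
      rw [hU, Nat.card_zpowers,
        orderOf_eq_prime (p := p) (orderOf_dvd_iff_pow_eq_one.mp (hU ▸ U.orderOf_dvd_natCard hu)) hu1]
    rw [← hUu] at hv
    obtain ⟨n, rfl⟩ := (mem_powers_iff_mem_zpowers (x := u)).mpr hv
    show e * u ^ n * e⁻¹ = (u ^ n) ^ b
    rw [h _ (pow_mem hu n), ← pow_mul, ← pow_mul, mul_comm n a, mul_comm n b, pow_mul, hab, ← pow_mul]
  have hall := conj_eq_pow_of_generators hA.1 hX hY hsup (hgen X x i k hXc hx hx1 hik hiX)
    (hgen Y y j k hYc hy hy1 hjk hjY)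
  intro W hW
  refine cj_eq_iff.mp (eq_of_le_of_card_ge ?_ (card_cj e W).ge)
  rintro _ ⟨w, hw, rfl⟩
  show e * w * e⁻¹ ∈ W
  rw [hall w (hW hw)]
  exact pow_mem hw k

/-- A line fixed by a character lifts to an invariant cyclic subgroup. -/
theorem exists_eigen_lift {P H : Subgroup G} [IsMulCommutative P] (hHP : H ≤ normalizer (P : Set G))
    {m : ℕ} (hexp : ∀ v ∈ P, v ^ p ^ (m + 1) = 1) (hH : ¬ p ∣ Nat.card H) {x₀ : G} (hx₀ : x₀ ∈ P)
    (hx : x₀ ^ p ^ m ≠ 1) (hX : H ≤ normalizer (zpowers (x₀ ^ p ^ m) : Set G)) :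
    ∃ y ∈ P, H ≤ normalizer (zpowers y : Set G) ∧ y ^ p ^ m ≠ 1 ∧
      y ^ p ^ m ∈ zpowers (x₀ ^ p ^ m) := by
  classical
  have := Fintype.ofFinite H
  set x := x₀ ^ p ^ m with hxdef
  have hxo : orderOf x = p := orderOf_eq_prime
    (by rw [hxdef, ← pow_mul, ← pow_succ]; exact hexp x₀ hx₀) hx
  have hk : ∀ h : H, ∃ k : ℕ, x ^ k = (h : G) * x * (h : G)⁻¹ := fun h =>
    (mem_powers_iff_mem_zpowers (x := x)).mpr ((mem_normalizer_iff.mp (hX h.2) x).mp (mem_zpowers x))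
  choose k hk using hk
  have hkmul : ∀ a b : H, k (a * b) ≡ k a * k b [MOD p] := fun a b => by
    rw [← hxo, ← pow_eq_pow_iff_modEq, hk, pow_mul, hk a, conj_pow, hk b, coe_mul]
    group
  have hkone : k 1 ≡ 1 [MOD p] := by
    rw [← hxo, ← pow_eq_pow_iff_modEq, hk, pow_one]
    simp
  -- the multiplicative lift of `k`
  let K : H → ℕ := fun h => k h ^ p ^ m
  have hlift : ∀ a b : ℕ, a ≡ b [MOD p] → a ^ p ^ m ≡ b ^ p ^ m [MOD p ^ (m + 1)] := fun a b h => by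
    rw [Nat.modEq_iff_dvd] at h ⊢
    push_cast
    exact dvd_sub_pow_of_dvd_sub h m
  have hKmul : ∀ a b : H, K (a * b) ≡ K a * K b [MOD p ^ (m + 1)] := fun a b => by
    show k (a * b) ^ p ^ m ≡ k a ^ p ^ m * k b ^ p ^ m [MOD p ^ (m + 1)]
    rw [← mul_pow]
    exact hlift _ _ (hkmul a b)
  have hKk : ∀ a : H, K a ≡ k a [MOD p] := fun a => by
    rw [← ZMod.natCast_eq_natCast_iff]
    show ((k a ^ p ^ m : ℕ) : ZMod p) = k a
    rw [Nat.cast_pow, ZMod.pow_card_pow]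
  have hpe : ∀ (v : G), v ∈ P → ∀ {a b : ℕ}, a ≡ b [MOD p ^ (m + 1)] → v ^ a = v ^ b :=
    fun v hv _ _ hab => pow_eq_pow_iff_modEq.mpr
      (hab.of_dvd (orderOf_dvd_of_pow_eq_one (hexp v hv)))
  -- conjugation inside `P`
  let c : H → P → P := fun h v => ⟨h * v * (h : G)⁻¹, (mem_normalizer_iff.mp (hHP h.2) v).mp v.2⟩
  let x₀' : P := ⟨x₀, hx₀⟩
  set Y : P := ∏ h : H, c h x₀' ^ K h⁻¹ with hY
  have hYf : ∀ f : H, c f Y = Y ^ K f := fun f => by
    let φ : P →* P :=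
      { toFun := c f
        map_one' := Subtype.ext (by simp [c])
        map_mul' := fun a b => Subtype.ext (by simp [c, mul_assoc]) }
    have h1 : φ Y = ∏ h : H, c (f * h) x₀' ^ K h⁻¹ := by
      rw [hY, map_prod]
      refine Finset.prod_congr rfl fun h _ => ?_
      rw [map_pow]
      congr 1
      exact Subtype.ext (by simp [φ, c, mul_assoc])
    show φ Y = Y ^ K f
    rw [h1, hY, ← Finset.prod_pow]
    refine Fintype.prod_equiv (Equiv.mulLeft f) _ _ fun h => ?_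
    rw [Equiv.coe_mulLeft, ← pow_mul]
    refine Subtype.ext ?_
    rw [coe_pow, coe_pow]
    refine hpe _ (c (f * h) x₀').2 ?_
    rw [show h⁻¹ = (f * h)⁻¹ * f by group]
    exact hKmul _ _
  have hc : ∀ h : H, ((c h x₀' : P) : G) ^ p ^ m = x ^ k h := fun h => by
    rw [hk]
    exact conj_pow
  have hYm : Y ^ p ^ m = ∏ _h : H, (⟨x, pow_mem hx₀ _⟩ : P) := by
    rw [hY, ← Finset.prod_pow]
    refine Finset.prod_congr rfl fun h _ => ?_
    refine Subtype.ext ?_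
    rw [← pow_mul, mul_comm, pow_mul, coe_pow, coe_pow, hc, ← pow_mul]
    show x ^ (k h * K h⁻¹) = x
    conv_rhs => rw [← pow_one x]
    rw [pow_eq_pow_iff_modEq, hxo]
    calc k h * K h⁻¹ ≡ k h * k h⁻¹ [MOD p] := (hKk _).mul_left _
      _ ≡ k (h * h⁻¹) [MOD p] := (hkmul h h⁻¹).symm
      _ ≡ 1 [MOD p] := by rw [mul_inv_cancel]; exact hkone
  rw [Finset.prod_const, Finset.card_univ, ← Nat.card_eq_fintype_card] at hYm
  have hYm' : (Y : G) ^ p ^ m = x ^ Nat.card H := congrArg Subtype.val hYm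
  refine ⟨Y, Y.2, fun f hf => ?_, ?_, ?_⟩
  · refine cj_eq_iff.mp (eq_of_le_of_card_ge ?_ (card_cj f _).ge)
    show (zpowers (Y : G)).map (MulAut.conj f).toMonoidHom ≤ _
    rw [MonoidHom.map_zpowers, zpowers_le]
    have h := congrArg Subtype.val (hYf ⟨f, hf⟩)
    rw [coe_pow] at h
    exact (show (MulAut.conj f).toMonoidHom (Y : G) = _ from h) ▸ pow_mem (mem_zpowers _) _
  · rw [hYm']
    intro h
    exact hH (hxo ▸ orderOf_dvd_of_pow_eq_one h)
  · rw [hYm']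
    exact pow_mem (mem_zpowers x) _

omit hp in
/-- A subgroup with enough elements has the exponent of the whole group. -/
theorem exponent_eq_of_prime_powers {E₀ E : Subgroup G} (hle : E₀ ≤ E)
    (h : ∀ r : ℕ, r.Prime → ∀ u ∈ E, IsPGroup r (zpowers u) → ∃ v ∈ E₀, orderOf u ∣ orderOf v) :
    Monoid.exponent E₀ = Monoid.exponent E := by
  refine Nat.dvd_antisymm (Monoid.exponent_dvd.mpr fun v => ?_) (Monoid.exponent_dvd.mpr fun u => ?_)
  · rw [← Subgroup.orderOf_coe v]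
    have := Monoid.order_dvd_exponent (⟨v, hle v.2⟩ : E)
    rwa [Subgroup.orderOf_mk] at this
  · rw [← Subgroup.orderOf_coe u]
    refine (Nat.dvd_iff_prime_pow_dvd_dvd _ _).mpr fun r k hr hd => ?_
    set o := orderOf (u : G)
    have ho : orderOf ((u : G) ^ (o / r ^ k)) = r ^ k := by
      rw [orderOf_pow_of_dvd (Nat.div_pos (Nat.le_of_dvd (orderOf_pos _) hd)
        (pow_pos hr.pos k)).ne' (Nat.div_dvd_of_dvd hd),
        Nat.div_div_self hd (orderOf_pos _).ne']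
    obtain ⟨v, hv, hdvd⟩ := h r hr _ (pow_mem u.2 _)
      (IsPGroup.of_card (n := k) (by rw [Nat.card_zpowers, ho]))
    rw [ho] at hdvd
    refine hdvd.trans ?_
    have := Monoid.order_dvd_exponent (⟨v, hv⟩ : E₀)
    rwa [Subgroup.orderOf_mk] at this

omit hp in
/-- A Sylow subgroup of `L` is one of `M = K L` when the prime does not divide `|K|`. -/
theorem isSylowOf_of_le_sup {r : ℕ} [hr : Fact r.Prime] {K L M R : Subgroup G}
    (hR : IsSylowOf r R L) (hKM : K ≤ M) (hLM : L ≤ M) (hLK : L ≤ normalizer (K : Set G))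
    (hM : M ≤ K ⊔ L) (hrK : ¬ r ∣ Nat.card K) : IsSylowOf r R M := by
  refine ⟨hR.1.trans hLM, hR.2.1, ?_⟩
  have hsup : K ⊔ L = M := le_antisymm (sup_le hKM hLM) hM
  have h1 := relIndex_mul_relIndex ⊥ L M bot_le hLM
  rw [relIndex_bot_left, relIndex_bot_left] at h1
  have h2 := relIndex_mul_relIndex ⊥ K M bot_le hKM
  rw [relIndex_bot_left, relIndex_bot_left] at h2
  have hrel : K.relIndex M ∣ Nat.card L := by
    have : (K.subgroupOf M).Normal :=
      normal_subgroupOf_of_le_normalizer (hsup ▸ sup_le le_normalizer hLK)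
    have hn := relIndex_sup_right (H := L.subgroupOf M) (K := K.subgroupOf M)
    rw [← subgroupOf_sup hLM hKM, relIndex_subgroupOf (sup_le hLM hKM),
      relIndex_subgroupOf hLM, sup_comm, hsup] at hn
    exact hn ▸ relIndex_dvd_card _ _
  have hdvd : L.relIndex M ∣ Nat.card K := by
    obtain ⟨c, hc⟩ := hrel
    refine ⟨c, ?_⟩
    have h3 : Nat.card L * L.relIndex M * c = Nat.card K * Nat.card L := by
      rw [h1, ← h2, mul_assoc, ← hc]
    refine mul_left_cancel₀ (Nat.card_pos (α := L)).ne' ?_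
    rw [← mul_assoc, h3, mul_comm]
  have hidx : ¬ r ∣ L.relIndex M := fun hd => hrK (hd.trans hdvd)
  have hpos : L.relIndex M ≠ 0 := fun e => by
    rw [e, mul_zero] at h1
    exact Nat.card_pos.ne' h1.symm
  rw [hR.2.2, ← h1, Nat.factorization_mul Nat.card_pos.ne' hpos, Finsupp.add_apply,
    Nat.factorization_eq_zero_of_not_dvd hidx, add_zero]

end Cfsg.Agent.OddOrder.BG11
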