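import Cfsg.Agent.OddOrder.BG11.MaxElem
import Cfsg.Agent.OddOrder.BG11.FpfNilpotent
import Cfsg.Agent.Frobenius.Nilpotent

/-!
BG 11, the elementary part: a maximal subgroup `M` with `A ≤ M` elementary of order `p ^ 2`,
`p ∉ σ(M)`, and a line `A₀` of `A` with `N(A₀) ≤ M`.
-/

set_option autoImplicit false

universe u

namespace Cfsg.Agent.OddOrder.BG11

open Subgroup H40
open scoped commutatorElement

variable {G : Type u} [Group G] [Finite G] {p : ℕ} [hp : Fact p.Prime]

/-- The situation of BG 11. -/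
structure Exc (M A₀ A : Subgroup G) (p : ℕ) : Prop where
  coatom : IsCoatom M
  nsigma : p ∉ Cfsg.sigma M
  le : A ≤ M
  elem : Cfsg.IsElementaryAbelian p A
  card : Nat.card A = p ^ 2
  le₀ : A₀ ≤ A
  card₀ : Nat.card A₀ = p
  norm : normalizer (A₀ : Set G) ≤ M

variable {M A₀ A : Subgroup G}

omit hp in
theorem Exc.centralizer_A_le (E : Exc M A₀ A p) : centralizer (A : Set G) ≤ M :=
  (centralizer_le E.le₀).trans ((Subgroup.centralizer_le_normalizer _).trans E.norm)

omit hp in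
theorem Exc.ne_bot₀ (E : Exc M A₀ A p) (hp : p.Prime) : A₀ ≠ ⊥ :=
  ne_bot_of_card (E.card₀ ▸ hp.one_lt)

theorem Exc.dvd_card (E : Exc M A₀ A p) : p ∣ Nat.card M := dvd_of_elemAb E.card E.le

theorem Exc.not_dvd_sigmaCore (E : Exc M A₀ A p) : ¬ p ∣ Nat.card (Cfsg.sigmaCore M) :=
  fun h => E.nsigma (sigmaCore_isPiNumber M p hp.out h)

omit [Finite G] hp in
theorem eq_zpowers_of_prime [Finite G] {p : ℕ} {X : Subgroup G} (hX : Nat.card X = p) (hp : p.Prime)
    {x : G} (hx : x ∈ X) (hx1 : x ≠ 1) : X = zpowers x := by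
  refine (eq_of_le_of_card_ge (zpowers_le.mpr hx) ?_).symm
  have h : orderOf x ∣ p := hX ▸ X.orderOf_dvd_natCard hx
  rw [Nat.card_zpowers, hX, ((Nat.dvd_prime hp).mp h).resolve_left fun e => hx1 (orderOf_eq_one_iff.mp e)]

/-- Two different lines of `A` generate `A`. -/
theorem sup_eq_of_lines {A X Y : Subgroup G} (hA : Nat.card A = p ^ 2) (hX : X ≤ A) (hY : Y ≤ A)
    (hXc : Nat.card X = p) (hYc : Nat.card Y = p) (hne : X ≠ Y) : X ⊔ Y = A := by
  refine eq_of_le_of_card_ge (sup_le hX hY) ?_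
  have h1 : p ∣ Nat.card ↥(X ⊔ Y) := hXc ▸ card_dvd_of_le le_sup_left
  obtain ⟨k, hk2, hk⟩ := (Nat.dvd_prime_pow hp.out).mp (hA ▸ card_dvd_of_le (sup_le hX hY))
  rw [hA, hk]
  rcases Nat.lt_or_ge k 2 with hk' | hk'
  · exfalso
    have hle : Nat.card ↥(X ⊔ Y) ≤ p := hk ▸ (Nat.pow_le_pow_right hp.out.pos
      (show k ≤ 1 by omega)).trans (pow_one p).le
    have e1 : X = X ⊔ Y := eq_of_le_of_card_ge le_sup_left (hXc ▸ hle)
    have e2 : Y = X ⊔ Y := eq_of_le_of_card_ge le_sup_right (hYc ▸ hle)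
    exact hne (e1.trans e2.symm)
  · exact Nat.pow_le_pow_right hp.out.pos hk'

namespace Exc

variable (E : Exc M A₀ A p) (S10 : Section10 G)
include E S10

theorem max : ∀ B : Subgroup G, Cfsg.IsElementaryAbelian p B → A ≤ B → B = A :=
  S10.eq_of_elemAb_ge E.coatom E.nsigma E.le E.elem E.card

theorem sylowOf_top_of_sigma {q : ℕ} [Fact q.Prime] (hq : q ∈ Cfsg.sigma M) {Q : Subgroup G}
    (hQ : IsSylowOf q Q M) : ∃ S : Sylow q G, (S : Subgroup G) = Q :=
  Section10.sylow_top hq hQ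

/-- BG 11.2: `M_σ` meets `M ^ g` trivially for `g ∉ M` with `A ≤ M ^ g`. -/
theorem inf_cj_eq_bot {g : G} (hg : g ∉ M) (hAg : A ≤ cj g M) :
    Cfsg.sigmaCore M ⊓ cj g M = ⊥ := by
  by_contra hne
  have hM := E.coatom
  have hAn : A ≤ normalizer ((Cfsg.sigmaCore M ⊓ cj g M : Subgroup G) : Set G) :=
    fun a ha => cj_eq_iff.mp (by
      rw [cj_inf, cj_eq_iff.mpr (le_normalizer_sigmaCore M (E.le ha)), cj_eq_of_mem (hAg ha)])
  set D := Cfsg.sigmaCore M ⊓ cj g M
  obtain ⟨q, hq, hqd⟩ := Nat.exists_prime_and_dvd (mt card_eq_one.mp hne)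
  have : Fact q.Prime := ⟨hq⟩
  have hqs : q ∈ Cfsg.sigma M :=
    sigmaCore_isPiNumber M q hq (hqd.trans (card_dvd_of_le inf_le_left))
  have hqp : q ≠ p := fun e => E.nsigma (e ▸ hqs)
  have hpD : ¬ p ∣ Nat.card D := fun h => E.not_dvd_sigmaCore (h.trans (card_dvd_of_le inf_le_left))
  have hsolA : Group.IsSolvable A := by
    have := (elemAb_isPGroup E.elem).isNilpotent
    infer_instance
  obtain ⟨T, hT⟩ := Coprime.exists_invariant_sylow hAn
    (coprime_card_of_isPGroup (elemAb_isPGroup E.elem) hpD) (Or.inl hsolA) q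
  set Q₀ := (T : Subgroup D).map D.subtype
  have hQ₀D : Q₀ ≤ D := map_subtype_le _
  have hQ₀ne : Q₀ ≠ ⊥ := sylowOf_ne_bot (isSylowOf_map T) hqd
  have hQ₀p : IsPGroup q Q₀ := T.isPGroup'.map _
  have hmax := E.max S10
  have hb := S10.not_mem_beta E.elem E.card hmax
  obtain ⟨Q₁, hQ₁, hle₁, hA₁⟩ := S10.exists_invariant_sylow_ge hM (elemAb_isPGroup E.elem) E.le
    E.dvd_card (hb M) hqs hqp ((hQ₀D.trans inf_le_left).trans (sigmaCore_le M)) hQ₀p hT
  obtain ⟨Q₂, hQ₂, hle₂, hA₂⟩ := S10.exists_invariant_sylow_ge (coatom_cj hM g)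
    (elemAb_isPGroup E.elem) hAg (by rw [card_cj]; exact E.dvd_card) (hb _)
    (mem_sigma_cj g hqs) hqp (hQ₀D.trans inf_le_right) hQ₀p hT
  obtain ⟨k, hk, e⟩ := S10.exists_centralizer_conj E.elem E.card hmax hqp
    (mem_maxInv_of_sylow (Section10.sylow_top hqs hQ₁) hA₁)
    (mem_maxInv_of_sylow (Section10.sylow_top (mem_sigma_cj g hqs) hQ₂) hA₂) hQ₀ne hle₁ hle₂ hT
  have hQ₂M : IsSylowOf q Q₂ M := by
    rw [← e]
    conv => arg 3; rw [← cj_eq_of_mem (E.centralizer_A_le hk)]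
    exact isSylowOf_cj hQ₁ k
  have hX : IsSylowOf q (cj g⁻¹ Q₂) M := by
    have h := isSylowOf_cj hQ₂ g⁻¹
    rwa [cj_inv_cj] at h
  obtain ⟨m, hm, hm'⟩ := exists_conj_eq hX hQ₂M
  have h1 : cj (g * m) Q₂ = Q₂ := by rw [cj_mul, hm', cj_cj_inv]
  refine hg ?_
  have h2 := normalizer_le_of_mem_sigma hqs hQ₂M (cj_eq_iff.mp h1)
  simpa using M.mul_mem h2 (M.inv_mem hm)

/-- BG 11.3: the conjugates of `A₀` outside `M` act without fixed points. -/
theorem inf_centralizer_cj {g : G} (hg : g ∉ M) (hAg : A ≤ cj g M) :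
    Cfsg.sigmaCore M ⊓ centralizer (cj g A₀ : Set G) = ⊥ := by
  rw [eq_bot_iff, ← E.inf_cj_eq_bot S10 hg hAg, ← cj_centralizer]
  exact inf_le_inf_left _ (cj_mono g ((centralizer_le_normalizer _).trans E.norm))

omit S10 in
/-- Some element outside `M` normalizes a given Sylow subgroup. -/
theorem exists_not_mem {P : Subgroup G} (hP : IsSylowOf p P M) (hAP : A ≤ P) :
    ∃ g : G, g ∈ normalizer (P : Set G) ∧ g ∉ M ∧ A ≤ cj g M ∧ cj g A₀ ≤ P := by
  obtain ⟨g, hg, hgM⟩ := SetLike.not_le_iff_exists.mp (not_normalizer_le E.nsigma E.dvd_card hP)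
  exact ⟨g, hg, hgM, hAP.trans ((cj_eq_iff.mpr hg).ge.trans (cj_mono g hP.1)),
    (cj_mono g (E.le₀.trans hAP)).trans (cj_eq_iff.mpr hg).le⟩

/-- `M_σ` is nilpotent. -/
theorem sigmaCore_nilpotent : Group.IsNilpotent (Cfsg.sigmaCore M) := by
  obtain ⟨P, hP, hAP⟩ := exists_sylowOf_ge' (elemAb_isPGroup E.elem) E.le
  obtain ⟨g, hg, hgM, hAg, hX⟩ := E.exists_not_mem hP hAP
  obtain ⟨⟨t, ht⟩, ht1⟩ := ne_bot_iff_exists_ne_one.mp
    (ne_bot_of_card (by rw [card_cj, E.card₀]; exact hp.out.one_lt) : cj g A₀ ≠ ⊥)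
  have ht1' : t ≠ 1 := fun e => ht1 (Subtype.ext e)
  have hXc : Nat.card (cj g A₀) = p := by rw [card_cj, E.card₀]
  set Y := normalizer (Cfsg.sigmaCore M : Set G)
  have hσY : Cfsg.sigmaCore M ≤ Y := le_normalizer
  have htY : t ∈ Y := le_normalizer_sigmaCore M (hP.1 (hX ht))
  have : ((Cfsg.sigmaCore M).subgroupOf Y).Normal := normal_in_normalizer
  have hnil : Group.IsNilpotent ((Cfsg.sigmaCore M).subgroupOf Y) := by
    refine Frobenius.isNilpotent_of_centralizer (h := (⟨t, htY⟩ : Y)) hp.out ?_ fun k hk hc => ?_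
    · refine Subtype.ext ?_
      have h : orderOf t ∣ p := hXc ▸ (cj g A₀).orderOf_dvd_natCard ht
      simpa using orderOf_dvd_iff_pow_eq_one.mp h
    · refine Subtype.ext ?_
      have h1 : (k : G) ∈ Cfsg.sigmaCore M ⊓ centralizer (cj g A₀ : Set G) := by
        refine ⟨hk, mem_centralizer_iff.mpr fun a ha => ?_⟩
        rw [eq_zpowers_of_prime hXc hp.out ht ht1'] at ha
        obtain ⟨i, rfl⟩ := mem_zpowers_iff.mp ha
        exact (Commute.zpow_left (congrArg Subtype.val hc : t * (k : G) = k * t) i).eq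
      rwa [E.inf_centralizer_cj S10 hgM hAg, mem_bot] at h1
  exact Group.nilpotent_of_mulEquiv (subgroupOfEquivOfLe hσY)

/-- The Sylow `p`-subgroups of `M` containing `A` are abelian. -/
theorem commute_sylow {P : Subgroup G} (hP : IsSylowOf p P M) (hAP : A ≤ P) :
    ∀ x ∈ P, ∀ y ∈ P, x * y = y * x := by
  by_contra hnc
  have hG := S10.minSimple
  have hM := E.coatom
  obtain ⟨S, hS⟩ := hP.2.1.exists_le_sylow
  have hnot : ¬ A ≤ centralizer (P : Set G) := fun hc => hnc fun x hx y hy =>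
    S10.commute_centralizer_inf_sylow E.elem E.card (E.max S10) S (hAP.trans hS) (hS hx) (hS hy)
      (le_centralizer_iff.mp hc hx) (le_centralizer_iff.mp hc hy)
  have hne : commutator P ≠ ⊥ := fun e => hnc fun x hx y hy => by
    have h : ⁅(⟨x, hx⟩ : P), ⟨y, hy⟩⁆ ∈ commutator P := by
      rw [_root_.commutator_def]
      exact commutator_mem_commutator (mem_top _) (mem_top _)
    rw [e, mem_bot] at h
    exact congrArg Subtype.val (commutatorElement_eq_one_iff_commute.mp h).eq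
  obtain ⟨z', hz'd, hz'c, hz'o⟩ := PGroups.exists_mem_center_orderOf_eq hP.2.1 (commutator P) hne
  set z := (z' : G) with hz
  have hzP : z ∈ P := z'.2
  have hzo : orderOf z = p := by rw [hz, Subgroup.orderOf_coe]; exact hz'o
  have hzc : ∀ w ∈ P, w * z = z * w := fun w hw =>
    congrArg Subtype.val (mem_center_iff.mp hz'c ⟨w, hw⟩)
  have hcenA : ∀ w ∈ P, (∀ v ∈ P, v * w = w * v) → w ^ p = 1 → w ∈ A := fun w hw hwc hwp =>
    Section10.mem_of_pow_eq_one E.elem (E.max S10)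
      (mem_centralizer_iff.mpr fun a ha => hwc a (hAP ha)) hwp
  have hzA : z ∈ A := hcenA z hzP hzc (hzo ▸ pow_orderOf_eq_one z)
  set Z := zpowers z with hZ
  have hZc : Nat.card Z = p := by rw [Nat.card_zpowers, hzo]
  have hZA : Z ≤ A := zpowers_le.mpr hzA
  have hZP : Z ≤ P := zpowers_le.mpr hzP
  have huniq : ∀ w ∈ P, (∀ v ∈ P, v * w = w * v) → w ^ p = 1 → w ∈ Z := fun w hw hwc hwp => by
    by_contra hwZ
    refine hnot ?_
    have hw1 : w ≠ 1 := fun e => hwZ (e ▸ one_mem Z)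
    have hsup : Z ⊔ zpowers w = A := sup_eq_of_lines E.card hZA (zpowers_le.mpr (hcenA w hw hwc hwp))
      hZc (by rw [Nat.card_zpowers, orderOf_eq_prime hwp hw1])
      (fun e => hwZ (e ▸ mem_zpowers w))
    rw [← hsup, sup_le_iff, hZ, zpowers_le, zpowers_le]
    exact ⟨mem_centralizer_iff.mpr hzc, mem_centralizer_iff.mpr hwc⟩
  have hNPZ : normalizer (P : Set G) ≤ normalizer (Z : Set G) := by
    intro n hn
    refine cj_eq_iff.mp (eq_of_le_of_card_ge ?_ (card_cj n Z).ge)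
    rintro _ ⟨v, hv, rfl⟩
    have hmem : ∀ u ∈ P, n⁻¹ * u * n ∈ P := fun u hu => (mem_normalizer_iff''.mp hn u).mp hu
    refine huniq _ ((mem_normalizer_iff.mp hn v).mp (hZP hv)) (fun u hu => ?_) ?_
    · have h := (mem_centralizer_iff.mp ((zpowers_le.mpr (mem_centralizer_iff.mpr hzc)) hv))
        _ (hmem u hu)
      calc u * (n * v * n⁻¹) = n * (n⁻¹ * u * n * v) * n⁻¹ := by group
        _ = n * (v * (n⁻¹ * u * n)) * n⁻¹ := by rw [h]
        _ = n * v * n⁻¹ * u := by group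
    · show ((MulAut.conj n) v) ^ p = 1
      rw [← map_pow, E.elem.2 v (hZA hv), map_one]
  obtain ⟨g, hg, hgM, hAg, hXP⟩ := E.exists_not_mem hP hAP
  set X := cj g A₀
  have hXc : Nat.card X = p := by rw [card_cj, E.card₀]
  have hXne : X ≠ Z := fun e => by
    refine not_normalizer_le E.nsigma E.dvd_card hP (hNPZ.trans ?_)
    have e' : A₀ = Z := by
      rw [← cj_inv_cj g A₀]
      exact (congrArg (cj g⁻¹) e).trans (cj_eq_iff.mpr (hNPZ (inv_mem hg)))
    exact e' ▸ E.norm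
  obtain ⟨⟨a, ha⟩, ha1'⟩ := ne_bot_iff_exists_ne_one.mp (ne_bot_of_card (hXc ▸ hp.out.one_lt) : X ≠ ⊥)
  have ha1 : a ≠ 1 := fun e => ha1' (Subtype.ext e)
  have haP : a ∈ P := hXP ha
  have hXa : X = zpowers a := eq_zpowers_of_prime hXc hp.out ha ha1
  have hap : a ^ p = 1 := by
    have h : orderOf a ∣ p := hXc ▸ X.orderOf_dvd_natCard ha
    exact orderOf_dvd_iff_pow_eq_one.mp h
  set C := P ⊓ centralizer ({a} : Set G) with hC
  have hlt : C < P := lt_of_le_of_ne inf_le_left fun e => by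
    refine hXne (eq_of_le_of_card_ge ?_ (by rw [hZc, hXc]))
    rw [hXa, zpowers_le]
    exact huniq a haP (fun v hv => mem_centralizer_singleton_iff.mp (inf_eq_left.mp e hv)) hap
  obtain ⟨x, hxP, hxC, hxN⟩ := H41.exists_mem_notMem_normalizer' hP.2.1 hlt
  set W := Z ⊔ X with hW
  have hzca : z ∈ centralizer ({a} : Set G) := mem_centralizer_singleton_iff.mpr (hzc a haP).symm
  have hWC : W ≤ C := sup_le (le_inf hZP (zpowers_le.mpr hzca))
    (le_inf hXP (hXa ▸ zpowers_le.mpr (mem_centralizer_singleton_iff.mpr rfl)))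
  have hWe : Cfsg.IsElementaryAbelian p W := by
    rw [hW, hXa]
    exact BG5.elementary_sup (BG5.elementary_zpowers (hzo ▸ pow_orderOf_eq_one z))
      (BG5.elementary_zpowers hap)
      (zpowers_le.mpr (mem_centralizer_iff.mpr fun v hv => by
        obtain ⟨i, rfl⟩ := mem_zpowers_iff.mp hv
        exact (Commute.zpow_left (hzc a haP).symm i).eq))
  have hWc : Nat.card W = p ^ 2 := by
    have hle := card_le_of_pRankLE (S10.pRankLE_two hM E.nsigma) ((hWC.trans inf_le_left).trans hP.1) hWe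
    obtain ⟨k, hk⟩ := IsPGroup.iff_card.mp (elemAb_isPGroup hWe)
    rw [hk] at hle ⊢
    refine le_antisymm hle (Nat.pow_le_pow_right hp.out.pos ?_)
    by_contra hk2
    have h1 : Nat.card W ≤ p :=
      hk ▸ (Nat.pow_le_pow_right hp.out.pos (show k ≤ 1 by omega)).trans (pow_one p).le
    exact hXne ((eq_of_le_of_card_ge (le_sup_right : X ≤ W) (hXc ▸ h1)).trans
      (eq_of_le_of_card_ge (le_sup_left : Z ≤ W) (hZc ▸ h1)).symm)
  have hWM : W ≤ M := (hWC.trans inf_le_left).trans hP.1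
  have hWmax := S10.eq_of_elemAb_ge hM E.nsigma hWM hWe hWc
  have hxW : x ∈ normalizer (W : Set G) := by
    refine cj_eq_iff.mp (eq_of_le_of_card_ge ?_ (card_cj x W).ge)
    rintro _ ⟨v, hv, rfl⟩
    have hvC : x * v * x⁻¹ ∈ C := (mem_normalizer_iff.mp hxN v).mp (hWC hv)
    refine Section10.mem_of_pow_eq_one hWe hWmax ?_
      (show ((MulAut.conj x) v) ^ p = 1 by rw [← map_pow, hWe.2 v hv, map_one])
    have h1 : W ≤ centralizer ({x * v * x⁻¹} : Set G) := by
      rw [hW, sup_le_iff, hZ, hXa, zpowers_le, zpowers_le]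
      exact ⟨mem_centralizer_singleton_iff.mpr (hzc _ hvC.1).symm,
        mem_centralizer_singleton_iff.mpr (mem_centralizer_singleton_iff.mp hvC.2).symm⟩
    exact mem_centralizer_iff.mpr fun w hw => mem_centralizer_singleton_iff.mp (h1 hw)
  set c := x * a * x⁻¹ * a⁻¹ with hcdef
  have hc1 : c ≠ 1 := fun e => hxC ⟨hxP, mem_centralizer_singleton_iff.mpr (by
    rw [hcdef, mul_inv_eq_one, mul_inv_eq_iff_eq_mul] at e; exact e)⟩
  have hcW : c ∈ W := W.mul_mem ((mem_normalizer_iff.mp hxW a).mp (mem_sup_right ha))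
    (W.inv_mem (mem_sup_right ha))
  -- `c` is a generator of `Z`
  have hcZ : c ∈ Z := by
    by_contra hcZ
    set D := ⁅W, zpowers x⁆
    have hxp : IsPGroup p (zpowers x) := hP.2.1.to_le (zpowers_le.mpr hxP)
    have hDlt : D < W := Coprime.commutator_lt_of_isPGroup (elemAb_isPGroup hWe) hxp
      (zpowers_le.mpr hxW) (ne_bot_of_card (hWc ▸ Nat.one_lt_pow two_ne_zero hp.out.one_lt))
    have hcD : c ∈ D := by
      have h1 : ⁅x, a⁆ ∈ ⁅zpowers x, W⁆ :=
        commutator_mem_commutator (mem_zpowers x) (mem_sup_right ha)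
      rw [Subgroup.commutator_comm] at h1
      simpa [commutatorElement_def, hcdef] using h1
    have hDc : Nat.card D = p := by
      obtain ⟨k, hk2, hk⟩ := (Nat.dvd_prime_pow hp.out).mp (hWc ▸ card_dvd_of_le hDlt.le)
      have hk1 : k ≠ 0 := fun e => hc1 (by
        rw [e, pow_zero] at hk
        exact mem_bot.mp (eq_bot_of_card_eq D hk ▸ hcD))
      have hk' : k ≠ 2 := fun e => hDlt.ne (eq_of_le_of_card_ge hDlt.le (by rw [hk, e, hWc]))
      rw [hk, show k = 1 by omega, pow_one]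
    have hDZ : Z ⊔ D = W := sup_eq_of_lines hWc le_sup_left hDlt.le hZc hDc
      (fun e => hcZ (e ▸ hcD))
    have hxD : zpowers x ≤ centralizer (D : Set G) := by
      have hn : zpowers x ≤ normalizer (D : Set G) := normalizer_commutator_ge_right W (zpowers x)
      have h1 := Coprime.commutator_lt_of_isPGroup (hP.2.1.to_le
        ((hDlt.le.trans hWC).trans inf_le_left)) hxp hn (ne_bot_of_card (hDc ▸ hp.out.one_lt))
      have h2 : ⁅D, zpowers x⁆ = ⊥ := by
        obtain ⟨k, hk, hk'⟩ := (Nat.dvd_prime_pow hp.out).mp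
          (show Nat.card ↥⁅D, zpowers x⁆ ∣ p ^ 1 by rw [pow_one, ← hDc]; exact card_dvd_of_le h1.le)
        rcases k with _ | k
        · exact eq_bot_of_card_eq _ (by rwa [pow_zero] at hk')
        · refine absurd (eq_of_le_of_card_ge h1.le ?_) h1.ne
          rw [hk', hDc, show k = 0 by omega, zero_add, pow_one]
      rw [Subgroup.commutator_comm] at h2
      exact commutator_eq_bot_iff_le_centralizer.mp h2
    have hxW' : zpowers x ≤ centralizer (W : Set G) := by
      rw [le_centralizer_iff, ← hDZ, sup_le_iff]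
      refine ⟨?_, le_centralizer_iff.mp hxD⟩
      rw [hZ, zpowers_le]
      refine mem_centralizer_iff.mpr fun v hv => ?_
      obtain ⟨i, rfl⟩ := mem_zpowers_iff.mp hv
      exact (Commute.zpow_left (hzc x hxP) i).eq
    refine hc1 ?_
    have h := mem_centralizer_iff.mp (hxW' (mem_zpowers x)) a (mem_sup_right ha)
    rw [hcdef, ← h, mul_inv_cancel_right, mul_inv_cancel]
  -- so every line of `W` except `Z` is a conjugate of `X`
  have hconj : ∀ i : ℕ, a * c ^ i = x ^ i * a * (x ^ i)⁻¹ := by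
    intro i
    induction i with
    | zero => simp
    | succ i ih =>
      have hci : x * c ^ i = c ^ i * x := by
        obtain ⟨j, hj⟩ := mem_zpowers_iff.mp (pow_mem hcZ i)
        rw [← hj]
        exact (Commute.zpow_right (hzc x hxP) j).eq
      have hca : c * a = a * c := by
        obtain ⟨j, hj⟩ := mem_zpowers_iff.mp hcZ
        rw [← hj]
        exact (Commute.zpow_left (hzc a haP).symm j).eq
      calc a * c ^ (i + 1) = c * (a * c ^ i) := by rw [pow_succ', ← mul_assoc, ← hca, mul_assoc]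
        _ = x * a * x⁻¹ * c ^ i := by rw [hcdef]; group
        _ = x * (a * c ^ i) * x⁻¹ := by
          rw [mul_assoc (x * a), (Commute.inv_left hci).eq]; group
        _ = x ^ (i + 1) * a * (x ^ (i + 1))⁻¹ := by rw [ih, pow_succ']; group
  have hfix := E.inf_centralizer_cj S10 hgM hAg
  have hzσ : z ∈ centralizer (Cfsg.sigmaCore M : Set G) := by
    have : IsMulCommutative W := hWe.1
    have hWσ : W ≤ normalizer (Cfsg.sigmaCore M : Set G) := hWM.trans (le_normalizer_sigmaCore M)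
    have hcop := coprime_card_of_isPGroup (elemAb_isPGroup hWe) E.not_dvd_sigmaCore
    have key : Cfsg.sigmaCore M ≤ centralizer ({z} : Set G) := by
      refine Coprime.le_of_centralizer_le (A := W) (x := a) (y := c) (p := p) (mem_sup_right ha) hcW
        _ _ hWσ hcop (hp.out.coprime_iff_not_dvd.mpr E.not_dvd_sigmaCore) ?_ ?_ ?_ ?_
      · rw [hap]; exact one_mem _
      · rw [hWe.2 c hcW]; exact one_mem _
      · intro v hv
        have hZcen : Z = zpowers c := eq_zpowers_of_prime hZc hp.out hcZ hc1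
        obtain ⟨j, hj⟩ := mem_zpowers_iff.mp (hZcen ▸ mem_zpowers z : z ∈ zpowers c)
        rw [mem_centralizer_singleton_iff, ← hj]
        exact (Commute.zpow_right (mem_centralizer_singleton_iff.mp hv.2) j).eq
      · intro i _ v hv
        have h1 : cj (x ^ i)⁻¹ (zpowers v) ≤
            Cfsg.sigmaCore M ⊓ centralizer (X : Set G) := by
          refine le_inf ?_ ?_
          · refine (cj_mono _ (zpowers_le.mpr hv.1)).trans ?_
            exact (cj_eq_iff.mpr (le_normalizer_sigmaCore M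
              (hP.1 (inv_mem (pow_mem hxP i))))).le
          · rintro _ ⟨u, hu, rfl⟩
            obtain ⟨j, rfl⟩ := mem_zpowers_iff.mp hu
            have h2 := mem_centralizer_singleton_iff.mp hv.2
            rw [hconj i] at h2
            refine mem_centralizer_iff.mpr fun w hw => ?_
            rw [hXa] at hw
            obtain ⟨l, rfl⟩ := mem_zpowers_iff.mp hw
            have h3 : Commute a ((x ^ i)⁻¹ * v * x ^ i) := by
              show a * ((x ^ i)⁻¹ * v * x ^ i) = (x ^ i)⁻¹ * v * x ^ i * a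
              calc a * ((x ^ i)⁻¹ * v * x ^ i)
                  = (x ^ i)⁻¹ * (x ^ i * a * (x ^ i)⁻¹ * v) * x ^ i := by group
                _ = (x ^ i)⁻¹ * (v * (x ^ i * a * (x ^ i)⁻¹)) * x ^ i := by rw [h2]
                _ = _ := by group
            have h4 : (MulAut.conj (x ^ i)⁻¹).toMonoidHom (v ^ j) = ((x ^ i)⁻¹ * v * x ^ i) ^ j := by
              rw [map_zpow]
              congr 1
              show (x ^ i)⁻¹ * v * ((x ^ i)⁻¹)⁻¹ = _
              rw [inv_inv]
            show a ^ l * (MulAut.conj (x ^ i)⁻¹).toMonoidHom (v ^ j) = _ * a ^ l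
            rw [h4]
            exact ((h3.zpow_left l).zpow_right j).eq
        rw [hfix, le_bot_iff] at h1
        have : zpowers v = ⊥ :=
          map_injective (f := (MulAut.conj (x ^ i)⁻¹).toMonoidHom) (MulAut.conj (x ^ i)⁻¹).injective
            (h1.trans (Subgroup.map_bot _).symm)
        rw [zpowers_eq_bot] at this
        exact this ▸ one_mem _
    exact mem_centralizer_iff.mpr fun v hv => mem_centralizer_singleton_iff.mp (key hv)
  have hzD : z ∈ centDerived M := by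
    refine ⟨?_, hzσ⟩
    have h1 : (commutator P).map P.subtype ≤ ⁅M, M⁆ := by
      rw [_root_.commutator_def, map_commutator, ← MonoidHom.range_eq_map, P.range_subtype]
      exact commutator_mono hP.1 hP.1
    exact h1 (mem_map_of_mem _ hz'd)
  have hMZ := S10.le_normalizer_of_le_centDerived hM E.nsigma (zpowers_le.mpr hzD)
    (elemAb_isPGroup (elemAb_mono E.elem hZA))
  exact not_normalizer_le E.nsigma E.dvd_card hP
    (hNPZ.trans (normalizer_eq_coatom hG hM (hZP.trans hP.1)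
      (ne_bot_of_card (hZc ▸ hp.out.one_lt)) hMZ).le)

/-- `A` consists of the elements of order dividing `p` of a Sylow subgroup containing it. -/
theorem pow_eq_one_iff {P : Subgroup G} (hP : IsSylowOf p P M) (hAP : A ≤ P) {x : G} (hx : x ∈ P) :
    x ^ p = 1 ↔ x ∈ A :=
  ⟨Section10.mem_of_pow_eq_one E.elem (E.max S10)
    (mem_centralizer_iff.mpr fun a ha => E.commute_sylow S10 hP hAP a (hAP ha) x hx), E.elem.2 x⟩

/-- A normalizer of the Sylow subgroup normalizes `A`. -/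
theorem normalizer_sylow_le_normalizer {P : Subgroup G} (hP : IsSylowOf p P M) (hAP : A ≤ P) :
    normalizer (P : Set G) ≤ normalizer (A : Set G) := by
  intro n hn
  refine cj_eq_iff.mp (eq_of_le_of_card_ge ?_ (card_cj n A).ge)
  rintro _ ⟨v, hv, rfl⟩
  exact (E.pow_eq_one_iff S10 hP hAP ((mem_normalizer_iff.mp hn v).mp (hAP hv))).mp
    (by simp [E.elem.2 v hv])

/-- Two lines of `A` which generate it and act without fixed points. -/
theorem exists_two_lines :
    ∃ X₁ X₂ : Subgroup G, X₁ ⊔ X₂ = A ∧ Nat.card X₁ = p ∧ Nat.card X₂ = p ∧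
      Cfsg.sigmaCore M ⊓ centralizer (X₁ : Set G) = ⊥ ∧
      Cfsg.sigmaCore M ⊓ centralizer (X₂ : Set G) = ⊥ := by
  obtain ⟨P, hP, hAP⟩ := exists_sylowOf_ge' (elemAb_isPGroup E.elem) E.le
  obtain ⟨g, hg, hgM, hAg, -⟩ := E.exists_not_mem hP hAP
  have hgA := E.normalizer_sylow_le_normalizer S10 hP hAP hg
  have hgiM : g⁻¹ ∉ M := fun h => hgM (inv_mem_iff.mp h)
  have hAgi : A ≤ cj g⁻¹ M := (cj_eq_iff.mpr (inv_mem hgA)).ge.trans (cj_mono _ E.le)
  have hle : ∀ h ∈ normalizer (A : Set G), cj h A₀ ≤ A := fun h hh =>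
    (cj_mono h E.le₀).trans (cj_eq_iff.mpr hh).le
  have hne : cj g A₀ ≠ cj g⁻¹ A₀ := fun e => by
    have h2 : cj (g * g) A₀ = A₀ := by rw [cj_mul, e, cj_cj_inv]
    have h3 : g * g ∈ M := E.norm (cj_eq_iff.mp h2)
    obtain ⟨k, hk⟩ := (S10.minSimple.1.of_dvd_nat (orderOf_dvd_natCard g) : Odd (orderOf g))
    refine hgM ?_
    have h4 : g * (g * g) ^ k = 1 := by
      rw [← sq, ← pow_mul, ← pow_succ', show 2 * k + 1 = orderOf g from hk.symm, pow_orderOf_eq_one]
    rw [mul_eq_one_iff_eq_inv] at h4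
    rw [h4]
    exact inv_mem (pow_mem h3 k)
  exact ⟨_, _, sup_eq_of_lines E.card (hle g hgA) (hle _ (inv_mem hgA)) (by rw [card_cj, E.card₀])
    (by rw [card_cj, E.card₀]) hne, by rw [card_cj, E.card₀], by rw [card_cj, E.card₀],
    E.inf_centralizer_cj S10 hgM hAg, E.inf_centralizer_cj S10 hgiM hAgi⟩

theorem inf_centralizer_eq_bot :
    Cfsg.sigmaCore M ⊓ centralizer (A : Set G) = ⊥ := by
  obtain ⟨X₁, X₂, hs, -, -, h1, -⟩ := E.exists_two_lines S10
  rw [eq_bot_iff, ← h1, ← hs]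
  exact inf_le_inf_left _ (centralizer_le (show X₁ ≤ X₁ ⊔ X₂ from le_sup_left))

/-- `[Y, A] ≤ C_{M'}(M_σ)` for `A`-invariant subgroups `Y` of order prime to `σ(M)` and `p`. -/
theorem commutator_le_centDerived {Y : Subgroup G} (hYM : Y ≤ M)
    (hAY : A ≤ normalizer (Y : Set G)) (hYs : ∀ q : ℕ, q.Prime → q ∣ Nat.card Y → q ∉ Cfsg.sigma M)
    (hYp : ¬ p ∣ Nat.card Y) : ⁅Y, A⁆ ≤ centDerived M := by
  have hG := S10.minSimple
  refine le_inf (commutator_mono hYM E.le) ?_
  obtain ⟨X₁, X₂, hs, hc₁, hc₂, h1, h2⟩ := E.exists_two_lines S10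
  have hcop : (Nat.card Y).Coprime (Nat.card (Cfsg.sigmaCore M)) :=
    Nat.coprime_of_dvd fun q hq hd hd' => hYs q hq hd (sigmaCore_isPiNumber M q hq hd')
  have hσn : M ≤ normalizer (centralizer (Cfsg.sigmaCore M : Set G) : Set G) := fun m hm =>
    cj_eq_iff.mp (by rw [cj_centralizer, cj_eq_iff.mpr (le_normalizer_sigmaCore M hm)])
  have key : ∀ X : Subgroup G, X ≤ A → Nat.card X = p →
      Cfsg.sigmaCore M ⊓ centralizer (X : Set G) = ⊥ →
      ⁅X, Y⁆ ≤ centralizer (Cfsg.sigmaCore M : Set G) := fun X hXA hXc hfix =>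
    commutator_le_centralizer_of_fpf' (E.sigmaCore_nilpotent S10) hXc
      ((hXA.trans E.le).trans (le_normalizer_sigmaCore M)) E.not_dvd_sigmaCore hfix
      (hYM.trans (le_normalizer_sigmaCore M)) (hXA.trans hAY) hcop hYp (odd_card hG Y)
  set C := centralizer (Cfsg.sigmaCore M : Set G)
  let T : Subgroup G :=
    { carrier := {a | a ∈ M ∧ ∀ y ∈ Y, ⁅a, y⁆ ∈ C}
      one_mem' := ⟨one_mem M, fun y _ => by rw [commutatorElement_one_left]; exact one_mem C⟩
      mul_mem' := fun {a b} ha hb => ⟨M.mul_mem ha.1 hb.1, fun y hy => by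
        rw [show ⁅a * b, y⁆ = a * ⁅b, y⁆ * a⁻¹ * ⁅a, y⁆ by simp only [commutatorElement_def]; group]
        exact C.mul_mem ((mem_normalizer_iff.mp (hσn ha.1) _).mp (hb.2 y hy)) (ha.2 y hy)⟩
      inv_mem' := fun {a} ha => ⟨M.inv_mem ha.1, fun y hy => by
        rw [show ⁅a⁻¹, y⁆ = a⁻¹ * ⁅a, y⁆⁻¹ * a⁻¹⁻¹ by simp only [commutatorElement_def]; group]
        exact (mem_normalizer_iff.mp (hσn (M.inv_mem ha.1)) _).mp (C.inv_mem (ha.2 y hy))⟩ }
  have hX₁ : X₁ ≤ A := hs ▸ le_sup_left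
  have hX₂ : X₂ ≤ A := hs ▸ le_sup_right
  have hAT : A ≤ T := hs ▸ sup_le
    (fun a ha => ⟨E.le (hX₁ ha), fun y hy =>
      key X₁ hX₁ hc₁ h1 (commutator_mem_commutator ha hy)⟩)
    (fun a ha => ⟨E.le (hX₂ ha), fun y hy =>
      key X₂ hX₂ hc₂ h2 (commutator_mem_commutator ha hy)⟩)
  rw [Subgroup.commutator_comm]
  exact commutator_le.mpr fun a ha y hy => (hAT ha).2 y hy

end Exc

end Cfsg.Agent.OddOrder.BG11
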