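import Cfsg.Agent.OddOrder.BG11.ExcBasic
import Cfsg.Agent.OddOrder.BG10.SigmaTrans
import Cfsg.Agent.Coprime.Abelian
import Cfsg.Agent.H42.FixedLift

/-!
BG 11, the main part: in the situation `Exc M A₀ A p` the group `A` centralises every `A`-invariant
subgroup of `M` of order prime to `σ(M)` and `p`, and `M_σ A` is normal in `M`.
-/

set_option autoImplicit false

universe u

namespace Cfsg.Agent.OddOrder.BG11

open Subgroup H40
open scoped commutatorElement

variable {G : Type u} [Group G] [Finite G] {p : ℕ} [hp : Fact p.Prime]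

/-- An elementary group of order `p ^ 2` acting nontrivially on a group of prime order `q`: a line
acts trivially and `p < q`. -/
theorem exists_kernel_line {q : ℕ} [hq : Fact q.Prime] {A W : Subgroup G}
    (hA : Cfsg.IsElementaryAbelian p A) (hA2 : Nat.card A = p ^ 2) (hW : Nat.card W = q)
    (hAW : A ≤ normalizer (W : Set G)) (hne : ¬ A ≤ centralizer (W : Set G)) :
    p < q ∧ ∃ A₁ : Subgroup G, A₁ ≤ A ∧ Nat.card A₁ = p ∧ A₁ ≤ centralizer (W : Set G) := by
  have : IsCyclic W := isCyclic_of_prime_card hW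
  let φ : A →* MulAut W := (normalizerMonoidHom W).comp (inclusion hAW)
  have hcyc : IsCyclic (MulAut W) := by
    have hu : IsCyclic (ZMod (Nat.card W))ˣ := by
      rw [hW]
      infer_instance
    exact isCyclic_of_surjective (IsCyclic.mulAutMulEquiv W).symm
      (IsCyclic.mulAutMulEquiv W).symm.surjective
  have hker : ∀ a : A, a ∈ φ.ker ↔ (a : G) ∈ centralizer (W : Set G) := fun a => by
    show inclusion hAW a ∈ (normalizerMonoidHom W).ker ↔ _
    rw [normalizerMonoidHom_ker, mem_subgroupOf]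
    rfl
  have hnt : φ.ker ≠ ⊤ := fun e => hne fun a ha => (hker ⟨a, ha⟩).mp (e ▸ mem_top _)
  have hnb : φ.ker ≠ ⊥ := fun e => by
    have hi : Function.Injective φ := (MonoidHom.ker_eq_bot_iff φ).mp e
    exact elemAb_not_cyclic hA hA2.ge (isCyclic_of_injective φ hi)
  refine ⟨?_, ?_⟩
  · obtain ⟨k, hk2, hk⟩ := (Nat.dvd_prime_pow hp.out).mp
      (show φ.ker.index ∣ p ^ 2 by rw [← hA2]; exact φ.ker.index_dvd_card)
    have hk0 : k ≠ 0 := fun e => hnt (index_eq_one.mp (by rw [hk, e, pow_zero]))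
    have hd : p ∣ Nat.totient q := by
      rw [← hW, ← IsCyclic.card_mulAut W]
      refine dvd_trans ?_ (card_subgroup_dvd_card φ.range)
      rw [← index_ker, hk]
      exact dvd_pow_self p hk0
    rw [Nat.totient_prime hq.out] at hd
    have := hq.out.two_le
    have h' := Nat.le_of_dvd (show 0 < q - 1 by omega) hd
    show p < q
    omega
  · refine ⟨φ.ker.map A.subtype, map_subtype_le _, ?_, ?_⟩
    · rw [card_map_of_injective A.subtype_injective]
      obtain ⟨k, hk2, hk⟩ := (Nat.dvd_prime_pow hp.out).mp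
        (show Nat.card φ.ker ∣ p ^ 2 by rw [← hA2]; exact card_subgroup_dvd_card _)
      have hk0 : k ≠ 0 := fun e => hnb (eq_bot_of_card_eq _ (by rw [hk, e, pow_zero]))
      have hk2' : k ≠ 2 := fun e => hnt (eq_top_of_card_eq _ (by rw [hk, e, hA2]))
      rw [hk, show k = 1 by omega, pow_one]
    · rintro _ ⟨a, ha, rfl⟩
      exact (hker a).mp ha

namespace Exc

variable {M A₀ A : Subgroup G} (E : Exc M A₀ A p) (S10 : Section10 G)
include E S10

/-- Invariant Sylow subgroups for primes larger than `p`. -/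
theorem exists_invariant_sylow_gt {q : ℕ} [hq : Fact q.Prime] (hqp : p < q) {S : Subgroup G}
    (hSM : S ≤ M) (hS : IsPGroup q S) (hAS : A ≤ normalizer (S : Set G)) :
    ∃ Q : Subgroup G, IsSylowOf q Q M ∧ S ≤ Q ∧ A ≤ normalizer (Q : Set G) := by
  have hG := S10.minSimple
  have : Group.IsSolvable M := S10.isSolvable_max E.coatom
  set K := H41.pCorePrime p M
  have hKM : K ≤ M := H41.pCorePrime_le M
  have hpK : ¬ p ∣ Nat.card K :=
    hp.out.coprime_iff_not_dvd.mp (H41.coprime_pCorePrime (p := p) M).symm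
  have hidx : ¬ q ∣ K.relIndex M := fun h => by
    have h1 : K.relIndex M = (Cfsg.pPrimeCore p ↥M).index := by
      rw [relIndex, subgroupOf]
      exact congrArg index (comap_map_eq_self_of_injective M.subtype_injective _)
    exact absurd ((BG4.rank_two_structure (odd_card hG M) E.dvd_card
      (S10.pRankLE_two E.coatom E.nsigma)).1 q hq.out (h1 ▸ h)) (not_le.mpr hqp)
  have hle : ∀ X : Subgroup G, X ≤ M → IsPGroup q X → X ≤ K := by
    intro X hXM hX
    have hn : (K.subgroupOf M).Normal :=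
      normal_subgroupOf_of_le_normalizer (H41.le_normalizer_pCorePrime M)
    have h1 : K.relIndex X ∣ K.relIndex M := by
      rw [← relIndex_subgroupOf hXM]
      exact relIndex_dvd_index_of_normal _ _
    refine relIndex_eq_one.mp (Nat.eq_one_iff_not_exists_prime_dvd.mpr fun r hr hd => ?_)
    obtain ⟨k, hk⟩ := IsPGroup.iff_card.mp hX
    have h2 : r ∣ q ^ k := hk ▸ hd.trans (relIndex_dvd_card _ _)
    exact hidx (Nat.prime_eq_prime_of_dvd_pow hr hq.out h2 ▸ hd.trans h1)
  obtain ⟨Q₀, hQ₀⟩ := exists_sylowOf q M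
  have hQ₀K : IsSylowOf q Q₀ K := isSylowOf_mono hQ₀ (hle Q₀ hQ₀.1 hQ₀.2.1) hKM
  have hsolA : Group.IsSolvable A := by
    have := (elemAb_isPGroup E.elem).isNilpotent
    infer_instance
  obtain ⟨P, hSP, hAP⟩ := Coprime.exists_invariant_sylow_ge
    (E.le.trans (H41.le_normalizer_pCorePrime M))
    (coprime_card_of_isPGroup (elemAb_isPGroup E.elem) hpK) (Or.inl hsolA) q (hle S hSM hS) hS hAS
  refine ⟨_, ⟨(map_subtype_le _).trans hKM, P.isPGroup'.map _, ?_⟩, hSP, hAP⟩
  rw [(isSylowOf_map P).2.2, ← hQ₀K.2.2, hQ₀.2.2]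

/-- A line of `C_{M'}(M_σ)` outside `σ(M) ∪ {p}` is centralised by `A`. -/
theorem le_centralizer_line {q : ℕ} [hq : Fact q.Prime] (hqs : q ∉ Cfsg.sigma M) (hqp : q ≠ p)
    {W : Subgroup G} (hW : W ≤ centDerived M) (hWc : Nat.card W = q) :
    A ≤ centralizer (W : Set G) := by
  by_contra hne
  have hG := S10.minSimple
  have hM := E.coatom
  have hAe := E.elem
  have hmax := E.max S10
  have hWM : W ≤ M := hW.trans (centDerived_le M)
  have hWq : IsPGroup q W := IsPGroup.of_card (n := 1) (by rw [hWc, pow_one])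
  have hW0 : W ≠ ⊥ := ne_bot_of_card (hWc ▸ hq.out.one_lt)
  have hMW := S10.le_normalizer_of_le_centDerived hM hqs hW hWq
  have hNW : normalizer (W : Set G) = M := normalizer_eq_coatom hG hM hWM hW0 hMW
  have hAW : A ≤ normalizer (W : Set G) := E.le.trans hMW
  obtain ⟨hpq, A₁, hA₁A, hA₁c, hA₁W⟩ := exists_kernel_line hAe E.card hWc hAW hne
  have hWA : ⁅W, A⁆ = W := by
    refine eq_of_le_of_card_ge (Coprime.commutator_le_left_of_normalizer hAW) ?_
    rcases (Nat.dvd_prime hq.out).mp (hWc ▸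
      card_dvd_of_le (Coprime.commutator_le_left_of_normalizer hAW)) with h | h
    · exfalso
      refine hne ?_
      have h1 := eq_bot_of_card_eq _ h
      rw [Subgroup.commutator_comm] at h1
      exact commutator_eq_bot_iff_le_centralizer.mp h1
    · rw [hWc, h]
  have hqM : q ∣ Nat.card M := hWc ▸ card_dvd_of_le hWM
  have hq2 : q ≠ 2 := ne_two_of_mem_card hG hqM
  obtain ⟨Q, hQ, hWQ, hAQ⟩ := E.exists_invariant_sylow_gt S10 hpq hWM hWq hAW
  have hQn : Q ≤ normalizer (W : Set G) := hQ.1.trans hMW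
  -- `W` is central in `Q`
  have hQW : Q ≤ centralizer (W : Set G) := by
    have h1 := Coprime.commutator_lt_of_isPGroup hWq hQ.2.1 hQn hW0
    have h2 : ⁅W, Q⁆ = ⊥ := by
      rcases (Nat.dvd_prime hq.out).mp (hWc ▸ card_dvd_of_le h1.le) with h | h
      · exact eq_bot_of_card_eq _ h
      · exact absurd (eq_of_le_of_card_ge h1.le (by rw [hWc, h])) h1.ne
    rw [Subgroup.commutator_comm] at h2
    exact commutator_eq_bot_iff_le_centralizer.mp h2
  have hQnc : ¬ IsCyclic Q := fun hc => not_normalizer_le hqs hqM hQ (hNW ▸ fun n hn =>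
    cj_eq_iff.mp (H41.eq_of_card_eq_of_le_cyclic hc
      ((cj_mono n hWQ).trans (cj_eq_iff.mpr hn).le) hWQ (card_cj n W)))
  obtain ⟨v, hvQ, hvq, hvW⟩ : ∃ v ∈ Q, v ^ q = 1 ∧ v ∉ W := by
    by_contra h
    push Not at h
    refine hQnc (H61.isCyclic_of_card_pow_eq_one_le hq2 hQ.2.1 ?_)
    refine le_of_le_of_eq (Nat.card_le_card_of_injective
      (fun y => (⟨(y.1 : G), h _ y.1.2 (congrArg Subtype.val y.2)⟩ : W)) ?_) hWc
    exact fun a b hab => Subtype.ext (Subtype.ext (congrArg (fun t : W => (t : G)) hab))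
  set V := W ⊔ zpowers v
  have hVQ : V ≤ Q := sup_le hWQ (zpowers_le.mpr hvQ)
  have hWe : Cfsg.IsElementaryAbelian q W :=
    ⟨by have := isCyclic_of_prime_card hWc; let _ := IsCyclic.commGroup (α := W)
        exact ⟨⟨mul_comm⟩⟩,
      fun w hw => orderOf_dvd_iff_pow_eq_one.mp (hWc ▸ W.orderOf_dvd_natCard hw)⟩
  have hVe : Cfsg.IsElementaryAbelian q V :=
    BG5.elementary_sup hWe (BG5.elementary_zpowers hvq) (zpowers_le.mpr (hQW hvQ))
  have hV2 : Nat.card V = q ^ 2 := by
    have hle := card_le_of_pRankLE (S10.pRankLE_two hM hqs) (hVQ.trans hQ.1) hVe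
    obtain ⟨k, hk⟩ := IsPGroup.iff_card.mp (elemAb_isPGroup hVe)
    rw [hk] at hle ⊢
    refine le_antisymm hle (Nat.pow_le_pow_right hq.out.pos ?_)
    by_contra hk2
    have h1 : Nat.card V ≤ q :=
      hk ▸ (Nat.pow_le_pow_right hq.out.pos (show k ≤ 1 by omega)).trans (pow_one q).le
    exact hvW ((eq_of_le_of_card_ge (le_sup_left : W ≤ V) (hWc ▸ h1)).ge
      (mem_sup_right (mem_zpowers v)))
  have EQ : Exc M W V q := ⟨hM, hqs, hVQ.trans hQ.1, hVe, hV2, le_sup_left, hWc, hNW.le⟩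
  have hQab := EQ.commute_sylow S10 hQ hVQ
  have hΩ : ∀ x ∈ Q, x ^ q = 1 ↔ x ∈ V := fun x hx => EQ.pow_eq_one_iff S10 hQ hVQ hx
  have hVinv : ∀ n : G, n ∈ normalizer (Q : Set G) → cj n V = V := fun n hn => by
    refine eq_of_le_of_card_ge ?_ (card_cj n V).ge
    rintro _ ⟨x, hx, rfl⟩
    exact (hΩ _ ((mem_normalizer_iff.mp hn x).mp (hVQ hx))).mp
      (show ((MulAut.conj n) x) ^ q = 1 by rw [← map_pow, hVe.2 x hx, map_one])
  have hAV : A ≤ normalizer (V : Set G) := fun a ha => cj_eq_iff.mp (hVinv a (hAQ ha))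
  have hpQ : ¬ p ∣ Nat.card Q := fun h => by
    obtain ⟨k, hk⟩ := IsPGroup.iff_card.mp hQ.2.1
    rw [hk] at h
    exact hqp (Nat.prime_eq_prime_of_dvd_pow hp.out hq.out h).symm
  have hQs : ∀ r : ℕ, r.Prime → r ∣ Nat.card Q → r ∉ Cfsg.sigma M := fun r hr hd => by
    obtain ⟨k, hk⟩ := IsPGroup.iff_card.mp hQ.2.1
    rw [hk] at hd
    exact (Nat.prime_eq_prime_of_dvd_pow hr hq.out hd) ▸ hqs
  have hQA := E.commutator_le_centDerived S10 hQ.1 hAQ hQs hpQ
  have hcopV : (Nat.card A).Coprime (Nat.card V) :=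
    coprime_card_of_isPGroup (elemAb_isPGroup hAe) fun h => hpQ (h.trans (card_dvd_of_le hVQ))
  have hVA : ⁅V, A⁆ = W := by
    have hle : ⁅V, A⁆ ≤ V := Coprime.commutator_le_left_of_normalizer hAV
    have hWle : W ≤ ⁅V, A⁆ := hWA.ge.trans (commutator_mono le_sup_left le_rfl)
    refine (eq_of_le_of_card_ge hWle ?_).symm
    have hneV : ⁅V, A⁆ ≠ V := fun e => by
      refine S10.not_le_centralizer_sigmaCore hM hqs (hVQ.trans hQ.1) hVe hV2 ?_
      exact e.ge.trans (((commutator_mono hVQ le_rfl).trans hQA).trans inf_le_right)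
    obtain ⟨k, hk2, hk⟩ := (Nat.dvd_prime_pow hq.out).mp (hV2 ▸ card_dvd_of_le hle)
    have hk' : k ≠ 2 := fun e => hneV (eq_of_le_of_card_ge hle (by rw [hk, e, hV2]))
    rw [hk, hWc]
    exact (Nat.pow_le_pow_right hq.out.pos (show k ≤ 1 by omega)).trans (pow_one q).le
  set L := V ⊓ centralizer (A : Set G) with hL
  obtain ⟨-, hVL⟩ : _ ∧ L ⊔ ⁅V, A⁆ = V :=
    have := hVe.1; Coprime.abelian_decomposition hAV hcopV
  rw [hVA] at hVL
  have hqC : q ∣ Nat.card (centralizer (A : Set G)) := by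
    have hLne : L ≠ ⊥ := fun e => by
      rw [e, bot_sup_eq] at hVL
      have h2 := congrArg (fun X : Subgroup G => Nat.card X) hVL
      simp only [hWc, hV2] at h2
      exact absurd ((Nat.pow_right_injective hq.out.two_le) (by simpa using h2) : 1 = 2) (by omega)
    obtain ⟨k, hk⟩ := IsPGroup.iff_card.mp ((elemAb_isPGroup hVe).to_le (inf_le_left : L ≤ V))
    rcases k with _ | k
    · exact absurd (eq_bot_of_card_eq _ (by rwa [pow_zero] at hk)) hLne
    · exact (hk ▸ dvd_pow_self q k.succ_ne_zero).trans (card_dvd_of_le inf_le_right)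
  have hA₁V : A₁ ≤ centralizer (V : Set G) := by
    rw [le_centralizer_iff, ← hVL, sup_le_iff]
    exact ⟨inf_le_right.trans (centralizer_le hA₁A), le_centralizer_iff.mp hA₁W⟩
  have hA₁Q : A₁ ≤ centralizer (Q : Set G) := by
    have : IsMulCommutative Q := ⟨⟨fun a b => Subtype.ext (hQab a a.2 b b.2)⟩⟩
    refine Coprime.le_centralizer_of_prime_order (hA₁A.trans hAQ)
      (coprime_card_of_isPGroup ((elemAb_isPGroup hAe).to_le hA₁A) hpQ) fun x hx hxo a ha => ?_
    have hxq : orderOf x = q := by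
      obtain ⟨k, hk⟩ := IsPGroup.iff_orderOf.mp hQ.2.1 ⟨x, hx⟩
      rw [Subgroup.orderOf_mk] at hk
      rw [hk] at hxo ⊢
      rcases k with _ | _ | k
      · exact absurd hxo (by simp [Nat.not_prime_one])
      · exact pow_one q
      · exact absurd hxo (Nat.Prime.not_prime_pow (by omega))
    exact (mem_centralizer_iff.mp (hA₁V ha) x
      ((hΩ x hx).mp (hxq ▸ pow_orderOf_eq_one x))).symm
  obtain ⟨R, hR, hQR⟩ := H41.exists_maxInvSubgroups_ge (X := ⊤) (A := A) (π := {q}) (Q := Q)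
    ⟨le_top, fun r hr hd => by
      obtain ⟨k, hk⟩ := IsPGroup.iff_card.mp hQ.2.1
      rw [hk] at hd
      exact Nat.prime_eq_prime_of_dvd_pow hr hq.out hd, hAQ⟩
  have hRq : IsPGroup q R := H41.isPGroup_of_invSubgroups hq.out hR.1
  obtain ⟨P, hP, hAP⟩ := exists_sylowOf_ge' (elemAb_isPGroup hAe) E.le
  obtain ⟨g, hg, hgM, -, -⟩ := E.exists_not_mem hP hAP
  rcases eq_or_lt_of_le hQR with rfl | hlt
  · -- `Q` is maximal invariant
    have hgA := E.normalizer_sylow_le_normalizer S10 hP hAP hg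
    have hR' : cj g Q ∈ Cfsg.maxInvSubgroups ⊤ A {q} := H41.maxInvSubgroups_map_conj hgA hR
    obtain ⟨k, hk, e⟩ := S10.exists_centralizer_conj' hAe E.card hmax hqp hR hR' hqC
    have hn1 : cj (k⁻¹ * g) Q = Q := by rw [cj_mul, ← e, cj_inv_cj]
    have hnA : cj (k⁻¹ * g) A = A := cj_eq_iff.mpr
      (mul_mem (inv_mem (centralizer_le_normalizer _ hk)) hgA)
    have hnW : cj (k⁻¹ * g) W = W := by
      rw [← hVA, show cj (k⁻¹ * g) ⁅V, A⁆ = ⁅cj (k⁻¹ * g) V, cj (k⁻¹ * g) A⁆ from
        map_commutator V A _, hVinv _ (cj_eq_iff.mp hn1), hnA]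
    refine hgM ?_
    have h := M.mul_mem (E.centralizer_A_le hk) (hNW.le (cj_eq_iff.mp hnW))
    simpa using h
  · set R' := R ⊓ normalizer (Q : Set G)
    obtain ⟨x, hxR, hxQ, hxN⟩ := H41.exists_mem_notMem_normalizer' hRq hlt
    have hQR' : Q ≤ R' := le_inf hQR le_normalizer
    have hR'q : IsPGroup q R' := hRq.to_le inf_le_left
    have hR'M : R' ⊓ M = Q :=
      (hQ.eq_of_le (hR'q.to_le inf_le_left) (le_inf hQR' hQ.1) inf_le_right).symm
    have hAR : A ≤ normalizer (R : Set G) := hR.1.2.2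
    have hAR' : A ≤ normalizer (R' : Set G) := fun a ha => cj_eq_iff.mp (by
      rw [cj_inf, cj_eq_iff.mpr (hAR ha), cj_normalizer, cj_eq_iff.mpr (hAQ ha)])
    have hCV : R' ⊓ centralizer (V : Set G) ≤ Q := by
      rintro r ⟨hr, hrc⟩
      refine hR'M.le ⟨hr, hNW ▸ centralizer_le_normalizer _ ?_⟩
      exact centralizer_le (show W ≤ V from le_sup_left) hrc
    have hR'A₁ : ⁅R', A₁⁆ ≤ Q := by
      refine le_trans (le_inf (Coprime.commutator_le_left_of_normalizer (hA₁A.trans hAR')) ?_) hCV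
      refine commutator_le.mpr fun r hr a ha => ?_
      have hrV : r ∈ normalizer (centralizer (V : Set G) : Set G) := cj_eq_iff.mp (by
        rw [cj_centralizer, hVinv r (show r ∈ normalizer (Q : Set G) from hr.2)])
      exact mul_mem ((mem_normalizer_iff.mp hrV a).mp (hA₁V ha)) (inv_mem (hA₁V ha))
    have hpR' : ¬ p ∣ Nat.card R' := fun h => by
      obtain ⟨k, hk⟩ := IsPGroup.iff_card.mp hR'q
      rw [hk] at h
      exact hqp (Nat.prime_eq_prime_of_dvd_pow hp.out hq.out h).symm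
    have hA₁R' : A₁ ≤ centralizer (R' : Set G) :=
      Coprime.le_centralizer_of_commutator_le (hA₁A.trans hAR')
        (coprime_card_of_isPGroup ((elemAb_isPGroup hAe).to_le hA₁A) hpR') hR'A₁ hA₁Q
    have hA₁0 : A₁ ≠ ⊥ := ne_bot_of_card (hA₁c ▸ hp.out.one_lt)
    obtain ⟨M₂, hM₂, hNA₁⟩ := exists_coatom_ge (normalizer_ne_top' hG hA₁0
      (ne_top_of_le_coatom hM (hA₁A.trans E.le)))
    have hAM₂ : A ≤ M₂ := le_trans (fun a ha => centralizer_le_normalizer _
      (mem_centralizer_iff.mpr fun b hb => elemAb_commute hAe (hA₁A hb) ha)) hNA₁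
    have hR'M₂ : R' ≤ M₂ :=
      ((le_centralizer_iff.mp hA₁R').trans (centralizer_le_normalizer _)).trans hNA₁
    have hne₂ : M₂ ≠ M := fun e => hxQ (hR'M.le ⟨⟨hxR, hxN⟩, e ▸ hR'M₂ ⟨hxR, hxN⟩⟩)
    have hWR' : W ≤ R' := hWQ.trans hQR'
    by_cases hp₂ : p ∈ Cfsg.sigma M₂
    · refine hne (S10.le_centralizer_of_not_beta hM₂ hqp.symm (elemAb_isPGroup hAe) hWq ?_ ?_ hAW ?_)
      · exact (S10.le_sigmaCore_of_isPGroup hM₂ hp₂ hAM₂ (elemAb_isPGroup hAe)).trans
          (S10.sigmaCore_le_derived M₂ hM₂)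
      · exact hWA.ge.trans (commutator_mono (hWR'.trans hR'M₂) hAM₂)
      · exact fun hb => (S10.p2_maximal M hM q hqs (S10.pRankLE_two hM hqs)
          (not_pRankLE_one hVe hV2 (hVQ.trans hQ.1))).1 hb.2
    · have E₂ : Exc M₂ A₁ A p := ⟨hM₂, hp₂, hAM₂, hAe, E.card, hA₁A, hA₁c, hNA₁⟩
      by_cases hq₂ : q ∈ Cfsg.sigma M₂
      · obtain ⟨T, hT, -, hAT⟩ := S10.exists_invariant_sylow_ge hM₂ (elemAb_isPGroup hAe) hAM₂
          E₂.dvd_card (S10.not_mem_beta hAe E.card hmax M₂) hq₂ hqp (S := ⊥) bot_le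
          IsPGroup.of_bot (fun a _ => cj_eq_iff.mp (Subgroup.map_bot _))
        have hNT := S10.normalizer_sylow_of_nilpotent hM₂ hq₂ (E₂.sigmaCore_nilpotent S10) hT
        obtain ⟨P₂, hP₂, hAP₂⟩ := exists_sylowOf_ge' (elemAb_isPGroup hAe) hAM₂
        obtain ⟨g₂, hg₂, hg₂M, -, -⟩ := E₂.exists_not_mem hP₂ hAP₂
        have hg₂A := E₂.normalizer_sylow_le_normalizer S10 hP₂ hAP₂ hg₂
        have hTm := mem_maxInv_of_sylow (Section10.sylow_top hq₂ hT) hAT
        obtain ⟨k, hk, e⟩ := S10.exists_centralizer_conj' hAe E.card hmax hqp hTm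
          (H41.maxInvSubgroups_map_conj hg₂A hTm) hqC
        have hkM₂ : k ∈ M₂ := E₂.centralizer_A_le hk
        have h1 : cj k T = T := cj_eq_iff.mpr (hNT.ge hkM₂)
        exact hg₂M (hNT ▸ cj_eq_iff.mp (e.symm.trans h1))
      · have hR's : ∀ r : ℕ, r.Prime → r ∣ Nat.card R' → r ∉ Cfsg.sigma M₂ := fun r hr hd => by
          obtain ⟨k, hk⟩ := IsPGroup.iff_card.mp hR'q
          rw [hk] at hd
          exact (Nat.prime_eq_prime_of_dvd_pow hr hq.out hd) ▸ hq₂
        have hW₂ : W ≤ centDerived M₂ := hWA.ge.trans ((commutator_mono hWR' le_rfl).trans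
          (E₂.commutator_le_centDerived S10 hR'M₂ hAR' hR's hpR'))
        have h := S10.le_normalizer_of_le_centDerived hM₂ hq₂ hW₂ hWq
        rw [hNW] at h
        exact hne₂ ((hM₂.le_iff.mp h).resolve_left hM.1).symm

/-- `A` centralises each `A`-invariant subgroup of `M` of order prime to `σ(M)` and `p`. -/
theorem le_centralizer_of_invariant {Y : Subgroup G} (hYM : Y ≤ M)
    (hAY : A ≤ normalizer (Y : Set G)) (hYs : ∀ q : ℕ, q.Prime → q ∣ Nat.card Y → q ∉ Cfsg.sigma M)
    (hYp : ¬ p ∣ Nat.card Y) : A ≤ centralizer (Y : Set G) := by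
  have hG := S10.minSimple
  have hM := E.coatom
  set D := ⁅Y, A⁆
  have hsolA : Group.IsSolvable A := by
    have := (elemAb_isPGroup E.elem).isNilpotent
    infer_instance
  have hcop := coprime_card_of_isPGroup (elemAb_isPGroup E.elem) hYp
  have hDY : D ≤ Y := Coprime.commutator_le_left_of_normalizer hAY
  have hDC : D ≤ centDerived M := E.commutator_le_centDerived S10 hYM hAY hYs hYp
  have hAD : A ≤ normalizer (D : Set G) := normalizer_commutator_ge_right Y A
  have hDA : ⁅D, A⁆ = D := Coprime.commutator_commutator_eq hAY hcop (Or.inl hsolA)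
  suffices h : A ≤ centralizer (D : Set G) by
    rw [← commutator_eq_bot_iff_le_centralizer, Subgroup.commutator_comm]
    show D = ⊥
    rw [← hDA, Subgroup.commutator_comm, commutator_eq_bot_iff_le_centralizer]
    exact h
  rw [le_centralizer_iff]
  refine Coprime.le_of_exists_sylow_le fun q hq => ?_
  have : Fact q.Prime := ⟨hq⟩
  obtain ⟨T⟩ : Nonempty (Sylow q D) := inferInstance
  refine ⟨T, ?_⟩
  set R := (T : Subgroup D).map D.subtype
  rcases eq_or_ne R ⊥ with h0 | h0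
  · rw [h0]; exact bot_le
  have hRD : R ≤ D := map_subtype_le _
  have hRq : IsPGroup q R := T.isPGroup'.map _
  have hqR : q ∣ Nat.card R := by
    obtain ⟨k, hk⟩ := IsPGroup.iff_card.mp hRq
    rcases k with _ | k
    · exact absurd (eq_bot_of_card_eq _ (by rwa [pow_zero] at hk)) h0
    · exact hk ▸ dvd_pow_self q k.succ_ne_zero
  have hqY : q ∣ Nat.card Y := hqR.trans (card_dvd_of_le (hRD.trans hDY))
  have hqs := hYs q hq hqY
  have hqp : q ≠ p := fun e => hYp (e ▸ hqY)
  have hAR : A ≤ normalizer (R : Set G) :=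
    E.le.trans (S10.le_normalizer_of_le_centDerived hM hqs (hRD.trans hDC) hRq)
  rw [← le_centralizer_iff]
  refine H42.centralizes_of_omega_fixed_le (ne_two_of_mem_card hG hqR) (E := ⊥) IsPGroup.of_bot ?_
    (fun x hx => by rw [mem_bot.mp hx]; exact one_mem _) R hRq
    (fun x hx => by rw [mem_bot.mp hx]; exact one_mem _) hAR fun x hx hxo => ?_
  · rw [E.card]
    exact Nat.Coprime.pow_left 2 ((Nat.coprime_primes hp.out hq).mpr hqp.symm)
  · have hW : zpowers x ≤ centDerived M := zpowers_le.mpr (hDC (hRD hx.1))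
    exact le_centralizer_iff.mp
      (E.le_centralizer_line S10 hqs hqp hW (by rw [Nat.card_zpowers, hxo])) (mem_zpowers x)

/-- `M_σ A` is normal in `M`. -/
theorem le_normalizer_sup : M ≤ normalizer ((Cfsg.sigmaCore M ⊔ A : Subgroup G) : Set G) := by
  have hG := S10.minSimple
  have : Group.IsSolvable M := S10.isSolvable_max E.coatom
  obtain ⟨P, hP, hAP⟩ := exists_sylowOf_ge' (elemAb_isPGroup E.elem) E.le
  refine (BG10.le_sup_normalizer_of_rank_two hG E.coatom.1 (S10.pRankLE_two E.coatom E.nsigma)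
    E.dvd_card hP).trans (sup_le ?_ ?_)
  · set K := H41.pCorePrime p M
    have hKM : K ≤ M := H41.pCorePrime_le M
    have hAK : A ≤ normalizer (K : Set G) := E.le.trans (H41.le_normalizer_pCorePrime M)
    have hpK : ¬ p ∣ Nat.card K :=
      hp.out.coprime_iff_not_dvd.mp (H41.coprime_pCorePrime (p := p) M).symm
    obtain ⟨Y, hY, hAY⟩ := Coprime.exists_invariant_hall hAK
      (coprime_card_of_isPGroup (elemAb_isPGroup E.elem) hpK)
      (isSolvable_of_le_max hG E.coatom hKM) {q | q.Prime ∧ q ∉ Cfsg.sigma M}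
    have hAYc := E.le_centralizer_of_invariant S10 (hY.1.trans hKM) hAY
      (fun q hq hd => (hY.2.1 q hq hd).2) fun h => hpK (h.trans (card_dvd_of_le hY.1))
    have hYn : Y ≤ normalizer ((Cfsg.sigmaCore M ⊔ A : Subgroup G) : Set G) := fun y hy =>
      cj_eq_iff.mp (by
        rw [show cj y (Cfsg.sigmaCore M ⊔ A) = cj y (Cfsg.sigmaCore M) ⊔ cj y A from map_sup _ _ _,
          cj_eq_iff.mpr (le_normalizer_sigmaCore M (hKM (hY.1 hy))),
          cj_eq_iff.mpr (centralizer_le_normalizer _ (le_centralizer_iff.mp hAYc hy))])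
    refine le_trans ?_ (sup_le (le_sup_left.trans le_normalizer) hYn)
    refine Coprime.le_of_exists_sylow_le fun r hr => ?_
    have : Fact r.Prime := ⟨hr⟩
    by_cases hrs : r ∈ Cfsg.sigma M
    · obtain ⟨T⟩ : Nonempty (Sylow r K) := inferInstance
      exact ⟨T, (S10.le_sigmaCore_of_isPGroup E.coatom hrs ((map_subtype_le _).trans hKM)
        (T.isPGroup'.map _)).trans le_sup_left⟩
    · obtain ⟨R, hR⟩ := exists_sylowOf r Y
      have hRK : IsSylowOf r R K := by
        refine ⟨hR.1.trans hY.1, hR.2.1, ?_⟩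
        rw [hR.2.2]
        have h := relIndex_mul_relIndex ⊥ Y K bot_le hY.1
        rw [relIndex_bot_left, relIndex_bot_left] at h
        have hpos : Y.relIndex K ≠ 0 := fun e => by
          rw [e, mul_zero] at h
          exact Nat.card_pos.ne' h.symm
        rw [← h, Nat.factorization_mul Nat.card_pos.ne' hpos, Finsupp.add_apply,
          Nat.factorization_eq_zero_of_not_dvd (hY.2.2 r hr ⟨hr, hrs⟩), add_zero]
      obtain ⟨T, hT⟩ := exists_sylow_eq hRK
      exact ⟨T, hT.le.trans (hR.1.trans le_sup_right)⟩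
  · exact fun x hx => cj_eq_iff.mp (by
      rw [show cj x (Cfsg.sigmaCore M ⊔ A) = cj x (Cfsg.sigmaCore M) ⊔ cj x A from map_sup _ _ _,
        cj_eq_iff.mpr (le_normalizer_sigmaCore M hx.1),
        cj_eq_iff.mpr (E.normalizer_sylow_le_normalizer S10 hP hAP hx.2)])

end Exc

end Cfsg.Agent.OddOrder.BG11
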