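import Cfsg.Agent.H40.Factor
import Cfsg.Agent.H40.Conj
import Cfsg.Agent.H41.UMaximal
import Cfsg.Agent.H41.Transitivity

/-!
Basic facts about the maximal subgroups of a minimal simple group of odd order: conjugation, the
prime sets attached to a maximal subgroup, Sylow subgroups of subgroups.
-/

set_option autoImplicit false

namespace Cfsg.Agent.OddOrder.BG11

open Subgroup H40

variable {G : Type*} [Group G]

theorem coatom_cj {M : Subgroup G} (hM : IsCoatom M) (g : G) : IsCoatom (cj g M) :=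
  (OrderIso.isCoatom_iff (MulAut.conj g).mapSubgroup M).mpr hM

theorem cj_inv_cj (g : G) (X : Subgroup G) : cj g⁻¹ (cj g X) = X := by
  rw [← cj_mul, inv_mul_cancel, cj_one]

theorem cj_cj_inv (g : G) (X : Subgroup G) : cj g (cj g⁻¹ X) = X := by
  rw [← cj_mul, mul_inv_cancel, cj_one]

theorem cj_mono (g : G) {X Y : Subgroup G} (h : X ≤ Y) : cj g X ≤ cj g Y := map_mono h

theorem le_cj_iff {g : G} {X Y : Subgroup G} : X ≤ cj g Y ↔ cj g⁻¹ X ≤ Y := by
  constructor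
  · intro h
    exact (cj_mono g⁻¹ h).trans (cj_inv_cj g Y).le
  · intro h
    exact (cj_cj_inv g X).ge.trans (cj_mono g h)

theorem cj_inf (g : G) (X Y : Subgroup G) : cj g (X ⊓ Y) = cj g X ⊓ cj g Y :=
  Subgroup.map_inf _ _ _ (MulAut.conj g).injective

theorem cj_centralizer (g : G) (X : Subgroup G) :
    cj g (centralizer (X : Set G)) = centralizer (cj g X : Set G) := by
  refine le_antisymm ?_ ?_
  · rintro _ ⟨c, hc, rfl⟩ _ ⟨x, hx, rfl⟩
    rw [← map_mul, ← map_mul, hc x hx]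
  · intro c hc
    refine mem_cj.mpr (mem_centralizer_iff.mpr fun x hx => ?_)
    have h := mem_centralizer_iff.mp hc (g * x * g⁻¹) (conj_mem_cj g hx)
    calc x * (g⁻¹ * c * g) = g⁻¹ * (g * x * g⁻¹ * c) * g := by group
      _ = g⁻¹ * (c * (g * x * g⁻¹)) * g := by rw [h]
      _ = g⁻¹ * c * g * x := by group

theorem cj_normalizer (g : G) (X : Subgroup G) :
    cj g (normalizer (X : Set G)) = normalizer (cj g X : Set G) :=
  map_equiv_normalizer_eq X (MulAut.conj g)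

theorem elemAb_cj {p : ℕ} {A : Subgroup G} (hA : Cfsg.IsElementaryAbelian p A) (g : G) :
    Cfsg.IsElementaryAbelian p (cj g A) := by
  refine ⟨⟨⟨fun u v => Subtype.ext ?_⟩⟩, ?_⟩
  · obtain ⟨a, ha, e1⟩ := u.2
    obtain ⟨b, hb, e2⟩ := v.2
    show (u : G) * v = v * u
    rw [← e1, ← e2, ← map_mul, ← map_mul, elemAb_commute hA ha hb]
  · rintro _ ⟨a, ha, rfl⟩
    rw [← map_pow, hA.2 a ha, map_one]

theorem elemAb_zpowers {p : ℕ} {x : G} (hx : x ^ p = 1) :
    Cfsg.IsElementaryAbelian p (zpowers x) := by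
  refine ⟨inferInstance, fun a ha => ?_⟩
  obtain ⟨n, rfl⟩ := mem_zpowers_iff.mp ha
  rw [← zpow_natCast, ← zpow_mul, mul_comm, zpow_mul, zpow_natCast, hx, one_zpow]

theorem pRankLE_of_le {p k : ℕ} {H K : Subgroup G} (h : H ≤ K) (hr : Cfsg.PRankLE p k K) :
    Cfsg.PRankLE p k H := by
  intro A hA hexp
  haveI := hA
  have := hr (A.map (inclusion h)) inferInstance (by
    rintro _ ⟨a, ha, rfl⟩
    rw [← map_pow, hexp a ha, map_one])
  rwa [card_map_of_injective (inclusion_injective h)] at this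

theorem pRankLE_congr {X Y : Type*} [Group X] [Group Y] {p k : ℕ} (e : X ≃* Y)
    (hr : Cfsg.PRankLE p k X) : Cfsg.PRankLE p k Y := by
  intro A hA hexp
  haveI := hA
  have := hr (A.map e.symm.toMonoidHom) inferInstance (by
    rintro _ ⟨a, ha, rfl⟩
    rw [← map_pow, hexp a ha, map_one])
  rwa [card_map_of_injective e.symm.injective] at this

theorem card_le_of_pRankLE {p k : ℕ} {H A : Subgroup G} (hr : Cfsg.PRankLE p k H) (hAH : A ≤ H)
    (hA : Cfsg.IsElementaryAbelian p A) : Nat.card A ≤ p ^ k := by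
  haveI := hA.1
  exact le_of_eq_of_le (card_top (G := A)).symm
    (pRankLE_of_le hAH hr ⊤ inferInstance fun a _ => Subtype.ext (hA.2 a a.2))

variable [Finite G]

theorem ne_two_of_mem_card (hG : Cfsg.IsMinSimpleOddOrder G) {p : ℕ} {H : Subgroup G}
    (h : p ∣ Nat.card H) : p ≠ 2 :=
  H41.pne2_of_card_dvd hG.1 (h.trans (card_subgroup_dvd_card H))

theorem odd_card (hG : Cfsg.IsMinSimpleOddOrder G) (H : Subgroup G) : Odd (Nat.card H) :=
  hG.1.of_dvd_nat (card_subgroup_dvd_card H)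

theorem exists_coatom_ge {X : Subgroup G} (hX : X ≠ ⊤) : ∃ M, IsCoatom M ∧ X ≤ M :=
  (eq_top_or_exists_le_coatom X).resolve_left hX

theorem normalizer_ne_top' (hG : Cfsg.IsMinSimpleOddOrder G) {X : Subgroup G} (h0 : X ≠ ⊥)
    (h1 : X ≠ ⊤) : normalizer (X : Set G) ≠ ⊤ :=
  H41.normalizer_ne_top hG.2 h0 h1

theorem ne_top_of_le_coatom {M X : Subgroup G} (hM : IsCoatom M) (h : X ≤ M) : X ≠ ⊤ :=
  fun e => hM.1 (top_le_iff.mp (e ▸ h))

theorem centralizer_ne_top (hG : Cfsg.IsMinSimpleOddOrder G) {X : Subgroup G} (h0 : X ≠ ⊥)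
    (h1 : X ≠ ⊤) : centralizer (X : Set G) ≠ ⊤ := fun h =>
  normalizer_ne_top' hG h0 h1
    (top_le_iff.mp (h ▸ H41.centralizer_le_normalizer X))

theorem coatom_ne_bot (hG : Cfsg.IsMinSimpleOddOrder G) {M : Subgroup G} (hM : IsCoatom M) :
    M ≠ ⊥ := by
  rintro rfl
  haveI := hG.2.1
  obtain ⟨g, hg⟩ : ∃ g : G, g ≠ 1 := exists_ne 1
  have h : zpowers g = ⊤ := hM.2 _ (bot_lt_iff_ne_bot.mpr (by simpa using hg))
  exact hG.2.2.1 ⟨⟨fun a b => by
    obtain ⟨m, rfl⟩ := mem_zpowers_iff.mp (h ▸ mem_top a : a ∈ zpowers g)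
    obtain ⟨n, rfl⟩ := mem_zpowers_iff.mp (h ▸ mem_top b : b ∈ zpowers g)
    rw [← zpow_add, ← zpow_add, add_comm]⟩⟩

theorem normalizer_coatom (hG : Cfsg.IsMinSimpleOddOrder G) {M : Subgroup G} (hM : IsCoatom M) :
    normalizer (M : Set G) = M :=
  H41.normalizer_eq_of_isCoatom hG.2 hM le_rfl (coatom_ne_bot hG hM) le_normalizer

theorem mem_of_cj_eq (hG : Cfsg.IsMinSimpleOddOrder G) {M : Subgroup G} (hM : IsCoatom M) {g : G}
    (h : cj g M = M) : g ∈ M :=
  normalizer_coatom hG hM ▸ cj_eq_iff.mp h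

theorem cj_eq_of_mem {M : Subgroup G} {g : G} (h : g ∈ M) : cj g M = M :=
  cj_eq_iff.mpr (le_normalizer h)

theorem normalizer_eq_coatom (hG : Cfsg.IsMinSimpleOddOrder G) {M K : Subgroup G}
    (hM : IsCoatom M) (hKM : K ≤ M) (hK : K ≠ ⊥) (hn : M ≤ normalizer (K : Set G)) :
    normalizer (K : Set G) = M :=
  H41.normalizer_eq_of_isCoatom hG.2 hM hKM hK hn

/-- If every maximal subgroup containing `X` is `M`, then `X` and its normal overgroups are in `M`. -/
theorem le_of_unique {M X Y : Subgroup G} (hY : Y ≠ ⊤)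
    (h : ∀ L : Subgroup G, IsCoatom L → X ≤ L → L = M) (hXY : X ≤ Y) : Y ≤ M := by
  obtain ⟨L, hL, hYL⟩ := exists_coatom_ge hY
  exact h L hL (hXY.trans hYL) ▸ hYL

theorem eq_of_inUniqueMaximal {X M L : Subgroup G} (h : Cfsg.InUniqueMaximal X) (hM : IsCoatom M)
    (hXM : X ≤ M) (hL : IsCoatom L) (hXL : X ≤ L) : L = M :=
  h.unique ⟨hL, hXL⟩ ⟨hM, hXM⟩

theorem le_of_inUniqueMaximal {X Y M : Subgroup G} (h : Cfsg.InUniqueMaximal X) (hM : IsCoatom M)
    (hXM : X ≤ M) (hY : Y ≠ ⊤) (hXY : X ≤ Y) : Y ≤ M :=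
  le_of_unique hY (fun _ hL hXL => eq_of_inUniqueMaximal h hM hXM hL hXL) hXY

end Cfsg.Agent.OddOrder.BG11
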