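import Cfsg.Agent.OddOrder.BG11.Abelian
import Cfsg.Agent.Cores.Fitting

/-!
BG 12.7: `p ∈ τ₂(M)` with nonabelian Sylow `p`-subgroups in `G`.
-/

set_option autoImplicit false

universe u

namespace Cfsg.Agent.OddOrder.BG11

open Subgroup H40
open scoped commutatorElement

variable {G : Type u} [Group G] [Finite G] {p : ℕ} [hp : Fact p.Prime]

/-- A `p`-element fixing a point of a plane and moving the plane permutes the other lines
transitively. -/
theorem exists_conj_line {A : Subgroup G} (hA : Cfsg.IsElementaryAbelian p A)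
    (hA2 : Nat.card A = p ^ 2) {x : G} (hxA : x ∈ normalizer (A : Set G))
    (hxp : IsPGroup p (zpowers x)) (hxc : x ∉ centralizer (A : Set G)) {Z : Subgroup G} (hZA : Z ≤ A)
    (hZc : Nat.card Z = p) (hxZ : x ∈ centralizer (Z : Set G)) {X X' : Subgroup G} (hX : X ≤ A)
    (hXc : Nat.card X = p) (hXZ : X ≠ Z) (hX' : X' ≤ A) (hX'c : Nat.card X' = p) (hX'Z : X' ≠ Z) :
    ∃ i : ℕ, cj (x ^ i) X = X' := by
  have hfix : A ⊓ centralizer ({x} : Set G) = Z := by
    have hle : Z ≤ A ⊓ centralizer ({x} : Set G) := le_inf hZA fun z hz =>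
      mem_centralizer_singleton_iff.mpr (mem_centralizer_iff.mp hxZ z hz)
    refine (eq_of_le_of_card_ge hle ?_).symm
    obtain ⟨k, hk2, hk⟩ := (Nat.dvd_prime_pow hp.out).mp
      (hA2 ▸ card_dvd_of_le (inf_le_left : A ⊓ centralizer ({x} : Set G) ≤ A))
    have hk' : k ≠ 2 := fun e => hxc (mem_centralizer_iff.mpr fun a ha => by
      have h := eq_of_le_of_card_ge (inf_le_left : A ⊓ centralizer ({x} : Set G) ≤ A)
        (by rw [hk, e, hA2])
      exact mem_centralizer_singleton_iff.mp (h.ge ha).2)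
    rw [hk, hZc]
    exact (Nat.pow_le_pow_right hp.out.pos (show k ≤ 1 by omega)).trans (pow_one p).le
  have hsup : Z ⊔ X' = A := sup_eq_of_lines hA2 hZA hX' hZc hX'c (Ne.symm hX'Z)
  obtain ⟨⟨a, ha⟩, ha1'⟩ :=
    ne_bot_iff_exists_ne_one.mp (ne_bot_of_card (hXc ▸ hp.out.one_lt) : X ≠ ⊥)
  have ha1 : a ≠ 1 := fun e => ha1' (Subtype.ext e)
  have hXa : X = zpowers a := eq_zpowers_of_prime hXc hp.out ha ha1
  set c := x * a * x⁻¹ * a⁻¹ with hcdef
  have haZ : a ∉ Z := fun h => hXZ (eq_of_le_of_card_ge (hXa ▸ zpowers_le.mpr h) (by rw [hXc, hZc]))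
  have hc1 : c ≠ 1 := fun e => haZ (hfix.le ⟨hX ha, mem_centralizer_singleton_iff.mpr (by
    rw [hcdef, mul_inv_eq_one, mul_inv_eq_iff_eq_mul] at e
    exact e.symm)⟩)
  have hcA : c ∈ A := A.mul_mem ((mem_normalizer_iff.mp hxA a).mp (hX ha)) (A.inv_mem (hX ha))
  set D := ⁅A, zpowers x⁆
  have hDlt : D < A := Coprime.commutator_lt_of_isPGroup (elemAb_isPGroup hA) hxp
    (zpowers_le.mpr hxA) (ne_bot_of_card (hA2 ▸ Nat.one_lt_pow two_ne_zero hp.out.one_lt))
  have hcD : c ∈ D := by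
    have h1 : ⁅x, a⁆ ∈ ⁅zpowers x, A⁆ := commutator_mem_commutator (mem_zpowers x) (hX ha)
    rw [Subgroup.commutator_comm] at h1
    simpa [commutatorElement_def, hcdef] using h1
  have hDne : D ≠ ⊥ := fun e => hc1 (mem_bot.mp (e ▸ hcD))
  have hDc : Nat.card D = p := by
    obtain ⟨k, hk2, hk⟩ := (Nat.dvd_prime_pow hp.out).mp (hA2 ▸ card_dvd_of_le hDlt.le)
    have hk1 : k ≠ 0 := fun e => hDne (eq_bot_of_card_eq D (by rw [hk, e, pow_zero]))
    have hk' : k ≠ 2 := fun e => hDlt.ne (eq_of_le_of_card_ge hDlt.le (by rw [hk, e, hA2]))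
    rw [hk, show k = 1 by omega, pow_one]
  have hcZ : c ∈ Z := by
    have hn : zpowers x ≤ normalizer (D : Set G) := normalizer_commutator_ge_right A (zpowers x)
    have h1 := Coprime.commutator_lt_of_isPGroup ((elemAb_isPGroup hA).to_le hDlt.le) hxp hn hDne
    have h2 : ⁅D, zpowers x⁆ = ⊥ := by
      rcases (Nat.dvd_prime hp.out).mp (hDc ▸ card_dvd_of_le h1.le) with h | h
      · exact eq_bot_of_card_eq _ h
      · exact absurd (eq_of_le_of_card_ge h1.le (by rw [h, hDc])) h1.ne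
    rw [Subgroup.commutator_comm, commutator_eq_bot_iff_le_centralizer] at h2
    exact hfix.le ⟨hcA, mem_centralizer_singleton_iff.mpr
      (mem_centralizer_iff.mp (h2 (mem_zpowers x)) c hcD)⟩
  have hconj : ∀ i : ℕ, a * c ^ i = x ^ i * a * (x ^ i)⁻¹ := by
    intro i
    induction i with
    | zero => simp
    | succ i ih =>
      have hci : x * c ^ i = c ^ i * x := (mem_centralizer_iff.mp hxZ _ (pow_mem hcZ i)).symm
      have hca : c * a = a * c := elemAb_commute hA hcA (hX ha)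
      calc a * c ^ (i + 1) = c * (a * c ^ i) := by rw [pow_succ', ← mul_assoc, ← hca, mul_assoc]
        _ = x * a * x⁻¹ * c ^ i := by rw [hcdef]; group
        _ = x * (a * c ^ i) * x⁻¹ := by
          rw [mul_assoc (x * a), (Commute.inv_left hci).eq]; group
        _ = x ^ (i + 1) * a * (x ^ (i + 1))⁻¹ := by rw [ih, pow_succ']; group
  have ha' : a ∈ Z ⊔ X' := hsup.ge (hX ha)
  have hn : X' ≤ normalizer (Z : Set G) := fun b hb => centralizer_le_normalizer _
    (mem_centralizer_iff.mpr fun z hz => elemAb_commute hA (hZA hz) (hX' hb))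
  rw [← SetLike.mem_coe, coe_mul_of_right_le_normalizer_left Z X' hn, Set.mem_mul] at ha'
  obtain ⟨z, hz, b, hb, hzb⟩ := ha'
  have hzc : z⁻¹ ∈ zpowers c := eq_zpowers_of_prime hZc hp.out hcZ hc1 ▸ Z.inv_mem hz
  obtain ⟨i, hi⟩ := (mem_powers_iff_mem_zpowers (x := c)).mpr hzc
  refine ⟨i, ?_⟩
  have hba : (x ^ i) * a * (x ^ i)⁻¹ = b := by
    have hci : c ^ i = z⁻¹ := hi
    rw [← hconj i, hci, ← hzb, elemAb_commute hA (hZA hz) (hX' hb), mul_inv_cancel_right]
  refine eq_of_le_of_card_ge ?_ (by rw [card_cj, hXc, hX'c])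
  rw [hXa]
  show (zpowers a).map (MulAut.conj (x ^ i)).toMonoidHom ≤ X'
  rw [MonoidHom.map_zpowers, zpowers_le]
  exact (show (MulAut.conj (x ^ i)).toMonoidHom a = b from hba) ▸ hb

namespace Section10

variable (S10 : Section10 G) {M E : Subgroup G}
include S10

/-- BG 12.7, the lines of `A`. -/
theorem nonabelian_lines (hM : IsCoatom M) (hs : p ∉ Cfsg.sigma M)
    (hS : ∀ S : Sylow p G, ¬ IsMulCommutative (S : Subgroup G)) {A : Subgroup G} (hAM : A ≤ M)
    (hA : Cfsg.IsElementaryAbelian p A) (hA2 : Nat.card A = p ^ 2) :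
    ∃ A₀ : Subgroup G, A₀ ≤ A ∧ Nat.card A₀ = p ∧ A ⊓ centralizer (Cfsg.sigmaCore M : Set G) = A₀ ∧
      (∀ X : Subgroup G, X ≤ A → Nat.card X = p → X ≠ A₀ →
        Cfsg.sigmaCore M ⊓ centralizer (X : Set G) = ⊥ ∧ ¬ centralizer (X : Set G) ≤ M) ∧
      (∀ P : Subgroup G, IsSylowOf p P M → A ≤ P → ∀ y ∈ P, y ^ p ∈ A₀ → y ^ p = 1) ∧
      (∀ P : Subgroup G, IsSylowOf p P M → A ≤ P →
        ∃ x : G, x ∈ normalizer (P : Set G) ∧ x ∈ normalizer (A : Set G) ∧ x ∉ M ∧
          IsPGroup p (zpowers x)) := by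
  have hG := S10.minSimple
  have hp2 : p ≠ 2 := ne_two_of_mem_card hG (dvd_of_elemAb hA2 le_rfl)
  obtain ⟨B₀, EX⟩ := S10.exists_exc hM hs hAM hA hA2
  have hmax := EX.max S10
  have hCA := S10.centralizer_le hM hAM hA hA2
  have hσA : Cfsg.sigmaCore M ⊓ centralizer (A : Set G) = ⊥ := EX.inf_centralizer_eq_bot S10
  -- lines with a fixed point
  have huniq : ∀ X : Subgroup G, X ≤ A → Cfsg.sigmaCore M ⊓ centralizer (X : Set G) ≠ ⊥ →
      ∀ L, IsCoatom L → centralizer (X : Set G) ≤ L → L = M := fun X hX hne L hL hle =>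
    by_contra fun hLM => hne (eq_bot_iff.mpr ((inf_le_inf_left _ hle).trans
      (S10.sigmaCore_inf_eq_bot hM hs hAM hA hA2 hL hLM (le_trans (fun a ha => mem_centralizer_iff.mpr
        fun b hb => elemAb_commute hA (hX hb) ha) hle)).le))
  have hcle : ∀ X : Subgroup G, X ≤ A → Nat.card X = p →
      Cfsg.sigmaCore M ⊓ centralizer (X : Set G) ≠ ⊥ → centralizer (X : Set G) ≤ M :=
    fun X hX hXc hne => by
      obtain ⟨L, hL, hle⟩ := exists_coatom_ge (centralizer_ne_top hG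
        (ne_bot_of_card (hXc ▸ hp.out.one_lt)) (ne_top_of_le_coatom hM (hX.trans hAM)))
      exact huniq X hX hne L hL hle ▸ hle
  -- the element moving `M`
  have hmove : ∀ P : Subgroup G, IsSylowOf p P M → A ≤ P → ∀ S : Sylow p G, P ≤ (S : Subgroup G) →
      ∃ x ∈ (S : Subgroup G), x ∈ normalizer (P : Set G) ∧ x ∈ normalizer (A : Set G) ∧ x ∉ M ∧
        IsPGroup p (zpowers x) := fun P hP hAP S hPS => by
    have hlt : P < (S : Subgroup G) := lt_of_le_of_ne hPS fun e => hS S (e ▸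
      ⟨⟨fun a b => Subtype.ext (EX.commute_sylow S10 hP hAP a a.2 b b.2)⟩⟩)
    obtain ⟨x, hxS, hxP, hxN⟩ := H41.exists_mem_notMem_normalizer' S.isPGroup' hlt
    refine ⟨x, hxS, hxN, EX.normalizer_sylow_le_normalizer S10 hP hAP hxN, fun hxM => hxP ?_,
      S.isPGroup'.to_le (zpowers_le.mpr hxS)⟩
    have h : P = (S : Subgroup G) ⊓ M :=
      hP.eq_of_le (S.isPGroup'.to_le inf_le_left) (le_inf hPS hP.1) inf_le_right
    exact h.ge ⟨hxS, hxM⟩
  obtain ⟨P, hP, hAP⟩ := exists_sylowOf_ge' (elemAb_isPGroup hA) hAM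
  obtain ⟨S, hPS⟩ := hP.2.1.exists_le_sylow
  obtain ⟨x, hxS, hxP, hxA, hxM, hxp⟩ := hmove P hP hAP S hPS
  have hxc : x ∉ centralizer (A : Set G) := fun h => hxM (hCA h)
  have hAS : A ≤ (S : Subgroup G) := hAP.trans hPS
  have : Nontrivial (S : Subgroup G) := (nontrivial_iff_ne_bot _).mpr
    (ne_bot_of_le_ne_bot (ne_bot_of_card (hA2 ▸ Nat.one_lt_pow two_ne_zero hp.out.one_lt)) hAS)
  obtain ⟨z', -, hz'c, hz'o⟩ := PGroups.exists_mem_center_orderOf_eq S.isPGroup'
    (⊤ : Subgroup (S : Subgroup G)) top_ne_bot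
  set z := (z' : G)
  have hzS : ∀ v ∈ (S : Subgroup G), v * z = z * v := fun v hv =>
    congrArg Subtype.val (mem_center_iff.mp hz'c ⟨v, hv⟩)
  have hzo : orderOf z = p := by rw [Subgroup.orderOf_coe]; exact hz'o
  have hzA : z ∈ A := mem_of_pow_eq_one hA hmax
    (mem_centralizer_iff.mpr fun a ha => hzS a (hAS ha)) (hzo ▸ pow_orderOf_eq_one z)
  set Z := zpowers z
  have hZA : Z ≤ A := zpowers_le.mpr hzA
  have hZc : Nat.card Z = p := by rw [Nat.card_zpowers, hzo]
  have hSZ : (S : Subgroup G) ≤ centralizer (Z : Set G) := fun v hv =>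
    mem_centralizer_iff.mpr fun w hw => by
      obtain ⟨i, rfl⟩ := mem_zpowers_iff.mp hw
      exact (Commute.zpow_left (hzS v hv).symm i).eq
  have hZfix : Cfsg.sigmaCore M ⊓ centralizer (Z : Set G) = ⊥ :=
    by_contra fun hne => hxM (hcle Z hZA hZc hne (hSZ hxS))
  -- at most one line has a fixed point
  have hone : ∀ X ≤ A, ∀ X' ≤ A, Nat.card X = p → Nat.card X' = p →
      Cfsg.sigmaCore M ⊓ centralizer (X : Set G) ≠ ⊥ → X' ≠ Z →
      centralizer (X' : Set G) ≤ M → X' = X := fun X hX X' hX' hXc hX'c hne hX'Z hle => by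
    have hXZ : X ≠ Z := fun e => hne (e ▸ hZfix)
    obtain ⟨i, hi⟩ := exists_conj_line hA hA2 hxA hxp hxc hZA hZc (hSZ hxS) hX hXc hXZ hX' hX'c hX'Z
    rw [← hi, ← cj_centralizer] at hle
    have h1 : cj (x ^ i)⁻¹ M = M := huniq X hX hne _ (coatom_cj hM _)
      ((le_cj_iff.mpr (by rwa [inv_inv])))
    have h2 : x ^ i ∈ M := inv_mem_iff.mp (mem_of_cj_eq hG hM h1)
    have h3 : x ^ i ∈ centralizer (A : Set G) := by
      have h : P = (S : Subgroup G) ⊓ M :=
        hP.eq_of_le (S.isPGroup'.to_le inf_le_left) (le_inf hPS hP.1) inf_le_right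
      have h4 : x ^ i ∈ P := h.ge ⟨pow_mem hxS i, h2⟩
      exact mem_centralizer_iff.mpr fun a ha => EX.commute_sylow S10 hP hAP a (hAP ha) _ h4
    rw [← hi, cj_eq_iff.mpr (centralizer_le_normalizer _ (Subgroup.centralizer_le hX h3))]
  -- some line has
  obtain ⟨A₀, hA₀, hA₀c, hA₀ne⟩ : ∃ A₀ ≤ A, Nat.card A₀ = p ∧
      Cfsg.sigmaCore M ⊓ centralizer (A₀ : Set G) ≠ ⊥ := by
    by_contra h
    push Not at h
    refine S10.sigmaCore_ne_bot M hM (le_bot_iff.mp ?_)
    exact le_of_lines hA hA2 EX.not_dvd_sigmaCore (hAM.trans (le_normalizer_sigmaCore M))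
      fun X hX hXc => (h X hX hXc).le
  have hA₀σ : Cfsg.sigmaCore M ≤ centralizer (A₀ : Set G) := by
    refine le_of_lines hA hA2 EX.not_dvd_sigmaCore (hAM.trans (le_normalizer_sigmaCore M))
      fun X hX hXc => ?_
    by_cases hfix : Cfsg.sigmaCore M ⊓ centralizer (X : Set G) = ⊥
    · exact hfix ▸ bot_le
    · have hXZ : X ≠ Z := fun e => hfix (e ▸ hZfix)
      rw [hone A₀ hA₀ X hX hA₀c hXc hA₀ne hXZ (hcle X hX hXc hfix)]
      exact inf_le_right
  have hA₀Z : A₀ ≠ Z := fun e => hA₀ne (e ▸ hZfix)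
  refine ⟨A₀, hA₀, hA₀c, ?_, fun X hX hXc hne => ?_, fun P' hP' hAP' y hy hyp => ?_,
    fun P' hP' hAP' => ?_⟩
  · refine (eq_of_le_of_card_ge (le_inf hA₀ (le_centralizer_iff.mp hA₀σ)) ?_).symm
    obtain ⟨k, hk2, hk⟩ := (Nat.dvd_prime_pow hp.out).mp (hA2 ▸ card_dvd_of_le
      (inf_le_left : A ⊓ centralizer (Cfsg.sigmaCore M : Set G) ≤ A))
    have hk' : k ≠ 2 := fun e => S10.not_le_centralizer_sigmaCore hM hs hAM hA hA2
      (fun a ha => ((eq_of_le_of_card_ge
        (inf_le_left : A ⊓ centralizer (Cfsg.sigmaCore M : Set G) ≤ A) (by rw [hk, e, hA2])).ge ha).2)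
    rw [hk, hA₀c]
    exact (Nat.pow_le_pow_right hp.out.pos (show k ≤ 1 by omega)).trans (pow_one p).le
  · rcases eq_or_ne X Z with rfl | hXZ
    · exact ⟨hZfix, fun h => hxM (h (hSZ hxS))⟩
    · have hnot : ¬ centralizer (X : Set G) ≤ M := fun h =>
        hne (hone A₀ hA₀ X hX hA₀c hXc hA₀ne hXZ h)
      exact ⟨by_contra fun h => hnot (hcle X hX hXc h), hnot⟩
  · -- `A₀` contains no proper power
    by_contra hy1
    obtain ⟨S', hPS'⟩ := hP'.2.1.exists_le_sylow
    obtain ⟨x', hx'S, -, -, hx'M, -⟩ := hmove P' hP' hAP' S' hPS'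
    have hA₀a : A₀ = zpowers (y ^ p) := eq_zpowers_of_prime hA₀c hp.out hyp hy1
    have hnc : ¬ (S' : Subgroup G) ≤ centralizer ({y ^ p} : Set G) := fun h => hx'M
      (hcle A₀ hA₀ hA₀c hA₀ne (mem_centralizer_iff.mpr fun w hw => by
        rw [hA₀a] at hw
        obtain ⟨i, rfl⟩ := mem_zpowers_iff.mp hw
        exact (Commute.zpow_left (mem_centralizer_singleton_iff.mp (h hx'S)).symm i).eq))
    have hyS : y ∈ (S' : Subgroup G) := hPS' hy
    by_cases hr : Cfsg.PRankLE p 2 (S' : Subgroup G)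
    · rcases S10.sylow_rank_two p S' hr with hab | ⟨P₁, P₂, hsup, hcomm, -, -, he, hcyc, hΩ⟩
      · exact hS S' hab
      refine hnc ?_
      have hP₂n : P₁ ≤ normalizer (P₂ : Set G) :=
        le_normalizer_iff.mpr fun a ha b hb => by rwa [hcomm a ha b hb, mul_inv_cancel_right]
      have h1 : y ∈ P₁ ⊔ P₂ := hsup.symm ▸ hyS
      rw [← SetLike.mem_coe, coe_mul_of_left_le_normalizer_right P₁ P₂ hP₂n, Set.mem_mul] at h1
      obtain ⟨u, hu, b, hb, rfl⟩ := h1
      have hup : u ^ p = 1 :=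
        congrArg Subtype.val (he ▸ Monoid.pow_exponent_eq_one (⟨u, hu⟩ : P₁))
      have heq : (u * b) ^ p = b ^ p := by rw [Commute.mul_pow (hcomm u hu b hb), hup, one_mul]
      have hbp : (b ^ p) ^ p = 1 := heq ▸ hA.2 _ (hA₀ hyp)
      have h2 : b ^ p ∈ closure {x : G | x ∈ P₂ ∧ x ^ p = 1} :=
        subset_closure ⟨pow_mem hb p, hbp⟩
      rw [hΩ] at h2
      rw [← hsup, sup_le_iff, heq]
      refine ⟨fun a ha => mem_centralizer_singleton_iff.mpr (mem_centralizer_iff.mp h2.2 a ha),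
        fun v hv => mem_centralizer_singleton_iff.mpr ?_⟩
      let _ := IsCyclic.commGroup (α := P₂)
      exact congrArg Subtype.val (mul_comm (⟨v, hv⟩ : P₂) ⟨b ^ p, pow_mem hb p⟩)
    · have hAS' : A ≤ (S' : Subgroup G) := hAP'.trans hPS'
      have hmapA : (A.subgroupOf (S' : Subgroup G)).map (S' : Subgroup G).subtype = A := by
        rw [subgroupOf_map_subtype, inf_eq_left.mpr hAS']
      have hData : BG5.NarrowData p ↥(S' : Subgroup G) (A.subgroupOf (S' : Subgroup G)) := by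
        refine ⟨hr, ⟨⟨⟨fun a b => Subtype.ext (Subtype.ext (elemAb_commute hA a.2 b.2))⟩⟩,
          fun a ha => Subtype.ext (by simpa using hA.2 a ha)⟩, ?_, fun B hB hAB => ?_⟩
        · rw [Nat.card_congr (subgroupOfEquivOfLe hAS').toEquiv, hA2]
        · refine map_injective (S' : Subgroup G).subtype_injective ?_
          rw [hmapA]
          refine hmax _ ⟨have := hB.1; map_isMulCommutative B _, ?_⟩ (hmapA.ge.trans (map_mono hAB))
          rintro _ ⟨v, hv, rfl⟩
          rw [← map_pow, hB.2 v hv, map_one]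
      obtain ⟨hnot, -, -, hchar, hidx⟩ := BG5.narrow_conclusion hp2 S'.isPGroup' hData
      set T := centralizer (BG5.omegaSecond p ↥(S' : Subgroup G) : Set ↥(S' : Subgroup G))
      have : T.Normal := normal_of_characteristic (h := hchar) _
      have h1 : (⟨y, hyS⟩ : (S' : Subgroup G)) ^ p ∈ T := by
        have h := pow_index_mem T (⟨y, hyS⟩ : (S' : Subgroup G))
        rwa [hidx] at h
      obtain ⟨w, hwA, hwc, hwo, -⟩ := hData.center_omega S'.isPGroup'
      refine hnot fun a ha => ?_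
      have hsub : A.subgroupOf (S' : Subgroup G) ≤
          zpowers w ⊔ zpowers ((⟨y, hyS⟩ : (S' : Subgroup G)) ^ p) := by
        refine (eq_of_le_of_card_ge (sup_le (zpowers_le.mpr hwA) (zpowers_le.mpr (hA₀ hyp))) ?_).ge
        rw [hData.card_eq]
        refine le_of_eq ?_
        have hne : zpowers w ≠ zpowers ((⟨y, hyS⟩ : (S' : Subgroup G)) ^ p) := fun e => hnc (by
          intro v hv
          refine mem_centralizer_singleton_iff.mpr ?_
          obtain ⟨i, hi⟩ := mem_zpowers_iff.mp (e ▸ mem_zpowers _ :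
            (⟨y, hyS⟩ : (S' : Subgroup G)) ^ p ∈ zpowers w)
          have h := mem_center_iff.mp ((center _).zpow_mem hwc i) ⟨v, hv⟩
          rw [hi] at h
          exact congrArg Subtype.val h)
        have h2 := sup_eq_of_lines (G := ↥(S' : Subgroup G)) hData.card_eq (zpowers_le.mpr hwA)
          (zpowers_le.mpr (show (⟨y, hyS⟩ : (S' : Subgroup G)) ^ p ∈ A.subgroupOf _ from hA₀ hyp))
          (by rw [Nat.card_zpowers, hwo])
          (by
            rw [Nat.card_zpowers, ← Subgroup.orderOf_coe, SubmonoidClass.coe_pow]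
            exact orderOf_eq_prime (hA.2 _ (hA₀ hyp)) hy1) hne
        rw [h2, hData.card_eq]
      exact (sup_le (zpowers_le.mpr (mem_centralizer_iff.mpr fun v _ =>
        mem_center_iff.mp hwc v)) (zpowers_le.mpr h1)) (hsub ha)
  · obtain ⟨S', hPS'⟩ := hP'.2.1.exists_le_sylow
    obtain ⟨x', -, h1, h2, h3, h4⟩ := hmove P' hP' hAP' S' hPS'
    exact ⟨x', h1, h2, h3, h4⟩

/-- BG 12.7. -/
theorem nonabelian_structure (hM : IsCoatom M) (hE : Cfsg.IsComplIn E (Cfsg.sigmaCore M) M)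
    (hp2 : p ∈ Cfsg.tau2 M) (hS : ∀ S : Sylow p G, ¬ IsMulCommutative (S : Subgroup G))
    {A : Subgroup G} (hA : A ≤ E ∧ Cfsg.IsElementaryAbelian p A ∧ Nat.card A = p ^ 2) :
    Cfsg.tau2 M = {p} ∧
      (Nat.card ↥(A ⊓ centralizer (Cfsg.sigmaCore M : Set G)) = p ∧
        Cfsg.fittingOf M = Cfsg.sigmaCore M ⊔ (A ⊓ centralizer (Cfsg.sigmaCore M : Set G))) ∧
      ∀ X : Subgroup G, X ≤ E → Nat.card X = p →
        X ≠ A ⊓ centralizer (Cfsg.sigmaCore M : Set G) →
        Cfsg.sigmaCore M ⊓ centralizer (X : Set G) = ⊥ ∧ ¬ centralizer (X : Set G) ≤ M := by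
  have hG := S10.minSimple
  obtain ⟨hAE, hAe, hA2⟩ := hA
  have hs := hp2.2.1
  have hAM := hAE.trans hE.1
  obtain ⟨hEA, hline⟩ := S10.compl_le_normalizer hM hE hs hAE hAe hA2
  obtain ⟨-, ⟨-, hMN, -⟩, -⟩ := S10.compl_structure hM hE hp2 ⟨hAE, hAe, hA2⟩
  have hCA := S10.centralizer_le hM hAM hAe hA2
  have hCE : centralizer (A : Set G) ≤ E :=
    (le_inf hCA (centralizer_le_normalizer _)).trans hMN.le
  obtain ⟨B₀, EX⟩ := S10.exists_exc hM hs hAM hAe hA2
  have hmax := EX.max S10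
  obtain ⟨A₀, hA₀, hA₀c, hA₀eq, hother, hpow, hmove⟩ := S10.nonabelian_lines hM hs hS hAM hAe hA2
  obtain ⟨P, hP, hAP⟩ := exists_sylowOf_ge' (elemAb_isPGroup hAe) hAM
  have hone : ∀ q, q ∈ Cfsg.tau2 M → q = p := fun q hq => by
    by_contra hqp
    have : Fact q.Prime := ⟨hq.1⟩
    obtain ⟨B, hBM, hB, hB2⟩ := exists_elemAb_sq hq.2.2.2
    have hH := (S10.sigmaCore_hall M hM).1
    obtain ⟨E', hE', hBE'⟩ := S10.exists_compl_ge hM hBM fun r hr hd => by
      rw [hB2] at hd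
      exact Nat.prime_eq_prime_of_dvd_pow hr hq.1 hd ▸ hq.2.1
    obtain ⟨m, hm, e⟩ := Coprime.exists_conj_hallOf (S10.isSolvable_max hM)
      (compl_isPiHallOf hH hE') (compl_isPiHallOf hH hE)
    set B' := cj m B
    have hB'E : B' ≤ E := (cj_mono m hBE').trans e.le
    have hB' : Cfsg.IsElementaryAbelian q B' := elemAb_cj hB m
    have hB'2 : Nat.card B' = q ^ 2 := (card_cj m B).trans hB2
    obtain ⟨hEB, hlineB⟩ := S10.compl_le_normalizer hM hE hq.2.1 hB'E hB' hB'2
    have hcop : (Nat.card B').Coprime (Nat.card A) := by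
      rw [hB'2, hA2]
      exact Nat.Coprime.pow 2 2 ((Nat.coprime_primes hq.1 hp.out).mpr hqp)
    have hBA : B' ≤ centralizer (A : Set G) := fun b hb =>
      Coprime.mem_centralizer_of_mem_normalizer (hAE.trans hEB)
        (Coprime.inf_eq_bot hcop.symm) hb (hEA (hB'E hb))
    obtain ⟨x, -, hxA, hxM, hxp⟩ := hmove P hP hAP
    have hxB : x ∈ normalizer (B' : Set G) := by
      refine cj_eq_iff.mp (eq_of_le_of_card_ge ?_ (card_cj x B').ge)
      rintro _ ⟨b, hb, rfl⟩
      show x * b * x⁻¹ ∈ B'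
      rcases eq_or_ne b 1 with rfl | hb1
      · simp
      have hbE : x * b * x⁻¹ ∈ E := by
        refine hCE ?_
        rw [← cj_eq_iff.mpr hxA, ← cj_centralizer]
        exact conj_mem_cj x (hBA hb)
      refine hlineB (zpowers (x * b * x⁻¹)) (zpowers_le.mpr hbE) ?_ (mem_zpowers _)
      rw [Nat.card_zpowers]
      refine orderOf_eq_prime (by rw [conj_pow, hB'.2 b hb, mul_one, mul_inv_cancel])
        fun e1 => hb1 ?_
      rw [mul_inv_eq_one] at e1
      simpa using e1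
    obtain ⟨H, hH', hNH⟩ := exists_coatom_ge (normalizer_ne_top' hG
      (ne_bot_of_card (hA2 ▸ Nat.one_lt_pow two_ne_zero hp.out.one_lt) : A ≠ ⊥)
      (ne_top_of_le_coatom hM hAM))
    have hxH : zpowers x ≤ H := zpowers_le.mpr (hNH hxA)
    have hpH : p ∈ Cfsg.sigma H := by
      by_contra hpH
      refine hxM (hCA (mem_centralizer_iff.mpr fun a ha => ?_))
      exact S10.commute_of_not_sigma hH' hpH
        (hxp.to_sup_of_normal_right' (elemAb_isPGroup hAe) (zpowers_le.mpr hxA))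
        (sup_le hxH ((le_normalizer (H := A)).trans hNH)) a (mem_sup_right ha) x
        (mem_sup_left (mem_zpowers x))
    have hxB' : zpowers x ≤ normalizer (B' : Set G) := zpowers_le.mpr hxB
    have hBH : B' ≤ H := (hBA.trans (centralizer_le_normalizer _)).trans hNH
    have hxH' : zpowers x ≤ ⁅H, H⁆ :=
      (S10.le_sigmaCore_of_isPGroup hH' hpH hxH hxp).trans (S10.sigmaCore_le_derived H hH')
    set R := ⁅B', zpowers x⁆
    have hRB : R ≤ B' := Coprime.commutator_le_left_of_normalizer hxB'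
    have hcopx : (Nat.card (zpowers x)).Coprime (Nat.card B') :=
      coprime_card_of_isPGroup hxp fun h => by
        rw [hB'2] at h
        exact hqp (Nat.prime_eq_prime_of_dvd_pow hp.out hq.1 h).symm
    have hbq : q ∉ Cfsg.beta H := fun hb => (S10.p2_maximal M hM q hq.2.1
      (S10.pRankLE_two hM hq.2.1) hq.2.2.2).1 hb.2
    have hxc : zpowers x ≤ centralizer (B' : Set G) :=
      Coprime.le_centralizer_of_commutator_le hxB' hcopx le_rfl
        (S10.le_centralizer_of_not_beta hH' (fun e' => hqp e'.symm) hxp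
          ((elemAb_isPGroup hB').to_le hRB) hxH' (commutator_mono hBH hxH)
          (normalizer_commutator_ge_right B' (zpowers x)) hbq)
    obtain ⟨B₁, EB⟩ := S10.exists_exc hM hq.2.1 (hB'E.trans hE.1) hB' hB'2
    obtain ⟨Y, hY, hYc, hYne⟩ : ∃ Y ≤ B', Nat.card Y = q ∧
        Cfsg.sigmaCore M ⊓ centralizer (Y : Set G) ≠ ⊥ := by
      by_contra h
      push Not at h
      refine S10.sigmaCore_ne_bot M hM (le_bot_iff.mp ?_)
      exact le_of_lines hB' hB'2 EB.not_dvd_sigmaCore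
        ((hB'E.trans hE.1).trans (le_normalizer_sigmaCore M)) fun Y hY hYc => (h Y hY hYc).le
    exact hxM (((S10.compl_structure hM hE hq ⟨hB'E, hB', hB'2⟩).2.2 Y hY hYc hYne).1
      (Subgroup.centralizer_le hY (hxc (mem_zpowers x))))
  have hset : Cfsg.tau2 M = {p} :=
    Set.ext fun q => ⟨hone q, fun h => (Set.mem_singleton_iff.mp h) ▸ hp2⟩
  refine ⟨hset, ⟨by rw [hA₀eq, hA₀c], ?_⟩, fun X hX hXc hne =>
    hother X (hline X hX hXc) hXc (hA₀eq ▸ hne)⟩
  rw [hA₀eq]
  set σM := Cfsg.sigmaCore M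
  have hσn : M ≤ normalizer (σM : Set G) := le_normalizer_sigmaCore M
  have hσc : σM ≤ centralizer (A₀ : Set G) := le_centralizer_iff.mp (hA₀eq ▸ inf_le_right)
  have hMA₀ : M ≤ normalizer (A₀ : Set G) := fun m hm => by
    obtain ⟨e, he, s, hsm, rfl⟩ := hE.2.2.2 m hm
    refine mul_mem ?_ (centralizer_le_normalizer _ (hσc hsm))
    refine cj_eq_iff.mp ?_
    rw [← hA₀eq, cj_inf, cj_eq_iff.mpr (hEA he), cj_centralizer,
      cj_eq_iff.mpr (hσn (hE.1 he))]
  refine le_antisymm ?_ (sup_le ?_ ?_)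
  · -- every Sylow subgroup of the Fitting subgroup
    have hFn : Group.IsNilpotent ↥(Cfsg.fittingOf M) :=
      Group.nilpotent_of_mulEquiv ((Cfsg.fittingSubgroup M).equivMapOfInjective M.subtype
        M.subtype_injective)
    have hFM : Cfsg.fittingOf M ≤ M := map_subtype_le _
    have hFnorm : M ≤ normalizer (Cfsg.fittingOf M : Set G) := Components.le_normalizer_map_subtype _
    refine Coprime.le_of_exists_sylow_le fun r hr => ?_
    have : Fact r.Prime := ⟨hr⟩
    obtain ⟨T⟩ : Nonempty (Sylow r (Cfsg.fittingOf M)) := inferInstance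
    refine ⟨T, ?_⟩
    set R := (T : Subgroup (Cfsg.fittingOf M)).map (Cfsg.fittingOf M).subtype
    have hRr : IsPGroup r R := T.isPGroup'.map _
    have hRM : R ≤ M := (map_subtype_le _).trans hFM
    rcases eq_or_ne R ⊥ with h0 | h0
    · exact h0.le.trans bot_le
    have hTn : (T : Subgroup (Cfsg.fittingOf M)).Normal :=
      Group.isNilpotent_of_finite_tfae.out 0 3 rfl rfl |>.mp hFn r ⟨hr⟩ T
    have := Sylow.characteristic_of_normal T hTn
    have hMR : M ≤ normalizer (R : Set G) :=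
      Components.le_normalizer_map_characteristic _ hFnorm
    by_cases hrs : r ∈ Cfsg.sigma M
    · exact (S10.le_sigmaCore_of_isPGroup hM hrs hRM hRr).trans le_sup_left
    have hrR : r ∣ Nat.card R := by
      obtain ⟨k, hk⟩ := IsPGroup.iff_card.mp hRr
      rcases k with _ | k
      · exact absurd (eq_bot_of_card_eq _ (by rwa [pow_zero] at hk)) h0
      · exact hk ▸ dvd_pow_self r k.succ_ne_zero
    have hr2 : r ≠ 2 := ne_two_of_mem_card hG hrR
    have hrσ : ¬ r ∣ Nat.card σM := fun h => hrs (sigmaCore_isPiNumber M r hr h)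
    have hRσ : R ≤ centralizer (σM : Set G) := fun v hv =>
      Coprime.mem_centralizer_of_mem_normalizer ((sigmaCore_le M).trans hMR)
        (Coprime.inf_eq_bot (coprime_card_of_isPGroup hRr hrσ).symm) hv (hσn (hRM hv))
    by_cases hrp : r = p
    · subst hrp
      obtain ⟨U, hU, hRU⟩ := exists_sylowOf_ge'
        ((elemAb_isPGroup hAe).to_sup_of_normal_right' hRr (hAM.trans hMR)) (sup_le hAM hRM)
      have hroot : ∀ v ∈ R, v ^ r = 1 → v ∈ A₀ := fun v hv hv1 => hA₀eq.le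
        ⟨(EX.pow_eq_one_iff S10 hU (le_sup_left.trans hRU) (hRU (mem_sup_right hv))).mp hv1, hRσ hv⟩
      refine le_trans (fun v hv => ?_) (le_sup_right : A₀ ≤ _)
      refine hroot v hv ?_
      obtain ⟨k, hk⟩ := IsPGroup.iff_orderOf.mp hRr ⟨v, hv⟩
      rw [Subgroup.orderOf_mk] at hk
      rcases k with _ | k
      · have h : v = 1 := orderOf_eq_one_iff.mp (by rw [hk, pow_zero])
        rw [h, one_pow]
      by_contra hv1
      have hk1 : k ≠ 0 := fun e => hv1 (by rw [← (show orderOf v = r by rw [hk, e, zero_add, pow_one]),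
        pow_orderOf_eq_one])
      obtain ⟨j, rfl⟩ := Nat.exists_eq_succ_of_ne_zero hk1
      set y := v ^ r ^ j
      have hyU : y ∈ U := pow_mem (hRU (mem_sup_right hv)) _
      have h1 : (y ^ r) ^ r = 1 := by
        rw [← pow_mul, ← pow_mul, ← pow_two, ← pow_add]
        show v ^ r ^ (j + 2) = 1
        rw [← hk]
        exact pow_orderOf_eq_one v
      have h2 : y ^ r ≠ 1 := fun e => by
        rw [← pow_mul, ← pow_succ] at e
        have h3 := orderOf_dvd_of_pow_eq_one e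
        rw [hk] at h3
        exact absurd ((Nat.pow_dvd_pow_iff_le_right hp.out.one_lt).mp h3) (by omega)
      exact h2 (hpow U hU (le_sup_left.trans hRU) y hyU
        (hroot _ (pow_mem (pow_mem hv _) _) h1))
    · exfalso
      have hr1 : Cfsg.PRankLE r 1 M := by_contra fun h =>
        hrp (hone r ⟨hr, hrs, S10.pRankLE_two hM hrs, h⟩)
      obtain ⟨U, hU, hRU⟩ := exists_sylowOf_ge' hRr hRM
      have hcyc := isCyclic_of_pRankLE_one hr2 hU.2.1 (pRankLE_of_le hU.1 hr1)
      refine not_normalizer_le hrs (hrR.trans (card_dvd_of_le hRM)) hU ?_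
      refine le_trans ?_ (normalizer_eq_coatom hG hM hRM h0 hMR).le
      intro n hn
      exact cj_eq_iff.mp (H41.eq_of_card_eq_of_le_cyclic hcyc
        ((cj_mono n hRU).trans (cj_eq_iff.mpr hn).le) hRU (card_cj n R))
  · have : (σM.subgroupOf M).Normal := normal_subgroupOf_of_le_normalizer hσn
    have hn := EX.sigmaCore_nilpotent S10
    have h : σM.subgroupOf M ≤ Cfsg.fittingSubgroup M := by
      refine Cores.le_fittingSubgroup ?_
      exact Group.nilpotent_of_mulEquiv (subgroupOfEquivOfLe (sigmaCore_le M)).symm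
    exact fun v hv => ⟨⟨v, sigmaCore_le M hv⟩, h hv, rfl⟩
  · have : (A₀.subgroupOf M).Normal := normal_subgroupOf_of_le_normalizer hMA₀
    have h : A₀.subgroupOf M ≤ Cfsg.fittingSubgroup M := by
      refine Cores.le_fittingSubgroup ?_
      have : Group.IsNilpotent A₀ := ((elemAb_isPGroup hAe).to_le hA₀).isNilpotent
      exact Group.nilpotent_of_mulEquiv (subgroupOfEquivOfLe (hA₀.trans hAM)).symm
    exact fun v hv => ⟨⟨v, hA₀.trans hAM hv⟩, h hv, rfl⟩

end Section10

end Cfsg.Agent.OddOrder.BG11
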