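import Cfsg.Agent.OddOrder.BG11.RegularLines
import Cfsg.Agent.H24.Gaschuetz
import Cfsg.Agent.Hall.Existence

/-!
BG 12.12: when the primes of `τ₁ ∪ τ₃` act without fixed points on `M_σ`.
-/

set_option autoImplicit false

universe u

namespace Cfsg.Agent.OddOrder.BG11

open Subgroup H40
open scoped IsMulCommutative

variable {G : Type u} [Group G] [Finite G]

/-- The hypothesis: elements of order composed of primes in `τ₁ ∪ τ₃` fix no point of `M_σ`. -/
def RegularTauOneThree (M E : Subgroup G) : Prop :=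
  ∀ e ∈ E, e ≠ 1 → (∀ q : ℕ, q.Prime → q ∣ orderOf e → q ∈ Cfsg.tau1 M ∪ Cfsg.tau3 M) →
    Cfsg.sigmaCore M ⊓ centralizer ({e} : Set G) = ⊥

/-- The conclusion of BG 12.12. -/
def RegularConclusion (M E : Subgroup G) : Prop :=
  (∃ A₀ : Subgroup G, A₀ ≤ E ∧ E ≤ normalizer (A₀ : Set G) ∧ IsMulCommutative A₀ ∧
      ∀ x ∈ Cfsg.sigmaCore M, x ≠ 1 → E ⊓ centralizer ({x} : Set G) ≤ A₀) ∧
    ∃ E₀ : Subgroup G, E₀ ≤ E ∧ Monoid.exponent E₀ = Monoid.exponent E ∧
      ∀ e ∈ E₀, e ≠ 1 → Cfsg.sigmaCore M ⊓ centralizer ({e} : Set G) = ⊥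

omit [Finite G] in
theorem centralizer_singleton_pow_le (e : G) (i : ℕ) :
    centralizer ({e} : Set G) ≤ centralizer ({e ^ i} : Set G) := fun x hx => by
  rw [mem_centralizer_singleton_iff] at hx ⊢
  exact (Commute.pow_right hx i).eq

omit [Finite G] in
theorem regular_of_mem {M E A₀ : Subgroup G} (hA₀ : A₀ ≤ E) (hn : E ≤ normalizer (A₀ : Set G))
    (hc : IsMulCommutative A₀)
    (hkey : ∀ e ∈ E, e ≠ 1 → Cfsg.sigmaCore M ⊓ centralizer ({e} : Set G) ≠ ⊥ → e ∈ A₀)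
    {E₀ : Subgroup G} (hE₀ : E₀ ≤ E) (hexp : Monoid.exponent E₀ = Monoid.exponent E)
    (hfix : ∀ e ∈ E₀, e ≠ 1 → e ∈ A₀ → Cfsg.sigmaCore M ⊓ centralizer ({e} : Set G) = ⊥) :
    RegularConclusion M E := by
  refine ⟨⟨A₀, hA₀, hn, hc, fun x hx hx1 e he => ?_⟩, E₀, hE₀, hexp, fun e he he1 => ?_⟩
  · rcases eq_or_ne e 1 with rfl | he1
    · exact one_mem _
    refine hkey e he.1 he1 fun h0 => hx1 ?_
    have h1 : x ∈ Cfsg.sigmaCore M ⊓ centralizer ({e} : Set G) := ⟨hx, mem_centralizer_singleton_iff.mpr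
      (mem_centralizer_singleton_iff.mp he.2).symm⟩
    rwa [h0, mem_bot] at h1
  · by_contra h
    exact h (hfix e he he1 (hkey e (hE₀ he) he1 h))

namespace Section10

variable (S10 : Section10 G) {M E : Subgroup G}
include S10

/-- A prime dividing the order of an element of `E` with a fixed point on `M_σ` is in `τ₂`. -/
theorem tauTwo_of_fixed (hM : IsCoatom M) (hE : Cfsg.IsComplIn E (Cfsg.sigmaCore M) M)
    (h13 : RegularTauOneThree M E) {e : G} (he : e ∈ E)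
    (hne : Cfsg.sigmaCore M ⊓ centralizer ({e} : Set G) ≠ ⊥) {r : ℕ} (hr : r.Prime)
    (hd : r ∣ orderOf e) : r ∈ Cfsg.tau2 M := by
  have hrE := hd.trans (E.orderOf_dvd_natCard he)
  by_contra h2
  have h : r ∈ Cfsg.tau1 M ∪ Cfsg.tau3 M := by
    rcases OddOrder.tau_cases (S10.alpha_subset_sigma hM) hr (hrE.trans (card_dvd_of_le hE.1))
      (not_mem_sigma_of_dvd_compl (S10.sigmaCore_hall M hM).1 hE hr hrE) with h | h | h
    · exact Or.inl h
    · exact absurd h h2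
    · exact Or.inr h
  have ho : orderOf (e ^ (orderOf e / r)) = r := orderOf_pow_orderOf_div (orderOf_pos e).ne' hd
  refine hne (eq_bot_iff.mpr ((inf_le_inf_left _ (centralizer_singleton_pow_le e (orderOf e / r))).trans
    (h13 _ (pow_mem he _) (fun h1 => hr.ne_one (by rw [← ho, h1, orderOf_one])) fun q hq hqd => ?_).le))
  rw [ho, Nat.prime_dvd_prime_iff_eq hq hr] at hqd
  exact hqd ▸ h

omit S10 in
/-- A Sylow subgroup of `E` is one of `M`. -/
theorem isSylowOf_compl {q : ℕ} [Fact q.Prime] (hE : Cfsg.IsComplIn E (Cfsg.sigmaCore M) M)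
    (hs : q ∉ Cfsg.sigma M) {P : Subgroup G} (hP : IsSylowOf q P E) : IsSylowOf q P M := by
  refine isSylowOf_of_le_sup hP (sigmaCore_le M) hE.1 (hE.1.trans (le_normalizer_sigmaCore M))
    (fun x hx => ?_) fun hd => hs (sigmaCore_isPiNumber M q (Fact.out) hd)
  obtain ⟨a, ha, b, hb, rfl⟩ := hE.2.2.2 x hx
  exact mul_mem (mem_sup_right ha) (mem_sup_left hb)

omit S10 in
theorem exists_plane_sylow {q : ℕ} [Fact q.Prime] (hE : Cfsg.IsComplIn E (Cfsg.sigmaCore M) M)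
    (hq2 : q ∈ Cfsg.tau2 M) : ∃ A P : Subgroup G, (A ≤ E ∧ Cfsg.IsElementaryAbelian q A ∧
      Nat.card A = q ^ 2) ∧ IsSylowOf q P M ∧ A ≤ P ∧ P ≤ E := by
  obtain ⟨P, hP⟩ := exists_sylowOf q E
  have hPM := isSylowOf_compl hE hq2.2.1 hP
  obtain ⟨B, hBM, hB, hB2⟩ := exists_elemAb_sq hq2.2.2.2
  obtain ⟨m, -, hle⟩ := exists_conj_le hPM (elemAb_isPGroup hB) hBM
  exact ⟨cj m B, P, ⟨hle.trans hP.1, elemAb_cj hB m, (card_cj m B).trans hB2⟩, hPM, hle, hP.1⟩

/-- BG 12.12 when the Sylow `p`-subgroups of `G` are not abelian for some `p ∈ τ₂(M)`. -/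
theorem regular_of_nonabelian (hM : IsCoatom M) (hE : Cfsg.IsComplIn E (Cfsg.sigmaCore M) M)
    (h13 : RegularTauOneThree M E) {p : ℕ} [hp : Fact p.Prime] (hp2 : p ∈ Cfsg.tau2 M)
    (hS : ∀ S : Sylow p G, ¬ IsMulCommutative (S : Subgroup G)) : RegularConclusion M E := by
  obtain ⟨A, P, ⟨hAE, hAe, hA2⟩, hP, hAP, hPE⟩ := exists_plane_sylow hE hp2
  have hs := hp2.2.1
  have hAM := hAE.trans hE.1
  obtain ⟨hEA, hlineA⟩ := S10.compl_le_normalizer hM hE hs hAE hAe hA2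
  obtain ⟨htau, -, -⟩ := S10.nonabelian_structure hM hE hp2 hS ⟨hAE, hAe, hA2⟩
  obtain ⟨A₀, hA₀A, hA₀c, hA₀, hlines, hroot, -⟩ := S10.nonabelian_lines hM hs hS hAM hAe hA2
  have hA₀E : A₀ ≤ E := hA₀A.trans hAE
  have hA₀n : E ≤ normalizer (A₀ : Set G) := fun e he => cj_eq_iff.mp (by
    rw [← hA₀, cj_inf, cj_eq_iff.mpr (hEA he), cj_centralizer,
      cj_eq_iff.mpr (le_normalizer_sigmaCore M (hE.1 he))])
  have hA₀comm : IsMulCommutative A₀ := ⟨⟨fun a b => Subtype.ext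
    (elemAb_commute hAe (hA₀A a.2) (hA₀A b.2))⟩⟩
  have hkey : ∀ e ∈ E, e ≠ 1 → Cfsg.sigmaCore M ⊓ centralizer ({e} : Set G) ≠ ⊥ → e ∈ A₀ := by
    intro e he he1 hne
    have hprimes : ∀ r : ℕ, r.Prime → r ∣ orderOf e → r = p := fun r hr hd => by
      have h := S10.tauTwo_of_fixed hM hE h13 he hne hr hd
      rwa [htau] at h
    have ho := Nat.eq_prime_pow_of_unique_prime_dvd (orderOf_pos e).ne' fun {d} => hprimes d
    set k := (orderOf e).primeFactorsList.length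
    have hpe : IsPGroup p (zpowers e) := IsPGroup.of_card (n := k) (by rw [Nat.card_zpowers, ho])
    obtain ⟨P', hP', hle⟩ := exists_sylowOf_ge' (hpe.to_sup_of_normal_right' (elemAb_isPGroup hAe)
      (zpowers_le.mpr (hEA he))) (sup_le (zpowers_le.mpr (hE.1 he)) hAM)
    rcases hk : k with _ | j
    · exact absurd (orderOf_eq_one_iff.mp (by rw [ho, hk, pow_zero])) he1
    rw [hk] at ho
    set u := e ^ p ^ j
    have huo : orderOf u = p := by
      rw [orderOf_pow_of_dvd (pow_pos hp.out.pos j).ne' (ho ▸ pow_dvd_pow p j.le_succ), ho,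
        pow_succ, Nat.mul_div_cancel_left _ (pow_pos hp.out.pos j)]
    have huX : zpowers u = A₀ := by
      by_contra hX
      refine hne (eq_bot_iff.mpr ?_)
      have h1 := (hlines (zpowers u) (hlineA _ (zpowers_le.mpr (pow_mem he _))
        (by rw [Nat.card_zpowers, huo])) (by rw [Nat.card_zpowers, huo]) hX).1
      rw [centralizer_zpow_eq] at h1
      exact (inf_le_inf_left _ (centralizer_singleton_pow_le e _)).trans h1.le
    rcases j with _ | j
    · have : u = e := by simp [u]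
      exact huX ▸ this ▸ mem_zpowers u
    · exfalso
      have hy := hroot P' hP' (le_sup_right.trans hle) (e ^ p ^ j)
        (pow_mem (hle (mem_sup_left (mem_zpowers e))) _)
        (by rw [← pow_mul, ← pow_succ]; exact huX ▸ mem_zpowers u)
      rw [← pow_mul, ← pow_succ] at hy
      rw [show u = 1 from hy, orderOf_one] at huo
      exact hp.out.one_lt.ne huo
  -- a complement to `A₀` in `P`
  have hPc := S10.commute_of_not_sigma hM hs hP.2.1 hP.1
  obtain ⟨Q, hQP, hQA, hQ⟩ : ∃ Q ≤ P, Q ⊓ A₀ = ⊥ ∧ A₀ ⊔ Q = P := by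
    have : IsMulCommutative P := ⟨⟨fun a b => Subtype.ext (hPc a a.2 b b.2)⟩⟩
    set U := (powMonoidHom p : P →* P).range.map P.subtype with hU
    have hUA : U ⊓ A₀ = ⊥ := eq_bot_iff.mpr <| by
      rintro _ ⟨⟨_, ⟨v, rfl⟩, rfl⟩, hx⟩
      exact mem_bot.mpr (hroot P hP hAP v v.2 hx)
    obtain ⟨Q, hQmem, hQmax⟩ := Set.Finite.exists_maximal
      (Set.toFinite {Q : Subgroup G | U ≤ Q ∧ Q ≤ P ∧ Q ⊓ A₀ = ⊥})
      ⟨U, le_rfl, map_subtype_le _, hUA⟩
    obtain ⟨hUQ, hQP, hQA⟩ := hQmem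
    have hcomm : ∀ Y ≤ P, ∀ Z ≤ P, Y ≤ normalizer (Z : Set G) := fun Y hY Z hZ y hy =>
      centralizer_le_normalizer _ (mem_centralizer_iff.mpr fun z hz => hPc z (hZ hz) y (hY hy))
    refine ⟨Q, hQP, hQA, le_antisymm (sup_le (hA₀A.trans hAP) hQP) fun v hv => ?_⟩
    by_contra hvQ
    set Q' := Q ⊔ zpowers v
    have hQ' : Q' ≤ P := sup_le hQP (zpowers_le.mpr hv)
    have hQ'A : Q' ⊓ A₀ = ⊥ := eq_bot_iff.mpr <| by
      rintro x ⟨hx, hxA⟩
      replace hx : x ∈ ((Q ⊔ zpowers v : Subgroup G) : Set G) := hx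
      rw [coe_mul_of_right_le_normalizer_left Q (zpowers v)
        (hcomm _ (zpowers_le.mpr hv) _ hQP), Set.mem_mul] at hx
      obtain ⟨q, hq, w, hw, rfl⟩ := hx
      have hwQ : w ∈ Q := by
        obtain ⟨i, rfl⟩ := (mem_powers_iff_mem_zpowers (x := v)).mpr hw
        show v ^ i ∈ Q
        have hvp : v ^ p ∈ Q := hUQ ⟨_, ⟨⟨v, hv⟩, rfl⟩, rfl⟩
        by_cases hi : p ∣ i
        · obtain ⟨l, rfl⟩ := hi
          rw [pow_mul]
          exact pow_mem hvp l
        · exfalso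
          obtain ⟨n, hn⟩ := IsPGroup.iff_orderOf.mp hP.2.1 ⟨v, hv⟩
          rw [Subgroup.orderOf_mk] at hn
          obtain ⟨l, hl⟩ := exists_pow_eq_self_of_coprime (x := v) (n := i)
            (by rw [hn]; exact (Nat.Coprime.pow_left n (hp.out.coprime_iff_not_dvd.mpr hi)).symm)
          refine hvQ (hl ▸ pow_mem ?_ l)
          rw [← inv_mul_cancel_left q (v ^ i)]
          exact mul_mem (mem_sup_right (inv_mem hq)) (mem_sup_left hxA)
      have h1 : q * w ∈ Q ⊓ A₀ := Subgroup.mem_inf.mpr ⟨Q.mul_mem hq hwQ, hxA⟩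
      rwa [hQA] at h1
    exact hvQ (mem_sup_right
      (hQmax (y := Q') ⟨hUQ.trans le_sup_left, hQ', hQ'A⟩ le_sup_left (mem_sup_right (mem_zpowers v))))
  -- a complement to `A₀` in `E`
  have : (A₀.subgroupOf E).Normal := normal_subgroupOf_of_le_normalizer hA₀n
  have hcK : Nat.card (A₀.subgroupOf E) = p :=
    (Nat.card_congr (subgroupOfEquivOfLe hA₀E).toEquiv).trans hA₀c
  have hidx : ¬ p ∣ (P.subgroupOf E).index := by
    have hPE' := isSylowOf_mono hP hPE hE.1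
    obtain ⟨T, hT⟩ := exists_sylow_eq hPE'
    rw [← hT, subgroupOf, comap_map_eq_self_of_injective E.subtype_injective]
    exact T.not_dvd_index
  obtain ⟨H₀, hH₀⟩ := H24.Gaschuetz.exists_complement
    (S := (⟨inferInstance, ⟨⟨fun a b => Subtype.ext (Subtype.ext
        (elemAb_commute hAe (hA₀A a.2) (hA₀A b.2)))⟩⟩,
      fun x hx => hQ.le (mem_sup_left hx), fun x hx => hQP hx,
      eq_bot_iff.mpr fun x hx => mem_bot.mpr (Subtype.ext (mem_bot.mp
        (hQA.le (Subgroup.mem_inf.mpr ⟨hx.1, hx.2⟩)))),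
      by rw [← subgroupOf_sup hA₀E (hQP.trans hPE), hQ]⟩ :
      H24.Gaschuetz.Setup (A₀.subgroupOf E) (P.subgroupOf E) (Q.subgroupOf E)))
    (by rw [hcK]; exact hp.out.coprime_iff_not_dvd.mpr hidx)
  set E₀ := H₀.map E.subtype
  have hE₀ : E₀ ≤ E := map_subtype_le _
  have hdisj : A₀ ⊓ E₀ = ⊥ := eq_bot_iff.mpr <| by
    rintro _ ⟨hx, w, hw, rfl⟩
    have h : w ∈ A₀.subgroupOf E ⊓ H₀ := ⟨hx, hw⟩
    rw [hH₀.disjoint.eq_bot, mem_bot] at h
    simp [h]
  have hdec : ∀ u ∈ E, ∃ a ∈ A₀, ∃ v ∈ E₀, u = a * v := fun u hu => by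
    obtain ⟨⟨a, v⟩, hav, -⟩ := isComplement_iff_existsUnique.mp hH₀ ⟨u, hu⟩
    exact ⟨(a : E), a.2, (v : E), ⟨_, v.2, rfl⟩, (congrArg Subtype.val hav).symm⟩
  refine regular_of_mem hA₀E hA₀n hA₀comm hkey hE₀ ?_ fun e he he1 hm => ?_
  · refine exponent_eq_of_prime_powers hE₀ fun r hr u hu hru => ?_
    have : Fact r.Prime := ⟨hr⟩
    by_cases hrp : r = p
    · subst hrp
      obtain ⟨a, ha, v, hv, huv⟩ := hdec u hu
      have hpow : ∀ n : ℕ, ∃ a' ∈ A₀, u ^ n = a' * v ^ n := by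
        intro n
        induction n with
        | zero => exact ⟨1, one_mem _, by simp⟩
        | succ n ih =>
          obtain ⟨a', ha', h⟩ := ih
          refine ⟨a' * (v ^ n * a * (v ^ n)⁻¹), mul_mem ha'
            ((mem_normalizer_iff.mp (hA₀n (pow_mem (hE₀ hv) n)) a).mp ha), ?_⟩
          rw [pow_succ, h, huv, pow_succ v n]
          group
      obtain ⟨i, hi⟩ := IsPGroup.iff_card.mp hru
      rw [Nat.card_zpowers] at hi
      have hvi : v ^ r ^ i = 1 := by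
        obtain ⟨a', ha', h⟩ := hpow (r ^ i)
        rw [← hi, pow_orderOf_eq_one] at h
        have h' : v ^ r ^ i ∈ A₀ ⊓ E₀ := Subgroup.mem_inf.mpr
          ⟨by rw [← hi, ← inv_eq_of_mul_eq_one_right h.symm]; exact inv_mem ha', pow_mem hv _⟩
        rwa [hdisj, mem_bot] at h'
      obtain ⟨j, -, hj⟩ := (Nat.dvd_prime_pow hp.out).mp (orderOf_dvd_of_pow_eq_one hvi)
      rcases j with _ | j
      · -- `u` is in `A₀`
        rw [pow_zero, orderOf_eq_one_iff] at hj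
        rw [hj, mul_one] at huv
        obtain ⟨B, hB, hBc⟩ : ∃ b ∈ E₀, orderOf b = r := by
          have hd : r ∣ Nat.card E₀ := by
            rw [card_map_of_injective E.subtype_injective]
            have h2 : r ^ 2 ∣ Nat.card E := hA2 ▸ card_dvd_of_le hAE
            have h3 := hH₀.card_mul_card
            rw [hcK] at h3
            rw [← h3, pow_two] at h2
            exact Nat.dvd_of_mul_dvd_mul_left hp.out.pos h2
          obtain ⟨b, hb⟩ := exists_prime_orderOf_dvd_card' r hd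
          exact ⟨b, b.2, (Subgroup.orderOf_coe b).trans hb⟩
        refine ⟨B, hB, ?_⟩
        rw [hBc, huv]
        exact hA₀c ▸ A₀.orderOf_dvd_natCard ha
      · refine ⟨v, hv, ?_⟩
        rw [hj]
        by_contra hnd
        obtain ⟨a', ha', h⟩ := hpow (r ^ (j + 1))
        rw [← hj, pow_orderOf_eq_one, mul_one, hj] at h
        obtain ⟨P', hP', hle⟩ := exists_sylowOf_ge' (hru.to_sup_of_normal_right' (elemAb_isPGroup hAe)
          (zpowers_le.mpr (hEA hu))) (sup_le (zpowers_le.mpr (hE.1 hu)) hAM)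
        have hy := hroot P' hP' (le_sup_right.trans hle) (u ^ r ^ j)
          (pow_mem (hle (mem_sup_left (mem_zpowers u))) _) (by rw [← pow_mul, ← pow_succ, h]; exact ha')
        rw [← pow_mul, ← pow_succ] at hy
        exact hnd (orderOf_dvd_of_pow_eq_one hy)
    · obtain ⟨R, hR⟩ := exists_sylowOf r E₀
      have hRE : IsSylowOf r R E := by
        refine isSylowOf_of_le_sup hR hA₀E hE₀ (hE₀.trans hA₀n) (fun x hx => ?_) fun hd => hrp ?_
        · obtain ⟨a, ha, v, hv, rfl⟩ := hdec x hx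
          exact mul_mem (mem_sup_left ha) (mem_sup_right hv)
        · rw [hA₀c] at hd
          exact (Nat.prime_dvd_prime_iff_eq hr hp.out).mp hd
      obtain ⟨m, -, hle⟩ := exists_conj_le hRE hru (zpowers_le.mpr hu)
      refine ⟨m * u * m⁻¹, hR.1 (hle (conj_mem_cj m (mem_zpowers u))), ?_⟩
      exact ((MulAut.conj m).orderOf_eq u).symm.dvd
  · have h1 : e ∈ A₀ ⊓ E₀ := ⟨hm, he⟩
    rw [hdisj, mem_bot] at h1
    exact absurd h1 he1

/-- The cyclic subgroup to use for a prime in `τ₂`. -/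
theorem exists_regular_cyclic (hM : IsCoatom M) (hE : Cfsg.IsComplIn E (Cfsg.sigmaCore M) M)
    (h13 : RegularTauOneThree M E)
    (hab : ∀ q : ℕ, q ∈ Cfsg.tau2 M → ∀ S : Sylow q G, IsMulCommutative (S : Subgroup G))
    {p : ℕ} [hp : Fact p.Prime] (hp2 : p ∈ Cfsg.tau2 M) {A P H : Subgroup G}
    (hA : A ≤ E ∧ Cfsg.IsElementaryAbelian p A ∧ Nat.card A = p ^ 2) (hP : IsSylowOf p P M)
    (hAP : A ≤ P) (hPE : P ≤ E) (hHE : H ≤ E) (hH : ¬ p ∣ Nat.card H) :
    ∃ y ∈ P, H ≤ normalizer (zpowers y : Set G) ∧ (∀ v ∈ P, orderOf v ∣ orderOf y) ∧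
      ∀ u ∈ zpowers y, orderOf u = p → Cfsg.sigmaCore M ⊓ centralizer ({u} : Set G) = ⊥ := by
  have hs := hp2.2.1
  have hAM := hA.1.trans hE.1
  obtain ⟨hAE, hAe, hA2⟩ := hA
  obtain ⟨A₀, EX⟩ := S10.exists_exc hM hs hAM hAe hA2
  have hPc : IsMulCommutative P := ⟨⟨fun a b => Subtype.ext (EX.commute_sylow S10 hP hAP _ a.2 _ b.2)⟩⟩
  obtain ⟨-, hEP⟩ := S10.sylow_normal_of_abelian hM hE hp2 (hab p hp2) ⟨hAE, hAe, hA2⟩ hP hAP hPE
  classical
  have hex : ∃ j, ∀ v ∈ P, v ^ p ^ j = 1 := by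
    obtain ⟨n, hn⟩ := IsPGroup.iff_card.mp hP.2.1
    exact ⟨n, fun v hv => orderOf_dvd_iff_pow_eq_one.mp (hn ▸ P.orderOf_dvd_natCard hv)⟩
  obtain ⟨m, hm⟩ := Nat.exists_eq_succ_of_ne_zero (n := Nat.find hex) fun h0 => by
    have h := Nat.find_spec hex
    rw [h0] at h
    refine ne_bot_of_card (hA2 ▸ Nat.one_lt_pow two_ne_zero hp.out.one_lt)
      (eq_bot_iff.mpr fun a ha => mem_bot.mpr ?_)
    simpa using h a (hAP ha)
  have hexp : ∀ v ∈ P, v ^ p ^ (m + 1) = 1 := by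
    have h := Nat.find_spec hex
    rw [hm] at h
    exact h
  have hmin := Nat.find_min hex (show m < Nat.find hex by omega)
  push Not at hmin
  obtain ⟨v₀, hv₀, hv₀m⟩ := hmin
  set W := (powMonoidHom (p ^ m) : P →* P).range.map P.subtype
  have hWmem : ∀ x, x ∈ W ↔ ∃ v ∈ P, v ^ p ^ m = x := fun x =>
    ⟨by rintro ⟨_, ⟨v, rfl⟩, rfl⟩; exact ⟨v, v.2, rfl⟩,
      by rintro ⟨v, hv, rfl⟩; exact ⟨_, ⟨⟨v, hv⟩, rfl⟩, rfl⟩⟩
  have hWA : W ≤ A := fun x hx => by
    obtain ⟨v, hv, rfl⟩ := (hWmem x).mp hx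
    exact (EX.pow_eq_one_iff S10 hP hAP (pow_mem hv _)).mp (by rw [← pow_mul, ← pow_succ, hexp v hv])
  obtain ⟨X, hXW, hXc, hHX, hfix⟩ : ∃ X ≤ W, Nat.card X = p ∧ H ≤ normalizer (X : Set G) ∧
      Cfsg.sigmaCore M ⊓ centralizer (X : Set G) = ⊥ := by
    obtain ⟨j, hj, hjc⟩ := (Nat.dvd_prime_pow hp.out).mp (hA2 ▸ card_dvd_of_le hWA)
    rcases j with _ | _ | j
    · refine absurd ?_ hv₀m
      rw [pow_zero] at hjc
      rw [← mem_bot, ← eq_bot_of_card_eq W hjc]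
      exact (hWmem _).mpr ⟨v₀, hv₀, rfl⟩
    · have hWc : Nat.card W = p := by rw [hjc, zero_add, pow_one]
      have hn : normalizer (P : Set G) ≤ normalizer (W : Set G) := fun n hn => by
        refine cj_eq_iff.mp (eq_of_le_of_card_ge ?_ (card_cj n W).ge)
        rintro _ ⟨x, hx, rfl⟩
        obtain ⟨v, hv, rfl⟩ := (hWmem x).mp hx
        exact (hWmem _).mpr ⟨n * v * n⁻¹, (mem_normalizer_iff.mp hn v).mp hv,
          (map_pow (MulAut.conj n).toMonoidHom v _).symm⟩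
      exact ⟨W, le_rfl, hWc, (hHE.trans hEP).trans hn,
        S10.fpf_of_invariant hM hE hp2 ⟨hAE, hAe, hA2⟩ hWA hWc
          (not_normalizer_le hs (dvd_of_elemAb hA2 hAM) hP) hn⟩
    · obtain ⟨X, hX, hXc, hEX, hfix⟩ := S10.exists_fpf_line hM hE h13 hp2 hab ⟨hAE, hAe, hA2⟩
      refine ⟨X, hX.trans (eq_of_le_of_card_ge hWA ?_).ge, hXc, hHE.trans hEX, hfix⟩
      rw [hjc, hA2, show j = 0 by omega]
  obtain ⟨⟨x, hx⟩, hx1'⟩ := ne_bot_iff_exists_ne_one.mp (ne_bot_of_card (hXc ▸ hp.out.one_lt))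
  have hx1 : x ≠ 1 := fun h => hx1' (Subtype.ext h)
  obtain ⟨x₀, hx₀, rfl⟩ := (hWmem x).mp (hXW hx)
  have hXx : X = zpowers (x₀ ^ p ^ m) := eq_zpowers_of_prime hXc hp.out hx hx1
  obtain ⟨y, hy, hHy, hym, hyX⟩ := exists_eigen_lift (hHE.trans hEP) hexp hH hx₀ hx1 (hXx ▸ hHX)
  have hyo : orderOf y = p ^ (m + 1) :=
    orderOf_eq_prime_pow hym (hexp y hy)
  refine ⟨y, hy, hHy, fun v hv => hyo ▸ orderOf_dvd_of_pow_eq_one (hexp v hv), fun u hu huo => ?_⟩
  have hym' : zpowers (y ^ p ^ m) = X := eq_of_le_of_card_ge (zpowers_le.mpr (hXx ▸ hyX)) (by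
    rw [hXc, Nat.card_zpowers, orderOf_eq_prime (p := p) (by rw [← pow_mul, ← pow_succ, hexp y hy]) hym])
  have huX : zpowers u = X := by
    refine H41.eq_of_card_eq_of_le_cyclic (C := zpowers y) inferInstance (zpowers_le.mpr hu) ?_ ?_
    · exact hym' ▸ zpowers_le.mpr (pow_mem (mem_zpowers y) _)
    · rw [Nat.card_zpowers, huo, hXc]
  rw [← centralizer_zpow_eq, huX]
  exact hfix

/-- BG 12.12 when the Sylow subgroups of `G` for the primes in `τ₂(M)` are abelian. -/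
theorem regular_of_abelian (hM : IsCoatom M) (hE : Cfsg.IsComplIn E (Cfsg.sigmaCore M) M)
    (h13 : RegularTauOneThree M E)
    (hab : ∀ q : ℕ, q ∈ Cfsg.tau2 M → ∀ S : Sylow q G, IsMulCommutative (S : Subgroup G)) :
    RegularConclusion M E := by
  classical
  let T := {q : ℕ // q ∈ Cfsg.tau2 M}
  have hT : ∀ q : T, Fact q.1.Prime := fun q => ⟨q.2.1⟩
  choose A P hA hP hAP hPE using fun q : T => @exists_plane_sylow G _ _ M E q.1 (hT q) hE q.2
  have hEP : ∀ q : T, E ≤ normalizer (P q : Set G) := fun q =>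
    (@sylow_normal_of_abelian G _ _ q.1 (hT q) S10 M E hM hE q.2 (hab q.1 q.2) (A q) (P q)
      (hA q) (hP q) (hAP q) (hPE q)).2
  have hmem : ∀ (q : T) (U : Subgroup G), IsPGroup q.1 U → U ≤ E → U ≤ P q := fun q U hU hUE => by
    have := hT q
    obtain ⟨m, hm, hle⟩ := exists_conj_le (isSylowOf_mono (hP q) (hPE q) hE.1) hU hUE
    have h := cj_mono m⁻¹ hle
    rwa [cj_inv_cj, cj_eq_iff.mpr (hEP q (inv_mem hm))] at h
  have hPcomm : ∀ q q' : T, P q ≤ centralizer (P q' : Set G) := fun q q' v hv => by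
    have := hT q
    have := hT q'
    refine mem_centralizer_iff.mpr fun w hw => ?_
    rcases eq_or_ne q q' with rfl | hne
    · exact S10.commute_of_not_sigma hM q.2.2.1 (hP q).2.1 (hP q).1 w hw v hv
    have hd : ¬ q.1 ∣ Nat.card (P q') := fun hd => by
      obtain ⟨k, hk⟩ := IsPGroup.iff_card.mp (hP q').2.1
      rw [hk] at hd
      exact hne (Subtype.ext (Nat.prime_eq_prime_of_dvd_pow q.2.1 q'.2.1 hd))
    have h1 : w * v * w⁻¹ * v⁻¹ ∈ P q ⊓ P q' := Subgroup.mem_inf.mpr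
      ⟨(P q).mul_mem ((mem_normalizer_iff.mp (hEP q (hPE q' hw)) v).mp hv) ((P q).inv_mem hv), by
      rw [mul_assoc w, mul_assoc w]
      exact (P q').mul_mem hw ((mem_normalizer_iff.mp (hEP q' (hPE q hv)) w⁻¹).mp ((P q').inv_mem hw))⟩
    rw [Coprime.inf_eq_bot (coprime_card_of_isPGroup (hP q).2.1 hd), mem_bot, mul_inv_eq_one,
      mul_inv_eq_iff_eq_mul] at h1
    exact h1
  set A₀ := ⨆ q : T, P q with hA₀
  have hA₀E : A₀ ≤ E := iSup_le hPE
  have hA₀n : E ≤ normalizer (A₀ : Set G) := fun e he => cj_eq_iff.mp <| by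
    show (⨆ q : T, P q).map (MulAut.conj e).toMonoidHom = _
    rw [Subgroup.map_iSup]
    exact iSup_congr fun q => cj_eq_iff.mpr (hEP q he)
  have hA₀c : A₀ ≤ centralizer (A₀ : Set G) :=
    iSup_le fun q => le_centralizer_iff.mp (iSup_le fun q' => hPcomm q' q)
  have hA₀comm : IsMulCommutative A₀ :=
    ⟨⟨fun a b => Subtype.ext (mem_centralizer_iff.mp (hA₀c b.2) a a.2)⟩⟩
  have hπ : ∀ v ∈ A₀, ∀ r : ℕ, r.Prime → r ∣ orderOf v → r ∈ Cfsg.tau2 M := fun v hv => by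
    suffices v ∈ A₀ ∧ ∀ r : ℕ, r.Prime → r ∣ orderOf v → r ∈ Cfsg.tau2 M from this.2
    refine Subgroup.iSup_induction P (C := fun v => v ∈ A₀ ∧
      ∀ r : ℕ, r.Prime → r ∣ orderOf v → r ∈ Cfsg.tau2 M) (hA₀ ▸ hv) (fun q v hv => ?_) ?_ ?_
    · refine ⟨le_iSup P q hv, fun r hr hd => ?_⟩
      obtain ⟨k, hk⟩ := IsPGroup.iff_card.mp (hP q).2.1
      rw [Nat.prime_eq_prime_of_dvd_pow hr q.2.1 (hd.trans (hk ▸ (P q).orderOf_dvd_natCard hv))]
      exact q.2
    · exact ⟨one_mem _, fun r hr hd => absurd (orderOf_one (G := G) ▸ hd) hr.not_dvd_one⟩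
    · rintro a b ⟨ha, ha'⟩ ⟨hb, hb'⟩
      refine ⟨mul_mem ha hb, fun r hr hd => ?_⟩
      have h := hd.trans ((Commute.orderOf_mul_dvd_lcm
        (mem_centralizer_iff.mp (hA₀c hb) a ha : Commute a b)).trans (Nat.lcm_dvd_mul _ _))
      exact (hr.dvd_mul.mp h).elim (ha' r hr) (hb' r hr)
  have hkey : ∀ e ∈ E, e ≠ 1 → Cfsg.sigmaCore M ⊓ centralizer ({e} : Set G) ≠ ⊥ → e ∈ A₀ := by
    intro e he _ hne
    refine zpowers_le.mp (Coprime.le_of_exists_sylow_le fun r hr => ?_)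
    have : Fact r.Prime := ⟨hr⟩
    obtain ⟨R⟩ : Nonempty (Sylow r (zpowers e)) := inferInstance
    refine ⟨R, ?_⟩
    by_cases hd : r ∣ orderOf e
    · have h2 := S10.tauTwo_of_fixed hM hE h13 he hne hr hd
      exact (hmem ⟨r, h2⟩ _ (R.isPGroup'.map _)
        ((map_subtype_le _).trans (zpowers_le.mpr he))).trans (le_iSup P ⟨r, h2⟩)
    · have h1 : Nat.card ((R : Subgroup (zpowers e)).map (zpowers e).subtype) = 1 := by
        rw [card_map_of_injective (zpowers e).subtype_injective, R.card_eq_multiplicity,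
          Nat.card_zpowers, Nat.factorization_eq_zero_of_not_dvd hd, pow_zero]
      rw [eq_bot_of_card_eq _ h1]
      exact bot_le
  -- the Hall subgroup for the other primes
  have : Group.IsSolvable E := isSolvable_of_le_max S10.minSimple hM hE.1
  obtain ⟨H₀, hH₀⟩ := (Hall.hallDom_of_isSolvable {r | r.Prime ∧ r ∉ Cfsg.tau2 M} E).1
  set H := H₀.map E.subtype
  have hHE : H ≤ E := map_subtype_le _
  have hHp : ∀ r : ℕ, r.Prime → r ∣ Nat.card H → r ∉ Cfsg.tau2 M := fun r hr hd =>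
    (hH₀.1 r hr (hd.trans (dvd_of_eq (card_map_of_injective E.subtype_injective)))).2
  have hHsyl : ∀ (r : ℕ) [Fact r.Prime], r ∉ Cfsg.tau2 M → ∀ R, IsSylowOf r R H →
      IsSylowOf r R E := fun r hr hr2 R hR => by
    have hidx : ¬ r ∣ H.relIndex E := by
      rw [relIndex, subgroupOf, comap_map_eq_self_of_injective E.subtype_injective]
      exact hH₀.2 r hr.out ⟨hr.out, hr2⟩
    have h := relIndex_mul_relIndex ⊥ H E bot_le hHE
    rw [relIndex_bot_left, relIndex_bot_left] at h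
    have hpos : H.relIndex E ≠ 0 := fun e => by
      rw [e, mul_zero] at h
      exact Nat.card_pos.ne' h.symm
    refine ⟨hR.1.trans hHE, hR.2.1, ?_⟩
    rw [hR.2.2, ← h, Nat.factorization_mul Nat.card_pos.ne' hpos, Finsupp.add_apply,
      Nat.factorization_eq_zero_of_not_dvd hidx, add_zero]
  choose y hyP hHy hyexp hyfix using fun q : T =>
    @exists_regular_cyclic G _ _ S10 M E hM hE h13 hab q.1 (hT q) q.2 (A q) (P q) H (hA q) (hP q)
      (hAP q) (hPE q) hHE (fun hd => hHp q.1 q.2.1 hd q.2)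
  set Z := ⨆ q : T, zpowers (y q) with hZ
  have hZA : Z ≤ A₀ := iSup_mono fun q => zpowers_le.mpr (hyP q)
  have hHZ : H ≤ normalizer (Z : Set G) := fun h hh => cj_eq_iff.mp <| by
    show (⨆ q : T, zpowers (y q)).map (MulAut.conj h).toMonoidHom = _
    rw [Subgroup.map_iSup]
    exact iSup_congr fun q => cj_eq_iff.mpr (hHy q hh)
  refine regular_of_mem hA₀E hA₀n hA₀comm hkey (E₀ := Z ⊔ H) (sup_le (hZA.trans hA₀E) hHE) ?_ ?_
  · refine exponent_eq_of_prime_powers (sup_le (hZA.trans hA₀E) hHE) fun r hr u hu hru => ?_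
    have : Fact r.Prime := ⟨hr⟩
    by_cases h2 : r ∈ Cfsg.tau2 M
    · exact ⟨y ⟨r, h2⟩, mem_sup_left (le_iSup (fun q : T => zpowers (y q)) ⟨r, h2⟩ (mem_zpowers _)),
        hyexp ⟨r, h2⟩ u (hmem ⟨r, h2⟩ _ hru (zpowers_le.mpr hu) (mem_zpowers u))⟩
    · obtain ⟨R, hR⟩ := exists_sylowOf r H
      obtain ⟨m, -, hle⟩ := exists_conj_le (hHsyl r h2 R hR) hru (zpowers_le.mpr hu)
      exact ⟨m * u * m⁻¹, mem_sup_right (hR.1 (hle (conj_mem_cj m (mem_zpowers u)))),
        ((MulAut.conj m).orderOf_eq u).symm.dvd⟩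
  · intro e he he1 heA
    rw [← SetLike.mem_coe, coe_mul_of_right_le_normalizer_left Z H hHZ, Set.mem_mul] at he
    obtain ⟨z, hz, h, hh, rfl⟩ := he
    have hh1 : h = 1 := by
      by_contra hne
      obtain ⟨r, hr, hd⟩ := Nat.exists_prime_and_dvd (n := orderOf h)
        fun e => hne (orderOf_eq_one_iff.mp e)
      exact hHp r hr (hd.trans (H.orderOf_dvd_natCard hh))
        (hπ h ((A₀.mul_mem_cancel_left (hZA hz)).mp heA) r hr hd)
    subst hh1
    rw [mul_one] at he1 ⊢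
    obtain ⟨r, hr, hd⟩ := Nat.exists_prime_and_dvd (n := orderOf z)
      fun e => he1 (orderOf_eq_one_iff.mp e)
    let q : T := ⟨r, hπ z (hZA hz) r hr hd⟩
    set u := z ^ (orderOf z / r)
    have huo : orderOf u = r := orderOf_pow_orderOf_div (orderOf_pos z).ne' hd
    -- the `r`-part of `Z` is `⟨y⟩`
    set n := Nat.card A₀ / r ^ (Nat.card A₀).factorization r with hn
    have hrn : r.Coprime n := Nat.coprime_ordCompl hr Nat.card_pos.ne'
    have hu : u ∈ zpowers (y q) := by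
      have hkeyn : ∀ v ∈ Z, v ∈ A₀ ∧ v ^ n ∈ zpowers (y q) := fun v hv => by
        refine Subgroup.iSup_induction (fun q : T => zpowers (y q))
          (C := fun v => v ∈ A₀ ∧ v ^ n ∈ zpowers (y q)) (hZ ▸ hv) (fun q' v hv => ?_) ?_ ?_
        · have hvP : v ∈ P q' := zpowers_le.mpr (hyP q') hv
          refine ⟨le_iSup P q' hvP, ?_⟩
          rcases eq_or_ne q' q with rfl | hne
          · exact pow_mem hv n
          · have hdv : orderOf v ∣ n := by
              obtain ⟨k, hk⟩ := IsPGroup.iff_card.mp (hP q').2.1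
              have hc : (orderOf v).Coprime (r ^ (Nat.card A₀).factorization r) :=
                Nat.Coprime.coprime_dvd_left (hk ▸ (P q').orderOf_dvd_natCard hvP)
                  (Nat.Coprime.pow _ _ ((Nat.coprime_primes q'.2.1 hr).mpr
                    fun e => hne (Subtype.ext e)))
              refine hc.dvd_of_dvd_mul_left ?_
              rw [hn, Nat.ordProj_mul_ordCompl_eq_self]
              exact A₀.orderOf_dvd_natCard (le_iSup P q' hvP)
            rw [orderOf_dvd_iff_pow_eq_one.mp hdv]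
            exact one_mem _
        · exact ⟨one_mem _, by rw [one_pow]; exact one_mem _⟩
        · rintro a b ⟨ha, ha'⟩ ⟨hb, hb'⟩
          refine ⟨mul_mem ha hb, ?_⟩
          rw [(show Commute a b from mem_centralizer_iff.mp (hA₀c hb) a ha).mul_pow]
          exact mul_mem ha' hb'
      obtain ⟨l, hl⟩ := exists_pow_eq_self_of_coprime (x := u) (n := n) (by rw [huo]; exact hrn.symm)
      rw [← hl]
      exact pow_mem (hkeyn u (Z.pow_mem hz _)).2 l
    exact eq_bot_iff.mpr ((inf_le_inf_left _ (centralizer_singleton_pow_le z _)).trans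
      (hyfix q u hu huo).le)

omit S10 in
/-- The Sylow `p`-subgroups are isomorphic to each other. -/
theorem isMulCommutative_sylow {p : ℕ} [Fact p.Prime] {S T : Sylow p G}
    (h : IsMulCommutative (S : Subgroup G)) : IsMulCommutative (T : Subgroup G) := by
  let e := S.equiv T
  exact ⟨⟨fun a b => e.symm.injective (by rw [map_mul, map_mul]; exact h.is_comm.comm _ _)⟩⟩

/-- BG 12.12. -/
theorem regular_structure (hM : IsCoatom M) (hE : Cfsg.IsComplIn E (Cfsg.sigmaCore M) M)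
    (h13 : RegularTauOneThree M E) : RegularConclusion M E := by
  by_cases hab : ∀ q : ℕ, q ∈ Cfsg.tau2 M → ∀ S : Sylow q G, IsMulCommutative (S : Subgroup G)
  · exact S10.regular_of_abelian hM hE h13 hab
  · push Not at hab
    obtain ⟨q, hq, S, hS⟩ := hab
    have : Fact q.Prime := ⟨hq.1⟩
    exact S10.regular_of_nonabelian hM hE h13 hq fun T hT => hS (isMulCommutative_sylow hT)

end Section10

end Cfsg.Agent.OddOrder.BG11
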