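import Cfsg.Agent.OddOrder.BG11.AbelianSylow
import Cfsg.Agent.OddOrder.BG11.EigenLift
import Cfsg.Agent.OddOrder.BG11.FpfNilpotent
import Cfsg.Agent.OddOrder.BG11.Nonabelian
import Cfsg.Agent.Coprime.Generation

/-!
BG 12.12: the line of `A` to start the complement `E₀` with.
-/

set_option autoImplicit false

universe u

namespace Cfsg.Agent.OddOrder.BG11

open Subgroup H40

variable {G : Type u} [Group G] [Finite G] {p : ℕ} [hp : Fact p.Prime]

omit [Finite G] hp in
/-- Two elements congruent modulo `C(A)` conjugate the subgroups of `A` in the same way. -/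
theorem cj_eq_of_mem_centralizer {A X : Subgroup G} {c : G} (hc : c ∈ centralizer (A : Set G))
    (hX : X ≤ A) : cj c X = X :=
  cj_eq_iff.mpr (centralizer_le_normalizer _ (centralizer_le hX hc))

omit [Finite G] hp in
theorem centralizer_zpow_eq (x : G) :
    centralizer (zpowers x : Set G) = centralizer ({x} : Set G) := by
  rw [zpowers_eq_closure, centralizer_closure]

omit hp in
/-- In a group of odd order an involutive action is trivial. -/
theorem mem_of_sq_mem (hodd : Odd (Nat.card G)) {H : Subgroup G} {n : G} (h : n * n ∈ H) : n ∈ H := by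
  obtain ⟨m, hm⟩ := exists_pow_eq_self_of_coprime (x := n) (n := 2)
    (Nat.Coprime.coprime_dvd_right (orderOf_dvd_natCard n)
      ((Nat.prime_two.coprime_iff_not_dvd).mpr fun h2 =>
        (Nat.not_even_iff_odd.mpr hodd) (even_iff_two_dvd.mpr h2)))
  rw [← hm, pow_two]
  exact pow_mem h m

namespace Section10

variable (S10 : Section10 G) {M E : Subgroup G}
include S10

/-- A line normalised by elements outside `M` has no fixed point on `M_σ`. -/
theorem fpf_of_invariant (hM : IsCoatom M) (hE : Cfsg.IsComplIn E (Cfsg.sigmaCore M) M)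
    (hp2 : p ∈ Cfsg.tau2 M) {A : Subgroup G}
    (hA : A ≤ E ∧ Cfsg.IsElementaryAbelian p A ∧ Nat.card A = p ^ 2) {X N : Subgroup G}
    (hX : X ≤ A) (hXc : Nat.card X = p) (hN : ¬ N ≤ M) (hNX : N ≤ normalizer (X : Set G)) :
    Cfsg.sigmaCore M ⊓ centralizer (X : Set G) = ⊥ := by
  by_contra hne
  obtain ⟨h1, h2⟩ := (S10.compl_structure hM hE hp2 hA).2.2 X hX hXc hne
  refine hN fun n hn => mem_of_cj_eq S10.minSimple hM (h2 _ (coatom_cj hM n) ?_)
  have h := cj_mono n h1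
  rwa [cj_centralizer, cj_eq_iff.mpr (hNX hn)] at h

/-- `N(A)` acts on `A` as an abelian group when the Sylow subgroups are abelian. -/
theorem derived_normalizer_le_centralizer (hM : IsCoatom M) (hp2 : p ∈ Cfsg.tau2 M)
    (hab : ∀ S : Sylow p G, IsMulCommutative (S : Subgroup G)) {A : Subgroup G} (hAM : A ≤ M)
    (hA : Cfsg.IsElementaryAbelian p A) (hA2 : Nat.card A = p ^ 2) :
    ⁅normalizer (A : Set G), normalizer (A : Set G)⁆ ≤ centralizer (A : Set G) := by
  have hG := S10.minSimple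
  set N := normalizer (A : Set G)
  set C := centralizer (A : Set G)
  obtain ⟨S, hS⟩ := (elemAb_isPGroup hA).exists_le_sylow
  have hSC : (S : Subgroup G) ≤ C := fun x hx => mem_centralizer_iff.mpr fun a ha =>
    congrArg Subtype.val ((hab S).is_comm.comm (⟨a, hS ha⟩ : (S : Subgroup G)) ⟨x, hx⟩)
  have hCN : C ≤ N := centralizer_le_normalizer _
  have hsol : Group.IsSolvable N := hG.2.2.2 N (normalizer_ne_top' hG
    (ne_bot_of_card (hA2 ▸ Nat.one_lt_pow two_ne_zero hp.out.one_lt)) (ne_top_of_le_coatom hM hAM))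
  intro t ht
  obtain ⟨k, hk⟩ := BG4.exists_pow_mem_centralizer_of_rank_two
    (ne_two_of_mem_card hG (dvd_of_elemAb hA2 le_rfl)) (elemAb_isPGroup hA)
    (pRankLE_of_le hAM (S10.pRankLE_two hM hp2.2.1)) le_rfl hsol (odd_card hG N) ht
  have htN : t ∈ N := derived_le N ht
  have : (C.subgroupOf N).Normal := normal_subgroupOf_of_le_normalizer fun n hn =>
    cj_eq_iff.mp (by rw [cj_centralizer, cj_eq_iff.mpr hn])
  set q : N ⧸ C.subgroupOf N := QuotientGroup.mk ⟨t, htN⟩ with hq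
  have h1 : q ^ p ^ k = 1 := by
    rw [hq, ← QuotientGroup.mk_pow, QuotientGroup.eq_one_iff, mem_subgroupOf]
    exact hk
  have h2 : ¬ p ∣ Nat.card (N ⧸ C.subgroupOf N) := fun h =>
    S.not_dvd_index ((h.trans (relIndex_dvd_index_of_le hCN)).trans (index_dvd_of_le hSC))
  have h3 : orderOf q = 1 := Nat.eq_one_of_dvd_coprimes
    (Nat.Coprime.pow_left k (hp.out.coprime_iff_not_dvd.mpr h2))
    (orderOf_dvd_of_pow_eq_one h1) (orderOf_dvd_natCard q)
  rw [orderOf_eq_one_iff, hq, QuotientGroup.eq_one_iff, mem_subgroupOf] at h3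
  exact h3

/-- A prime outside `σ(M₁)` with the normaliser of a subgroup of that order inside `M₁` has rank
at least two in `M₁`. -/
theorem not_pRankLE_one_of_normalizer_le {r : ℕ} [hr : Fact r.Prime] (hM : IsCoatom M)
    (hs : r ∉ Cfsg.sigma M) {X : Subgroup G} (hXc : Nat.card X = r) (hXM : X ≤ M)
    (hN : normalizer (X : Set G) ≤ M) : ¬ Cfsg.PRankLE r 1 M := by
  intro h1
  obtain ⟨R, hR, hXR⟩ := exists_sylowOf_ge'
    (IsPGroup.of_card (n := 1) (by rw [hXc, pow_one]) : IsPGroup r X) hXM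
  have hrd : r ∣ Nat.card M := hXc ▸ card_dvd_of_le hXM
  have hcyc := isCyclic_of_pRankLE_one
    (ne_two_of_mem_card S10.minSimple (dvd_of_eq hXc.symm)) hR.2.1 (pRankLE_of_le hR.1 h1)
  refine hs (mem_sigma_of_normalizer_le hrd hR (le_trans ?_ hN))
  intro n hn
  refine cj_eq_iff.mp ?_
  exact H41.eq_of_card_eq_of_le_cyclic hcyc ((cj_mono n hXR).trans (cj_eq_iff.mpr hn).le) hXR
    (card_cj n X)

/-- An element of `E` of prime power order fixes a line of `A`, as the primes of `τ₁ ∪ τ₃` act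
without fixed points. -/
theorem exists_fixed_line (hM : IsCoatom M) (hE : Cfsg.IsComplIn E (Cfsg.sigmaCore M) M)
    (h13 : ∀ e ∈ E, e ≠ 1 →
      (∀ q : ℕ, q.Prime → q ∣ orderOf e → q ∈ Cfsg.tau1 M ∪ Cfsg.tau3 M) →
      Cfsg.sigmaCore M ⊓ centralizer ({e} : Set G) = ⊥)
    (hp2 : p ∈ Cfsg.tau2 M)
    (hab : ∀ q : ℕ, q ∈ Cfsg.tau2 M → ∀ S : Sylow q G, IsMulCommutative (S : Subgroup G))
    {A : Subgroup G} (hA : A ≤ E ∧ Cfsg.IsElementaryAbelian p A ∧ Nat.card A = p ^ 2)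
    {r : ℕ} [hr : Fact r.Prime] {e : G} (he : e ∈ E) (her : IsPGroup r (zpowers e)) :
    ∃ X ≤ A, Nat.card X = p ∧ e ∈ normalizer (X : Set G) := by
  have hG := S10.minSimple
  obtain ⟨hAE, hAe, hA2⟩ := hA
  have hAM := hAE.trans hE.1
  have hs := hp2.2.1
  have hAp := elemAb_isPGroup hAe
  set C := centralizer (A : Set G)
  obtain ⟨hEA, -⟩ := S10.compl_le_normalizer hM hE hs hAE hAe hA2
  by_contra hno
  push Not at hno
  have heC : e ∉ C := fun h => by
    obtain ⟨X, hX, hXc⟩ := exists_line hA2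
    exact hno X hX hXc (centralizer_le_normalizer _ (Subgroup.centralizer_le hX h))
  -- a subgroup of `A` fixed by `e` is trivial or everything
  have hirr : ∀ X ≤ A, e ∈ normalizer (X : Set G) → X ≠ ⊥ → X = A := fun X hX hn hX0 => by
    obtain ⟨j, hj, hjc⟩ := (Nat.dvd_prime_pow hp.out).mp (hA2 ▸ card_dvd_of_le hX)
    rcases j with _ | _ | j
    · exact absurd (eq_bot_of_card_eq X (by rw [hjc, pow_zero])) hX0
    · exact absurd hn (hno X hX (by rw [hjc, zero_add, pow_one]))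
    · have : j = 0 := by omega
      subst this
      exact eq_of_le_of_card_ge hX (by rw [hjc, hA2])
  -- an element commuting with `e` and fixing a point is trivial on `A`
  have hsemi : ∀ t ∈ normalizer (A : Set G), Commute t e → ∀ v ∈ A, t * v * t⁻¹ = v → v ≠ 1 →
      t ∈ C := by
    intro t ht hte v hv hfix hv1
    set D := A ⊓ centralizer ({t} : Set G)
    have hD0 : D ≠ ⊥ := fun h => hv1 (by
      have hvD : v ∈ D := ⟨hv, mem_centralizer_singleton_iff.mpr (by
        rw [mul_inv_eq_iff_eq_mul] at hfix; exact hfix.symm)⟩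
      rwa [h, mem_bot] at hvD)
    have hDe : e ∈ normalizer (D : Set G) := by
      refine cj_eq_iff.mp ?_
      rw [cj_inf, cj_eq_iff.mpr (hEA he), ← centralizer_zpow_eq, cj_centralizer]
      rw [show cj e (zpowers t) = zpowers t from by
        show (zpowers t).map (MulAut.conj e).toMonoidHom = _
        rw [MonoidHom.map_zpowers]
        congr 1
        show e * t * e⁻¹ = t
        rw [← hte.eq, mul_inv_cancel_right], centralizer_zpow_eq]
    exact mem_centralizer_iff.mpr fun a ha => mem_centralizer_singleton_iff.mp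
      ((hirr D inf_le_left hDe hD0).ge ha).2
  have he1 : e ≠ 1 := fun h => heC (h ▸ one_mem _)
  have hrd : r ∣ orderOf e := by
    obtain ⟨k, hk⟩ := IsPGroup.iff_card.mp her
    rw [Nat.card_zpowers] at hk
    rcases k with _ | k
    · exact absurd (orderOf_eq_one_iff.mp (by rwa [pow_zero] at hk)) he1
    · exact hk ▸ dvd_pow_self r k.succ_ne_zero
  have hrE : r ∣ Nat.card E := hrd.trans (E.orderOf_dvd_natCard he)
  have hrs : r ∉ Cfsg.sigma M := not_mem_sigma_of_dvd_compl (S10.sigmaCore_hall M hM).1 hE hr.out hrE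
  -- `r` is not in `τ₂(M)`
  have hr2 : r ∉ Cfsg.tau2 M := fun hr2 => heC <| by
    obtain ⟨B₁, hB₁M, hB₁, hB₁2⟩ := exists_elemAb_sq hr2.2.2.2
    obtain ⟨T, hT, heT⟩ := exists_sylowOf_ge' her (zpowers_le.mpr he)
    have hTM : IsSylowOf r T M := by
      refine isSylowOf_of_le_sup hT (sigmaCore_le M) hE.1 (hE.1.trans (le_normalizer_sigmaCore M)) ?_
        fun hd => hrs (sigmaCore_isPiNumber M r hr.out hd)
      intro x hx
      obtain ⟨a, ha, b, hb, rfl⟩ := hE.2.2.2 x hx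
      exact mul_mem (mem_sup_right ha) (mem_sup_left hb)
    obtain ⟨m, -, hle⟩ := exists_conj_le hTM (elemAb_isPGroup hB₁) hB₁M
    obtain ⟨⟨S, hST⟩, hET⟩ := S10.sylow_normal_of_abelian hM hE hr2 (hab r hr2)
      (A := cj m B₁) ⟨hle.trans hT.1, elemAb_cj hB₁ m, (card_cj m B₁).trans hB₁2⟩ hTM hle hT.1
    have hrp : r ≠ p := by
      intro hrp
      subst hrp
      obtain ⟨m', hm', hle'⟩ := exists_conj_le hT hAp hAE
      have hAT : A ≤ T := by
        have := cj_mono m'⁻¹ hle'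
        rwa [cj_inv_cj, cj_eq_iff.mpr (inv_mem (hET hm'))] at this
      exact heC (mem_centralizer_iff.mpr fun a ha =>
        S10.commute_of_not_sigma hM hrs hTM.2.1 hTM.1 a (hAT ha) e (heT (mem_zpowers e)))
    refine mem_centralizer_iff.mpr fun a ha => ?_
    have h1 : a * e * a⁻¹ * e⁻¹ ∈ T ⊓ A := Subgroup.mem_inf.mpr
      ⟨T.mul_mem ((mem_normalizer_iff.mp (hET (hAE ha)) e).mp (heT (mem_zpowers e)))
        (T.inv_mem (heT (mem_zpowers e))), by
      rw [mul_assoc a, mul_assoc a]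
      exact A.mul_mem ha ((mem_normalizer_iff.mp (hEA he) a⁻¹).mp (A.inv_mem ha))⟩
    rw [Coprime.inf_eq_bot (coprime_card_of_isPGroup hTM.2.1 fun hd =>
      hrp (Nat.prime_eq_prime_of_dvd_pow hr.out hp.out (hA2 ▸ hd))), mem_bot,
      mul_inv_eq_one, mul_inv_eq_iff_eq_mul] at h1
    exact h1
  have hrp : r ≠ p := fun h => hr2 (h ▸ hp2)
  have hr13 : r ∈ Cfsg.tau1 M ∪ Cfsg.tau3 M := by
    rcases OddOrder.tau_cases (S10.alpha_subset_sigma hM) hr.out
      (hrE.trans (card_dvd_of_le hE.1)) hrs with h | h | h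
    · exact Or.inl h
    · exact absurd h hr2
    · exact Or.inr h
  have hrM : Cfsg.PRankLE r 1 M := hr13.elim (fun h => h.2.2.2.2) fun h => h.2.2.2
  -- the element `e₁` of order `r` centralises `A`
  set e₁ := e ^ (orderOf e / r)
  have he₁o : orderOf e₁ = r := orderOf_pow_orderOf_div (orderOf_pos e).ne' hrd
  have he₁E : e₁ ∈ E := pow_mem he _
  have hfix : Cfsg.sigmaCore M ⊓ centralizer (zpowers e₁ : Set G) = ⊥ := by
    rw [centralizer_zpow_eq]
    refine h13 e₁ he₁E (fun h => hr.out.ne_one (by rw [← he₁o, h, orderOf_one])) fun q hq hd => ?_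
    rw [he₁o, Nat.prime_dvd_prime_iff_eq hq hr.out] at hd
    exact hd ▸ hr13
  obtain ⟨A₀, EX⟩ := S10.exists_exc hM hs hAM hAe hA2
  have hcop : (Nat.card A).Coprime (Nat.card (Cfsg.sigmaCore M)) :=
    coprime_card_of_isPGroup hAp EX.not_dvd_sigmaCore
  have hrA : ¬ r ∣ Nat.card A := fun h => hrp (Nat.prime_eq_prime_of_dvd_pow hr.out hp.out (hA2 ▸ h))
  have he₁A : zpowers e₁ ≤ normalizer (A : Set G) := zpowers_le.mpr (hEA he₁E)
  have he₁C : e₁ ∈ C := by
    have h1 : ⁅zpowers e₁, A⁆ ≤ centralizer (Cfsg.sigmaCore M : Set G) :=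
      commutator_le_centralizer_of_fpf' (EX.sigmaCore_nilpotent S10)
        (by rw [Nat.card_zpowers, he₁o])
        (zpowers_le.mpr (le_normalizer_sigmaCore M (hE.1 he₁E)))
        (fun hd => hrs (sigmaCore_isPiNumber M r hr.out hd)) hfix
        (hAM.trans (le_normalizer_sigmaCore M)) he₁A hcop hrA (odd_card hG A)
    rw [Subgroup.commutator_comm] at h1
    have h2 : ⁅A, zpowers e₁⁆ ≤ A := Coprime.commutator_le_left_of_normalizer he₁A
    have h3 : e ∈ normalizer ((⁅A, zpowers e₁⁆ : Subgroup G) : Set G) := by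
      refine cj_eq_iff.mp ?_
      show (⁅A, zpowers e₁⁆).map (MulAut.conj e).toMonoidHom = _
      rw [map_commutator, MonoidHom.map_zpowers]
      congr 1
      · exact cj_eq_iff.mpr (hEA he)
      · congr 1
        show e * e₁ * e⁻¹ = e₁
        rw [(Commute.self_pow e _).eq, mul_inv_cancel_right]
    by_cases h4 : ⁅A, zpowers e₁⁆ = ⊥
    · rw [commutator_eq_bot_iff_le_centralizer] at h4
      exact (le_centralizer_iff.mp h4) (mem_zpowers e₁)
    · refine absurd ?_ (S10.not_le_centralizer_sigmaCore hM hs hAM hAe hA2)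
      exact (hirr _ h2 h3 h4).ge.trans h1
  -- a maximal subgroup over the normaliser of `⟨e₁⟩`
  have hE₁c : Nat.card (zpowers e₁) = r := by rw [Nat.card_zpowers, he₁o]
  obtain ⟨M₁, hM₁, hNM₁⟩ := exists_coatom_ge (normalizer_ne_top' hG
    (ne_bot_of_card (hE₁c ▸ hr.out.one_lt)) (ne_top_of_le_coatom hM (zpowers_le.mpr (hE.1 he₁E))))
  have hCe₁ : centralizer (zpowers e₁ : Set G) ≤ M₁ := (centralizer_le_normalizer _).trans hNM₁
  have hAM₁ : A ≤ M₁ := fun a ha => hCe₁ (by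
    rw [centralizer_zpow_eq, mem_centralizer_singleton_iff]
    exact mem_centralizer_iff.mp he₁C a ha)
  have heM₁ : e ∈ M₁ := hCe₁ (by
    rw [centralizer_zpow_eq, mem_centralizer_singleton_iff]
    exact (Commute.self_pow e _).eq)
  have he₁M₁ : zpowers e₁ ≤ M₁ := le_normalizer.trans hNM₁
  have hbeta : p ∉ Cfsg.beta M₁ := fun hb =>
    (S10.p2_maximal M hM p hs (S10.pRankLE_two hM hs) (not_pRankLE_one hAe hA2 hAM)).1 hb.2
  have hs₁ : r ∉ Cfsg.sigma M₁ := fun hσ => heC <| by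
    have heσ : zpowers e ≤ Cfsg.sigmaCore M₁ :=
      S10.le_sigmaCore_of_isPGroup hM₁ hσ (zpowers_le.mpr heM₁) her
    by_cases hpσ : p ∈ Cfsg.sigma M₁
    · exact S10.le_centralizer_of_not_beta hM₁ hrp her hAp
        (heσ.trans (S10.sigmaCore_le_derived M₁ hM₁))
        ((S10.le_sigmaCore_of_isPGroup hM₁ hpσ hAM₁ hAp).trans (S10.sigmaCore_le_derived M₁ hM₁))
        (zpowers_le.mpr (hEA he)) hbeta (mem_zpowers e)
    · refine mem_centralizer_iff.mpr fun a ha => ?_
      have h1 : a * e * a⁻¹ * e⁻¹ ∈ Cfsg.sigmaCore M₁ ⊓ A := Subgroup.mem_inf.mpr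
        ⟨Subgroup.mul_mem _ ((mem_normalizer_iff.mp (le_normalizer_sigmaCore M₁ (hAM₁ ha)) e).mp
          (heσ (mem_zpowers e))) (Subgroup.inv_mem _ (heσ (mem_zpowers e))), by
        rw [mul_assoc a, mul_assoc a]
        exact A.mul_mem ha ((mem_normalizer_iff.mp (hEA he) a⁻¹).mp (A.inv_mem ha))⟩
      rw [Coprime.inf_eq_bot (coprime_card_of_isPGroup hAp fun hd =>
        hpσ (sigmaCore_isPiNumber M₁ p hp.out hd)).symm, mem_bot,
        mul_inv_eq_one, mul_inv_eq_iff_eq_mul] at h1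
      exact h1
  have hr₁ := S10.not_pRankLE_one_of_normalizer_le hM₁ hs₁ hE₁c he₁M₁ hNM₁
  -- `N(A) ∩ M₁` covers `M₁ / M₁σ`
  set L := M₁ ⊓ normalizer (A : Set G)
  have hcov : M₁ ≤ Cfsg.sigmaCore M₁ ⊔ L := by
    by_cases hpσ : p ∈ Cfsg.sigma M₁
    · obtain ⟨S₁, hS₁, hAS₁⟩ := exists_sylowOf_ge' hAp hAM₁
      obtain ⟨S, hS⟩ := sylow_top hpσ hS₁
      have hN : normalizer (S₁ : Set G) ≤ normalizer (A : Set G) := fun n hn => by
        refine cj_eq_iff.mp (eq_of_le_of_card_ge ?_ (card_cj n A).ge)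
        rintro _ ⟨v, hv, rfl⟩
        have hv' : n * v * n⁻¹ ∈ S₁ := (mem_normalizer_iff.mp hn v).mp (hAS₁ hv)
        refine mem_of_pow_eq_one hAe (EX.max S10) ?_ (by
          show (n * v * n⁻¹) ^ p = 1
          rw [conj_pow, hAe.2 v hv, mul_one, mul_inv_cancel])
        refine mem_centralizer_iff.mpr fun a ha => ?_
        exact congrArg Subtype.val ((hab p hp2 S).is_comm.comm
          (⟨a, hS.ge (hAS₁ ha)⟩ : (S : Subgroup G)) ⟨_, hS.ge hv'⟩)
      exact (le_sup_normalizer (sigmaCore_le M₁) (le_normalizer_sigmaCore M₁)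
        (S10.sylow_le_sigmaCore hM₁ hpσ hS₁)).trans (sup_le_sup_left (inf_le_inf_left _ hN) _)
    · obtain ⟨E', hE', hAE'⟩ := S10.exists_compl_ge hM₁ hAM₁ fun q hq hd => by
        rwa [Nat.prime_eq_prime_of_dvd_pow hq hp.out (hA2 ▸ hd)]
      have hn := (S10.compl_le_normalizer hM₁ hE' hpσ hAE' hAe hA2).1
      intro x hx
      obtain ⟨a, ha, b, hb, rfl⟩ := hE'.2.2.2 x hx
      exact mul_mem (mem_sup_right ⟨hE'.1 ha, hn ha⟩) (mem_sup_left hb)
  obtain ⟨R, hR, heR⟩ := exists_sylowOf_ge' her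
    (zpowers_le.mpr ⟨heM₁, hEA he⟩ : zpowers e ≤ L)
  have hRM₁ : IsSylowOf r R M₁ := isSylowOf_of_le_sup hR (sigmaCore_le M₁) inf_le_left
    (inf_le_left.trans (le_normalizer_sigmaCore M₁)) hcov
    fun hd => hs₁ (sigmaCore_isPiNumber M₁ r hr.out hd)
  obtain ⟨B, hBM₁, hB, hB2⟩ := exists_elemAb_sq hr₁
  obtain ⟨m, -, hle⟩ := exists_conj_le hRM₁ (elemAb_isPGroup hB) hBM₁
  obtain ⟨b, hbB, hbM⟩ := SetLike.not_le_iff_exists.mp fun h : cj m B ≤ M =>
    not_pRankLE_one (elemAb_cj hB m) ((card_cj m B).trans hB2) h hrM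
  have hbR : b ∈ R := hle hbB
  have hbr : b ^ r = 1 := (elemAb_cj hB m).2 b hbB
  have hCM : C ≤ M := S10.centralizer_le hM hAM hAe hA2
  have hRA : ∀ x ∈ R, x ∈ normalizer (A : Set G) := fun x hx => (hR.1 hx).2
  have hRcomm := S10.commute_of_not_sigma hM₁ hs₁ hRM₁.2.1 hRM₁.1
  -- the power of `e` of order `r` on `A`
  obtain ⟨n, hn⟩ := IsPGroup.iff_card.mp her
  rw [Nat.card_zpowers] at hn
  have hex : ∃ j, e ^ r ^ j ∈ C := ⟨n, by rw [← hn, pow_orderOf_eq_one]; exact one_mem _⟩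
  classical
  obtain ⟨j, hj⟩ := Nat.exists_eq_succ_of_ne_zero (n := Nat.find hex) fun h0 => heC (by
    have := Nat.find_spec hex
    rwa [h0, pow_zero, pow_one] at this)
  set e' := e ^ r ^ j
  have he' : e' ∉ C := Nat.find_min hex (by omega)
  have he'r : e' ^ r ∈ C := by
    have := Nat.find_spec hex
    rw [hj, pow_succ] at this
    rwa [← pow_mul]
  have he'R : e' ∈ R := pow_mem (heR (mem_zpowers e)) _
  have : IsMulCommutative A := hAe.1
  refine ne_bot_of_card (hA2 ▸ Nat.one_lt_pow two_ne_zero hp.out.one_lt)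
    (Coprime.eq_bot_of_fixed_point_free (p := r) (hRA e' he'R) (hRA b hbR)
      (hRcomm e' he'R b hbR) he'r (by rw [hbr]; exact one_mem _)
      (hr.out.coprime_iff_not_dvd.mpr hrA) (fun v hv hf => ?_) fun i hi v hv hf => ?_)
  · by_contra hv1
    exact hbM (hCM (hsemi b (hRA b hbR) (hRcomm b hbR e (heR (mem_zpowers e))) v hv hf hv1))
  · by_contra hv1
    have hmem : e' * b ^ i ∈ R := mul_mem he'R (pow_mem hbR i)
    have h1 := hsemi _ (hRA _ hmem) (hRcomm _ hmem e (heR (mem_zpowers e))) v hv hf hv1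
    rcases i with _ | i
    · rw [pow_zero, mul_one] at h1
      exact he' h1
    · refine hbM ?_
      obtain ⟨l, hl⟩ := exists_pow_eq_self_of_coprime (x := b) (n := i + 1) (by
        refine Nat.Coprime.coprime_dvd_right (orderOf_dvd_of_pow_eq_one hbr) ?_
        exact (hr.out.coprime_iff_not_dvd.mpr
          (fun hd => (Nat.le_of_dvd i.succ_pos hd).not_gt hi)).symm)
      rw [← hl]
      refine pow_mem ?_ l
      rw [← inv_mul_cancel_left e' (b ^ (i + 1))]
      exact mul_mem (inv_mem (pow_mem (hE.1 he) _)) (hCM h1)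

/-- An invariant line of `A` without fixed points on `M_σ`. -/
theorem exists_fpf_line (hM : IsCoatom M) (hE : Cfsg.IsComplIn E (Cfsg.sigmaCore M) M)
    (h13 : ∀ e ∈ E, e ≠ 1 →
      (∀ q : ℕ, q.Prime → q ∣ orderOf e → q ∈ Cfsg.tau1 M ∪ Cfsg.tau3 M) →
      Cfsg.sigmaCore M ⊓ centralizer ({e} : Set G) = ⊥)
    (hp2 : p ∈ Cfsg.tau2 M)
    (hab : ∀ q : ℕ, q ∈ Cfsg.tau2 M → ∀ S : Sylow q G, IsMulCommutative (S : Subgroup G))
    {A : Subgroup G} (hA : A ≤ E ∧ Cfsg.IsElementaryAbelian p A ∧ Nat.card A = p ^ 2) :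
    ∃ X ≤ A, Nat.card X = p ∧ E ≤ normalizer (X : Set G) ∧
      Cfsg.sigmaCore M ⊓ centralizer (X : Set G) = ⊥ := by
  obtain ⟨hAE, hAe, hA2⟩ := hA
  have hAM := hAE.trans hE.1
  obtain ⟨⟨hEA, -⟩, ⟨-, -, hNA⟩, -⟩ := S10.compl_structure hM hE hp2 ⟨hAE, hAe, hA2⟩
  set F : Subgroup G := E ⊓ ⨅ W : {W : Subgroup G // W ≤ A}, normalizer (W.1 : Set G)
  by_cases hEF : E ≤ F
  · obtain ⟨-, -, -, -, -, A₁, hA₁, hA₁c, hfix⟩ := S10.tauTwo_structure hM hp2 ⟨hAM, hAe, hA2⟩
    exact ⟨A₁, hA₁, hA₁c,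
      hEF.trans (inf_le_right.trans (iInf_le _ (⟨A₁, hA₁⟩ : {W : Subgroup G // W ≤ A}))), hfix⟩
  obtain ⟨r, hr, hnF⟩ : ∃ r : ℕ, r.Prime ∧
      ¬ ∃ T : Sylow r E, (T : Subgroup E).map E.subtype ≤ F := by
    by_contra h
    push Not at h
    exact hEF (Coprime.le_of_exists_sylow_le h)
  have : Fact r.Prime := ⟨hr⟩
  obtain ⟨T⟩ : Nonempty (Sylow r E) := inferInstance
  obtain ⟨e, heT, heF⟩ := SetLike.not_le_iff_exists.mp fun h => hnF ⟨T, h⟩
  have he : e ∈ E := map_subtype_le _ heT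
  have her : IsPGroup r (zpowers e) := (T.isPGroup'.map E.subtype).to_le (zpowers_le.mpr heT)
  have hnot : ∃ W ≤ A, e ∉ normalizer (W : Set G) := by
    by_contra h
    push Not at h
    exact heF ⟨he, mem_iInf.mpr fun W => h W.1 W.2⟩
  obtain ⟨X, hX, hXc, heX⟩ := S10.exists_fixed_line hM hE h13 hp2 hab ⟨hAE, hAe, hA2⟩ he her
  have hder := S10.derived_normalizer_le_centralizer hM hp2 (hab p hp2) hAM hAe hA2
  -- `N(A)` permutes the at most two lines fixed by `e`
  have hperm : ∀ n ∈ normalizer (A : Set G), ∀ W ≤ A, e ∈ normalizer (W : Set G) →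
      e ∈ normalizer (cj n W : Set G) := fun n hn W hW hW' => by
    refine cj_eq_iff.mp ?_
    have hc : (n * e)⁻¹ * (e * n) ∈ centralizer (A : Set G) := hder (by
      have h := commutator_mem_commutator (inv_mem (hEA he) : e⁻¹ ∈ normalizer (A : Set G))
        (inv_mem hn : n⁻¹ ∈ normalizer (A : Set G))
      simpa [commutatorElement_def, mul_assoc] using h)
    rw [← cj_mul, show e * n = n * e * ((n * e)⁻¹ * (e * n)) by group, cj_mul,
      cj_eq_of_mem_centralizer hc hW, cj_mul, cj_eq_iff.mpr hW']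
  have hinv : normalizer (A : Set G) ≤ normalizer (X : Set G) := by
    intro n hn
    have hle : ∀ W ≤ A, cj n W ≤ A := fun W hW =>
      (cj_mono n hW).trans (cj_eq_iff.mpr hn).le
    by_contra hne
    have hne' : cj n X ≠ X := fun h => hne (cj_eq_iff.mp h)
    set Y := cj n X
    set Z := cj n Y
    have hYc : Nat.card Y = p := (card_cj n X).trans hXc
    have hZY : Z ≠ Y := fun h => hne' (by
      have h1 := congrArg (cj n⁻¹) h
      rw [cj_inv_cj, cj_inv_cj] at h1
      exact h1)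
    have hZX : Z ≠ X := fun h => hne' (cj_eq_iff.mpr
      (mem_of_sq_mem S10.minSimple.1 (cj_eq_iff.mp (by rw [cj_mul]; exact h))))
    obtain ⟨W, hW, hWn⟩ := hnot
    exact hWn (fix_of_three_lines hAe hA2 hX (hle X hX) (hle _ (hle X hX)) hXc hYc
      ((card_cj n Y).trans hYc) hne'.symm hZX hZY
      (fun U V hU hV hUc hVc h => sup_eq_of_lines hA2 hU hV hUc hVc h)
      heX (hperm n hn X hX heX) (hperm n hn _ (hle X hX) (hperm n hn X hX heX)) W hW)
  exact ⟨X, hX, hXc, hEA.trans hinv,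
    S10.fpf_of_invariant hM hE hp2 ⟨hAE, hAe, hA2⟩ hX hXc hNA hinv⟩

end Section10

end Cfsg.Agent.OddOrder.BG11
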