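import Cfsg.Agent.OddOrder.BG11.Exceptional
import Cfsg.Agent.OddOrder.Sigma.Core

/-!
BG 12.1 - 12.6 and 12.10: elementary subgroups of order `p ^ 2` of a maximal subgroup.
-/

set_option autoImplicit false

universe u

namespace Cfsg.Agent.OddOrder.BG11

open Subgroup H40
open scoped commutatorElement

variable {G : Type u} [Group G] [Finite G] {p : ℕ} [hp : Fact p.Prime]

omit [Finite G] in
/-- A line exists in an elementary group of order `p ^ 2`. -/
theorem exists_line [Finite G] {A : Subgroup G} (hA2 : Nat.card A = p ^ 2) :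
    ∃ A₀ ≤ A, Nat.card A₀ = p := by
  obtain ⟨F, hF⟩ := Sylow.exists_subgroup_card_pow_prime (G := A) p (n := 1)
    (hA2 ▸ pow_dvd_pow p one_le_two)
  exact ⟨F.map A.subtype, map_subtype_le _,
    by rw [card_map_of_injective A.subtype_injective, hF, pow_one]⟩

/-- Rank at least two gives an elementary subgroup of order `p ^ 2`. -/
theorem exists_elemAb_sq {M : Subgroup G} (h : ¬ Cfsg.PRankLE p 1 M) :
    ∃ A : Subgroup G, A ≤ M ∧ Cfsg.IsElementaryAbelian p A ∧ Nat.card A = p ^ 2 := by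
  simp only [Cfsg.PRankLE, not_forall, not_le] at h
  obtain ⟨B, hBc, hBe, hB⟩ := h
  have hBp : IsPGroup p B := fun b => ⟨1, Subtype.ext (by simpa using hBe b b.2)⟩
  obtain ⟨k, hk⟩ := IsPGroup.iff_card.mp hBp
  have hk2 : 2 ≤ k := by
    by_contra hk1
    rw [hk, pow_one] at hB
    exact absurd hB (not_lt.mpr ((Nat.pow_le_pow_right hp.out.pos
      (show k ≤ 1 by omega)).trans (pow_one p).le))
  obtain ⟨F, hF⟩ := Sylow.exists_subgroup_card_pow_prime (G := B) p (hk ▸ pow_dvd_pow p hk2)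
  refine ⟨(F.map B.subtype).map M.subtype, map_subtype_le _, ⟨⟨⟨?_⟩⟩, ?_⟩, ?_⟩
  · rintro ⟨_, _, ⟨a, -, rfl⟩, rfl⟩ ⟨_, _, ⟨b, -, rfl⟩, rfl⟩
    exact Subtype.ext (congrArg (fun t : B => ((t : M) : G)) (hBc.is_comm.comm a b))
  · rintro _ ⟨_, ⟨a, -, rfl⟩, rfl⟩
    rw [← map_pow, show (B.subtype a) ^ p = 1 from hBe a a.2, map_one]
  · rw [card_map_of_injective M.subtype_injective, card_map_of_injective B.subtype_injective, hF]

namespace Section10

variable (S10 : Section10 G) {M : Subgroup G}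
include S10

/-- `L123`: invariant `q`-subgroups of `M ∩ L`, `q ∈ σ(M)`, are centralised by `A`. -/
theorem le_centralizer_of_two_maximal (hM : IsCoatom M) {L : Subgroup G} (hL : IsCoatom L)
    (hne : L ≠ M) {A : Subgroup G} (hA : Cfsg.IsElementaryAbelian p A) (hA2 : Nat.card A = p ^ 2)
    (hmax : ∀ B : Subgroup G, Cfsg.IsElementaryAbelian p B → A ≤ B → B = A)
    (hAM : A ≤ M) (hAL : A ≤ L) (hC : centralizer (A : Set G) ≤ L)
    (h : p ∈ Cfsg.sigma L ∨ ∃ A₀, Exc L A₀ A p) {q : ℕ} [hq : Fact q.Prime]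
    (hqs : q ∈ Cfsg.sigma M) (hqp : q ≠ p) {S : Subgroup G} (hS : IsPGroup q S) (hSM : S ≤ M)
    (hSL : S ≤ L) (hAS : A ≤ normalizer (S : Set G)) : A ≤ centralizer (S : Set G) := by
  rcases eq_or_ne S ⊥ with rfl | hS0
  · exact fun a _ => mem_centralizer_iff.mpr fun x hx => by
      rw [mem_bot.mp hx, one_mul, mul_one]
  have hAp := elemAb_isPGroup hA
  have hb := S10.not_mem_beta hA hA2 hmax
  obtain ⟨Q, hQ, hSQ, hAQ⟩ := S10.exists_invariant_sylow_ge hM hAp hAM (dvd_of_elemAb hA2 hAM)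
    (hb M) hqs hqp hSM hS hAS
  have hpS : ¬ p ∣ Nat.card S := fun hd => by
    obtain ⟨k, hk⟩ := IsPGroup.iff_card.mp hS
    rw [hk] at hd
    exact hqp (Nat.prime_eq_prime_of_dvd_pow hp.out hq.out hd).symm
  have hSs : ∀ r : ℕ, r.Prime → r ∣ Nat.card S → r = q := fun r hr hd => by
    obtain ⟨k, hk⟩ := IsPGroup.iff_card.mp hS
    rw [hk] at hd
    exact Nat.prime_eq_prime_of_dvd_pow hr hq.out hd
  have hconj : q ∈ Cfsg.sigma L → ∀ Q' : Subgroup G, IsSylowOf q Q' L → S ≤ Q' →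
      A ≤ normalizer (Q' : Set G) → ∃ k ∈ L, cj k Q' = Q := fun hqL Q' hQ' hSQ' hAQ' => by
    obtain ⟨k, hk, e⟩ := S10.exists_centralizer_conj hA hA2 hmax hqp
      (mem_maxInv_of_sylow (sylow_top hqL hQ') hAQ') (mem_maxInv_of_sylow (sylow_top hqs hQ) hAQ)
      hS0 hSQ' hSQ hAS
    exact ⟨k, hC hk, e⟩
  rcases h with hpL | ⟨A₀, E⟩
  · -- `p ∈ σ(L)`
    set S₁ := ⁅S, A⁆
    have hS₁S : S₁ ≤ S := Coprime.commutator_le_left_of_normalizer hAS
    by_cases hqb : q ∈ Cfsg.beta L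
    · exfalso
      have hqL := S10.alpha_subset_sigma hL hqb.1
      obtain ⟨Q', hQ', hSQ', hAQ'⟩ := S10.exists_invariant_sylow_ge hL hAp hAL
        (dvd_of_elemAb hA2 hAL) (hb L) hqL hqp hSL hS hAS
      obtain ⟨k, hk, e⟩ := hconj hqL Q' hQ' hSQ' hAQ'
      have hQL : IsSylowOf q Q L := by
        have h1 := isSylowOf_cj hQ' k
        rwa [e, cj_eq_of_mem hk] at h1
      exact hne (eq_of_inUniqueMaximal (S10.inUniqueMaximal_sylow_alpha hL hqb.1 hQL) hL hQL.1 hM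
        hQ.1).symm
    · refine Coprime.le_centralizer_of_commutator_le hAS (coprime_card_of_isPGroup hAp hpS)
        (le_refl S₁) ?_
      exact S10.le_centralizer_of_not_beta hL hqp.symm hAp (hS.to_le hS₁S)
        ((S10.le_sigmaCore_of_isPGroup hL hpL hAL hAp).trans (S10.sigmaCore_le_derived L hL))
        (commutator_mono hSL hAL) (normalizer_commutator_ge_right S A) hqb
  · -- `L` is exceptional
    by_cases hqL : q ∈ Cfsg.sigma L
    · exfalso
      obtain ⟨Q', hQ', hSQ', hAQ'⟩ := S10.exists_invariant_sylow_ge hL hAp hAL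
        (dvd_of_elemAb hA2 hAL) (hb L) hqL hqp hSL hS hAS
      obtain ⟨k, hk, e⟩ := hconj hqL Q' hQ' hSQ' hAQ'
      have hNQ' := S10.normalizer_sylow_of_nilpotent hL hqL (E.sigmaCore_nilpotent S10) hQ'
      have hQQ' : Q' = Q := (cj_eq_iff.mpr (hNQ'.ge hk)).symm.trans e
      have hle : L ≤ M := hNQ' ▸ hQQ' ▸ normalizer_le_of_mem_sigma hqs hQ
      exact hne ((hL.le_iff.mp hle).resolve_left hM.1).symm
    · exact E.le_centralizer_of_invariant S10 hSL hAS (fun r hr hd => (hSs r hr hd) ▸ hqL) hpS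

omit hp in
theorem alphaCore_eq_bot (hM : IsCoatom M) (h : ∀ q, q ∉ Cfsg.alpha M) : Cfsg.alphaCore M = ⊥ :=
  card_eq_one.mp (Nat.eq_one_iff_not_exists_prime_dvd.mpr fun r hr hd =>
    h r ((S10.alphaCore_spec M hM).1.2.1 r hr hd))

/-- BG 12.4, when every line of `A` is centralised outside `M`. -/
theorem sigma_of_lines_out (hM : IsCoatom M) {A : Subgroup G} (hAM : A ≤ M)
    (hA : Cfsg.IsElementaryAbelian p A) (hA2 : Nat.card A = p ^ 2)
    (hout : ∀ A₀ ≤ A, Nat.card A₀ = p →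
      ∃ L, IsCoatom L ∧ L ≠ M ∧ normalizer (A₀ : Set G) ≤ L) :
    p ∈ Cfsg.sigma M ∧ Cfsg.alphaCore M = ⊥ ∧ Group.IsNilpotent (Cfsg.sigmaCore M) ∧
      centralizer (A : Set G) ≤ M := by
  have hG := S10.minSimple
  have hAp := elemAb_isPGroup hA
  have hcomm : A ≤ centralizer (A : Set G) := fun a ha => mem_centralizer_iff.mpr fun b hb =>
    elemAb_commute hA hb ha
  have hline : ∀ A₀ ≤ A, ∀ L : Subgroup G, normalizer (A₀ : Set G) ≤ L →
      centralizer (A : Set G) ≤ L := fun A₀ h₀ L hL =>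
    ((centralizer_le h₀).trans (centralizer_le_normalizer _)).trans hL
  have hU : ¬ Cfsg.InUniqueMaximal A := fun hU => by
    obtain ⟨A₀, h₀, h₀c⟩ := exists_line hA2
    obtain ⟨L, hL, hne, hN⟩ := hout A₀ h₀ h₀c
    exact hne (eq_of_inUniqueMaximal hU hM hAM hL (hcomm.trans (hline A₀ h₀ L hN)))
  have hmax := S10.eq_of_not_inUniqueMaximal hA hA2 hU
  have hb := S10.not_mem_beta hA hA2 hmax
  -- `A` centralises an invariant Sylow subgroup for each `q ∈ σ(M)`, `q ≠ p`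
  have key : ∀ (q : ℕ) [Fact q.Prime], q ∈ Cfsg.sigma M → q ≠ p →
      ∃ Q, IsSylowOf q Q M ∧ A ≤ centralizer (Q : Set G) := by
    intro q _ hqs hqp
    obtain ⟨Q, hQ, -, hAQ⟩ := S10.exists_invariant_sylow_ge hM hAp hAM (dvd_of_elemAb hA2 hAM)
      (hb M) hqs hqp (S := ⊥) bot_le IsPGroup.of_bot
      (fun a _ => cj_eq_iff.mp (Subgroup.map_bot _))
    refine ⟨Q, hQ, le_centralizer_iff.mp ?_⟩
    have hpQ : ¬ p ∣ Nat.card Q := fun h => by
      rw [hQ.2.2] at h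
      exact hqp (Nat.prime_eq_prime_of_dvd_pow hp.out (Fact.out : q.Prime) h).symm
    refine le_of_lines hA hA2 hpQ hAQ fun A₀ h₀ h₀c => ?_
    obtain ⟨L, hL, hne, hN⟩ := hout A₀ h₀ h₀c
    have hCL := hline A₀ h₀ L hN
    have hAL : A ≤ L := hcomm.trans hCL
    have h : p ∈ Cfsg.sigma L ∨ ∃ B, Exc L B A p :=
      (em _).imp_right fun hp' => ⟨A₀, hL, hp', hAL, hA, hA2, h₀, h₀c, hN⟩
    have hAS : A ≤ normalizer ((Q ⊓ centralizer (A₀ : Set G) : Subgroup G) : Set G) := fun a ha =>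
      cj_eq_iff.mp (by
        have ha₀ : cj a A₀ = A₀ := cj_eq_iff.mpr (centralizer_le_normalizer _
          (centralizer_le h₀ (hcomm ha)))
        rw [cj_inf, cj_eq_iff.mpr (hAQ ha), cj_centralizer, ha₀])
    exact le_centralizer_iff.mp (S10.le_centralizer_of_two_maximal hM hL hne hA hA2 hmax hAM hAL
      hCL h hqs hqp (hQ.2.1.to_le inf_le_left) (inf_le_left.trans hQ.1)
      (inf_le_right.trans ((centralizer_le_normalizer _).trans hN)) hAS)
  have hps : p ∈ Cfsg.sigma M := by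
    by_contra hps
    refine S10.not_le_centralizer_sigmaCore hM hps hAM hA hA2 (le_centralizer_iff.mp ?_)
    refine Coprime.le_of_exists_sylow_le fun q hq => ?_
    have : Fact q.Prime := ⟨hq⟩
    by_cases hqd : q ∣ Nat.card (Cfsg.sigmaCore M)
    · have hqs := sigmaCore_isPiNumber M q hq hqd
      obtain ⟨Q, hQ, hAQ⟩ := key q hqs fun e => hps (e ▸ hqs)
      obtain ⟨T, hT⟩ := exists_sylow_eq (S10.sylow_le_sigmaCore hM hqs hQ)
      exact ⟨T, hT ▸ le_centralizer_iff.mp hAQ⟩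
    · obtain ⟨T⟩ : Nonempty (Sylow q (Cfsg.sigmaCore M)) := inferInstance
      refine ⟨T, ?_⟩
      have h1 : Nat.card ((T : Subgroup _).map (Cfsg.sigmaCore M).subtype) = 1 := by
        rw [card_map_of_injective (Cfsg.sigmaCore M).subtype_injective, T.card_eq_multiplicity,
          Nat.factorization_eq_zero_of_not_dvd hqd, pow_zero]
      rw [eq_bot_of_card_eq _ h1]
      exact bot_le
  obtain ⟨P, hP, hAP⟩ := exists_sylowOf_ge' hAp hAM
  have hPne : P ≠ ⊥ := sylowOf_ne_bot hP hps.2.1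
  have : Nontrivial P := (nontrivial_iff_ne_bot P).mpr hPne
  obtain ⟨z, -, hzc, hzo⟩ := PGroups.exists_mem_center_orderOf_eq hP.2.1 (⊤ : Subgroup P) top_ne_bot
  have hzA : (z : G) ∈ A := mem_of_pow_eq_one hA hmax
    (mem_centralizer_iff.mpr fun a ha => congrArg Subtype.val (mem_center_iff.mp hzc ⟨a, hAP ha⟩))
    (by rw [← SubmonoidClass.coe_pow, ← hzo, pow_orderOf_eq_one, OneMemClass.coe_one])
  have hzP : ∀ v ∈ P, v * (z : G) = z * v := fun v hv =>
    congrArg Subtype.val (mem_center_iff.mp hzc ⟨v, hv⟩)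
  have hα : ∀ q, q ∉ Cfsg.alpha M := fun q hq => by
    have : Fact q.Prime := ⟨hq.1⟩
    rcases eq_or_ne q p with rfl | hqp
    · -- a central line
      have hPU := S10.inUniqueMaximal_sylow_alpha hM hq hP
      obtain ⟨L, hL, hne, hN⟩ := hout (zpowers (z : G)) (zpowers_le.mpr hzA)
        (by rw [Nat.card_zpowers, Subgroup.orderOf_coe, hzo])
      refine hne (eq_of_inUniqueMaximal hPU hM hP.1 hL (le_trans ?_ hN))
      exact fun v hv => centralizer_le_normalizer _ (mem_centralizer_iff.mpr fun w hw => by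
        obtain ⟨i, rfl⟩ := mem_zpowers_iff.mp hw
        exact (Commute.zpow_left (hzP v hv).symm i).eq)
    · obtain ⟨Q, hQ, hAQ⟩ := key q (S10.alpha_subset_sigma hM hq) hqp
      exact hU (Cfsg.Agent.S1399.result hG Q A (S10.inUniqueMaximal_sylow_alpha hM hq hQ) hAQ
        (not_rankLE_one hA hA2 le_rfl))
  have hnil := S10.isNilpotent_sigmaCore_of_alpha_empty hM hα
  refine ⟨hps, S10.alphaCore_eq_bot hM hα, hnil, ?_⟩
  have hNP := S10.normalizer_sylow_of_nilpotent hM hps hnil hP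
  set W := A ⊓ centralizer (P : Set G) with hW
  have hW0 : W ≠ ⊥ := fun e => by
    have h1 : (z : G) ∈ W := ⟨hzA, mem_centralizer_iff.mpr hzP⟩
    rw [e, mem_bot] at h1
    rw [← Subgroup.orderOf_coe, h1, orderOf_one] at hzo
    exact hp.out.one_lt.ne hzo
  have hMW : M ≤ normalizer (W : Set G) := fun m hm => by
    refine cj_eq_iff.mp (eq_of_le_of_card_ge ?_ (card_cj m W).ge)
    have hmP : cj m P = P := cj_eq_iff.mpr (hNP.ge hm)
    rintro _ ⟨v, hv, rfl⟩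
    have h1 : (MulAut.conj m).toMonoidHom v ∈ centralizer (P : Set G) := by
      rw [← hmP, ← cj_centralizer]
      exact mem_map_of_mem _ hv.2
    refine ⟨mem_of_pow_eq_one hA hmax (centralizer_le hAP h1) ?_, h1⟩
    show ((MulAut.conj m) v) ^ p = 1
    rw [← map_pow, hA.2 v hv.1, map_one]
  have hNW := normalizer_eq_coatom hG hM (inf_le_left.trans hAM) hW0 hMW
  exact (centralizer_le (show W ≤ A from inf_le_left)).trans
    ((centralizer_le_normalizer _).trans hNW.le)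

/-- BG 12.4, the first part. -/
theorem centralizer_le (hM : IsCoatom M) {A : Subgroup G} (hAM : A ≤ M)
    (hA : Cfsg.IsElementaryAbelian p A) (hA2 : Nat.card A = p ^ 2) :
    centralizer (A : Set G) ≤ M := by
  by_cases h : ∀ A₀ ≤ A, Nat.card A₀ = p →
      ∃ L, IsCoatom L ∧ L ≠ M ∧ normalizer (A₀ : Set G) ≤ L
  · exact (S10.sigma_of_lines_out hM hAM hA hA2 h).2.2.2
  · push Not at h
    obtain ⟨A₀, h₀, h₀c, hall⟩ := h
    refine ((Subgroup.centralizer_le h₀).trans (centralizer_le_normalizer _)).trans ?_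
    obtain ⟨L, hL, hle⟩ := exists_coatom_ge (normalizer_ne_top' S10.minSimple
      (ne_bot_of_card (h₀c ▸ hp.out.one_lt)) (ne_top_of_le_coatom hM (h₀.trans hAM)))
    exact hle.trans (le_of_eq (by_contra fun hne => hall L hL hne hle))

/-- BG 12.4. -/
theorem line_cases (hM : IsCoatom M) {A : Subgroup G}
    (hA : A ≤ M ∧ Cfsg.IsElementaryAbelian p A ∧ Nat.card A = p ^ 2) :
    centralizer (A : Set G) ≤ M ∧
      ((∀ A₀ : Subgroup G, A₀ ≤ A → Nat.card A₀ = p →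
          ¬ (normalizer (A₀ : Set G) ≤ M ∧ ∀ L : Subgroup G, IsCoatom L →
            normalizer (A₀ : Set G) ≤ L → L = M)) →
        p ∈ Cfsg.sigma M ∧ Cfsg.alphaCore M = ⊥ ∧ Group.IsNilpotent (Cfsg.sigmaCore M)) := by
  refine ⟨S10.centralizer_le hM hA.1 hA.2.1 hA.2.2, fun h => ?_⟩
  obtain ⟨h1, h2, h3, -⟩ := S10.sigma_of_lines_out hM hA.1 hA.2.1 hA.2.2 fun A₀ h₀ h₀c => by
    obtain ⟨L, hL, hle⟩ := exists_coatom_ge (normalizer_ne_top' S10.minSimple
      (ne_bot_of_card (h₀c ▸ hp.out.one_lt)) (ne_top_of_le_coatom hM (h₀.trans hA.1)))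
    rcases eq_or_ne L M with rfl | hne
    · by_contra hno
      push Not at hno
      exact h A₀ h₀ h₀c ⟨hle, fun L' hL' hle' => by_contra fun hne => hno L' hL' hne hle'⟩
    · exact ⟨L, hL, hne, hle⟩
  exact ⟨h1, h2, h3⟩

/-- For `p ∉ σ(M)` some line makes `M` exceptional. -/
theorem exists_exc (hM : IsCoatom M) (hs : p ∉ Cfsg.sigma M) {A : Subgroup G} (hAM : A ≤ M)
    (hA : Cfsg.IsElementaryAbelian p A) (hA2 : Nat.card A = p ^ 2) : ∃ A₀, Exc M A₀ A p := by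
  by_contra h
  refine hs (S10.sigma_of_lines_out hM hAM hA hA2 fun A₀ h₀ h₀c => ?_).1
  obtain ⟨L, hL, hle⟩ := exists_coatom_ge (normalizer_ne_top' S10.minSimple
    (ne_bot_of_card (h₀c ▸ hp.out.one_lt)) (ne_top_of_le_coatom hM (h₀.trans hAM)))
  rcases eq_or_ne L M with rfl | hne
  · exact absurd ⟨A₀, hM, hs, hAM, hA, hA2, h₀, h₀c, hle⟩ h
  · exact ⟨L, hL, hne, hle⟩

/-- BG 12.5 (e). -/
theorem sigmaCore_inf_eq_bot (hM : IsCoatom M) (hs : p ∉ Cfsg.sigma M) {A : Subgroup G}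
    (hAM : A ≤ M) (hA : Cfsg.IsElementaryAbelian p A) (hA2 : Nat.card A = p ^ 2) {L : Subgroup G}
    (hL : IsCoatom L) (hne : L ≠ M) (hAL : A ≤ L) : Cfsg.sigmaCore M ⊓ L = ⊥ := by
  obtain ⟨A₀, E⟩ := S10.exists_exc hM hs hAM hA hA2
  have hmax := E.max S10
  have hCL := S10.centralizer_le hL hAL hA hA2
  have h : p ∈ Cfsg.sigma L ∨ ∃ B, Exc L B A p :=
    (em _).imp_right fun hp' => S10.exists_exc hL hp' hAL hA hA2
  have hfix := E.inf_centralizer_eq_bot S10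
  set D := Cfsg.sigmaCore M ⊓ L
  have hAD : A ≤ normalizer (D : Set G) := fun a ha => cj_eq_iff.mp (by
    rw [cj_inf, cj_eq_iff.mpr (le_normalizer_sigmaCore M (hAM ha)), cj_eq_of_mem (hAL ha)])
  have hpD : ¬ p ∣ Nat.card D := fun h =>
    E.not_dvd_sigmaCore (h.trans (card_dvd_of_le inf_le_left))
  have hsolA : Group.IsSolvable A := by
    have := (elemAb_isPGroup hA).isNilpotent
    infer_instance
  refine eq_bot_iff.mpr (Coprime.le_of_exists_sylow_le fun q hq => ?_)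
  have : Fact q.Prime := ⟨hq⟩
  obtain ⟨T, hT⟩ := Coprime.exists_invariant_sylow hAD
    (coprime_card_of_isPGroup (elemAb_isPGroup hA) hpD) (Or.inl hsolA) q
  refine ⟨T, ?_⟩
  set S := (T : Subgroup D).map D.subtype
  have hSD : S ≤ D := map_subtype_le _
  rcases eq_or_ne S ⊥ with h0 | h0
  · exact h0.le
  have hSq : IsPGroup q S := T.isPGroup'.map _
  have hqS : q ∣ Nat.card S := by
    obtain ⟨k, hk⟩ := IsPGroup.iff_card.mp hSq
    rcases k with _ | k
    · exact absurd (eq_bot_of_card_eq _ (by rwa [pow_zero] at hk)) h0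
    · exact hk ▸ dvd_pow_self q k.succ_ne_zero
  have hqs : q ∈ Cfsg.sigma M := sigmaCore_isPiNumber M q hq
    (hqS.trans (card_dvd_of_le (hSD.trans inf_le_left)))
  have hc := S10.le_centralizer_of_two_maximal hM hL hne hA hA2 hmax hAM hAL hCL h hqs
    (fun e => hs (e ▸ hqs)) hSq ((hSD.trans inf_le_left).trans (sigmaCore_le M))
    (hSD.trans inf_le_right) hT
  exact hfix ▸ le_inf (hSD.trans inf_le_left) (le_centralizer_iff.mp hc)

/-- BG 12.5. -/
theorem tauTwo_structure (hM : IsCoatom M) (hs : p ∈ Cfsg.tau2 M) {A : Subgroup G}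
    (hA : A ≤ M ∧ Cfsg.IsElementaryAbelian p A ∧ Nat.card A = p ^ 2) :
    Group.IsNilpotent (Cfsg.sigmaCore M) ∧
      (∀ P : Sylow p M, IsMulCommutative (P : Subgroup M) ∧
        (A ≤ (P : Subgroup M).map M.subtype →
          (∀ x ∈ (P : Subgroup M).map M.subtype, x ^ p = 1 ↔ x ∈ A) ∧
          ¬ normalizer ((((P : Subgroup M).map M.subtype : Subgroup G)) : Set G) ≤ M)) ∧
      M ≤ normalizer ((Cfsg.sigmaCore M ⊔ A : Subgroup G) : Set G) ∧
      Cfsg.sigmaCore M ⊓ centralizer (A : Set G) = ⊥ ∧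
      (∀ L : Subgroup G, IsCoatom L → L ≠ M → A ≤ L → Cfsg.sigmaCore M ⊓ L = ⊥) ∧
      ∃ A₁ : Subgroup G, A₁ ≤ A ∧ Nat.card A₁ = p ∧
        Cfsg.sigmaCore M ⊓ centralizer (A₁ : Set G) = ⊥ := by
  obtain ⟨hAM, hAe, hA2⟩ := hA
  obtain ⟨A₀, E⟩ := S10.exists_exc hM hs.2.1 hAM hAe hA2
  obtain ⟨X₁, X₂, hsup, hc₁, -, hfix₁, -⟩ := E.exists_two_lines S10
  refine ⟨E.sigmaCore_nilpotent S10, fun P => ⟨?_, fun hAP => ?_⟩, E.le_normalizer_sup S10,
    E.inf_centralizer_eq_bot S10,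
    fun L hL hne hAL => S10.sigmaCore_inf_eq_bot hM hs.2.1 hAM hAe hA2 hL hne hAL,
    X₁, hsup ▸ le_sup_left, hc₁, hfix₁⟩
  · obtain ⟨m, hm, hmle⟩ := exists_conj_le (isSylowOf_map P) (elemAb_isPGroup hAe) hAM
    obtain ⟨B₀, E'⟩ := S10.exists_exc hM hs.2.1 (hmle.trans (map_subtype_le _))
      (elemAb_cj hAe m) ((card_cj m A).trans hA2)
    exact ⟨⟨fun a b => Subtype.ext (Subtype.ext
      (E'.commute_sylow S10 (isSylowOf_map P) hmle _ ⟨a, a.2, rfl⟩ _ ⟨b, b.2, rfl⟩))⟩⟩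
  · exact ⟨fun x hx => E.pow_eq_one_iff S10 (isSylowOf_map P) hAP hx,
      not_normalizer_le hs.2.1 E.dvd_card (isSylowOf_map P)⟩

end Section10

omit [Finite G] hp in
theorem compl_le {M E : Subgroup G} (hE : Cfsg.IsComplIn E (Cfsg.sigmaCore M) M) : E ≤ M := hE.1

omit hp in
theorem not_mem_sigma_of_dvd_compl {M E : Subgroup G}
    (hH : Cfsg.IsPiHallOf (Cfsg.sigma M) (Cfsg.sigmaCore M) M)
    (hE : Cfsg.IsComplIn E (Cfsg.sigmaCore M) M) {q : ℕ} (hq : q.Prime) (hd : q ∣ Nat.card E) :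
    q ∉ Cfsg.sigma M :=
  ((compl_isPiHallOf hH hE).2.1 q hq hd).2

namespace Section10

variable (S10 : Section10 G) {M E : Subgroup G}
include S10

omit hp in
/-- A `σ'`-subgroup of `M` lies in a complement to `M_σ`. -/
theorem exists_compl_ge (hM : IsCoatom M) {U : Subgroup G} (hU : U ≤ M)
    (hUs : ∀ q : ℕ, q.Prime → q ∣ Nat.card U → q ∉ Cfsg.sigma M) :
    ∃ E : Subgroup G, Cfsg.IsComplIn E (Cfsg.sigmaCore M) M ∧ U ≤ E := by
  have hH := (S10.sigmaCore_hall M hM).1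
  obtain ⟨E₀, hE₀⟩ := OddOrder.exists_compl hH
  have := S10.isSolvable_max hM
  obtain ⟨K, hK, hUK⟩ := (Hall.hallDom_of_isSolvable {q | q.Prime ∧ q ∉ Cfsg.sigma M} M).exists_le
    (U := U.subgroupOf M) (fun q hq hd =>
      ⟨hq, hUs q hq (hd.trans (dvd_of_eq (Nat.card_congr (subgroupOfEquivOfLe hU).toEquiv)))⟩)
  have hK' : Cfsg.IsPiHallOf {q | q.Prime ∧ q ∉ Cfsg.sigma M} (K.map M.subtype) M :=
    Coprime.isPiHallOf_iff.mpr ⟨map_subtype_le _, by
      rwa [subgroupOf, comap_map_eq_self_of_injective M.subtype_injective]⟩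
  obtain ⟨m, hm, e⟩ := Coprime.exists_conj_hallOf (S10.isSolvable_max hM)
    (compl_isPiHallOf hH hE₀) hK'
  refine ⟨K.map M.subtype, ?_, fun u hu => ⟨⟨u, hU hu⟩, hUK hu, rfl⟩⟩
  rw [← e]
  have hσ : cj m (Cfsg.sigmaCore M) = Cfsg.sigmaCore M :=
    cj_eq_iff.mpr (le_normalizer_sigmaCore M hm)
  refine ⟨(cj_mono m hE₀.1).trans (cj_eq_of_mem hm).le, sigmaCore_le M, ?_, fun x hx => ?_⟩
  · show cj m E₀ ⊓ Cfsg.sigmaCore M = ⊥
    rw [← hσ, ← cj_inf, hE₀.2.2.1]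
    exact Subgroup.map_bot _
  · obtain ⟨a, ha, b, hb, h⟩ := hE₀.2.2.2 (m⁻¹ * x * m)
      (M.mul_mem (M.mul_mem (M.inv_mem hm) hx) hm)
    refine ⟨m * a * m⁻¹, conj_mem_cj m ha, m * b * m⁻¹, hσ.le (conj_mem_cj m hb), ?_⟩
    calc x = m * (m⁻¹ * x * m) * m⁻¹ := by group
      _ = m * (a * b) * m⁻¹ := by rw [h]
      _ = _ := by group

/-- BG 12.6 (a). -/
theorem compl_le_normalizer (hM : IsCoatom M) (hE : Cfsg.IsComplIn E (Cfsg.sigmaCore M) M)
    {A : Subgroup G} (hs : p ∉ Cfsg.sigma M) (hAE : A ≤ E) (hA : Cfsg.IsElementaryAbelian p A)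
    (hA2 : Nat.card A = p ^ 2) :
    E ≤ normalizer (A : Set G) ∧ ∀ X : Subgroup G, X ≤ E → Nat.card X = p → X ≤ A := by
  have hAM := hAE.trans hE.1
  obtain ⟨A₀, X⟩ := S10.exists_exc hM hs hAM hA hA2
  have hn := X.le_normalizer_sup S10
  have hEA : E ≤ normalizer (A : Set G) := by
    intro e he
    refine cj_eq_iff.mp (eq_of_le_of_card_ge ?_ (card_cj e A).ge)
    rintro _ ⟨a, ha, rfl⟩
    have h1 : e * a * e⁻¹ ∈ Cfsg.sigmaCore M ⊔ A :=
      (mem_normalizer_iff.mp (hn (hE.1 he)) a).mp (mem_sup_right ha)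
    rw [← SetLike.mem_coe, coe_mul_of_right_le_normalizer_left (Cfsg.sigmaCore M) A
      (hAM.trans (le_normalizer_sigmaCore M)), Set.mem_mul] at h1
    obtain ⟨s, hsm, b, hb, h2⟩ := h1
    have hsE : s ∈ E ⊓ Cfsg.sigmaCore M := by
      refine ⟨?_, hsm⟩
      have : s = e * a * e⁻¹ * b⁻¹ := by rw [← h2]; group
      rw [this]
      exact E.mul_mem (E.mul_mem (E.mul_mem he (hAE ha)) (E.inv_mem he)) (E.inv_mem (hAE hb))
    rw [hE.2.2.1, mem_bot] at hsE
    show e * a * e⁻¹ ∈ A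
    rw [← h2, hsE, one_mul]
    exact hb
  refine ⟨hEA, fun Y hY hYc => ?_⟩
  have hYp : IsPGroup p Y := IsPGroup.of_card (n := 1) (by rw [hYc, pow_one])
  obtain ⟨P, hP, hle⟩ := exists_sylowOf_ge' (hYp.to_sup_of_normal_right' (elemAb_isPGroup hA)
    (hY.trans hEA)) (sup_le (hY.trans hE.1) hAM)
  refine fun y hy => (X.pow_eq_one_iff S10 hP (le_sup_right.trans hle) (hle (mem_sup_left hy))).mp ?_
  exact orderOf_dvd_iff_pow_eq_one.mp (hYc ▸ Y.orderOf_dvd_natCard hy)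

/-- BG 12.6. -/
theorem compl_structure (hM : IsCoatom M) (hE : Cfsg.IsComplIn E (Cfsg.sigmaCore M) M)
    (hp2 : p ∈ Cfsg.tau2 M) {A : Subgroup G}
    (hA : A ≤ E ∧ Cfsg.IsElementaryAbelian p A ∧ Nat.card A = p ^ 2) :
    (E ≤ normalizer (A : Set G) ∧ ∀ X : Subgroup G, X ≤ E → Nat.card X = p → X ≤ A) ∧
      (centralizer (A : Set G) ≤ M ⊓ normalizer (A : Set G) ∧ M ⊓ normalizer (A : Set G) = E ∧
        ¬ normalizer (A : Set G) ≤ M) ∧
      ∀ X : Subgroup G, X ≤ A → Nat.card X = p →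
        Cfsg.sigmaCore M ⊓ centralizer (X : Set G) ≠ ⊥ →
        (centralizer (X : Set G) ≤ M ∧
          ∀ L : Subgroup G, IsCoatom L → centralizer (X : Set G) ≤ L → L = M) := by
  obtain ⟨hAE, hAe, hA2⟩ := hA
  have hs := hp2.2.1
  have hAM := hAE.trans hE.1
  obtain ⟨A₀, EX⟩ := S10.exists_exc hM hs hAM hAe hA2
  have h1 := S10.compl_le_normalizer hM hE hs hAE hAe hA2
  refine ⟨h1, ⟨le_inf (S10.centralizer_le hM hAM hAe hA2) (centralizer_le_normalizer _), ?_, ?_⟩,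
    fun X hXA hXc hne => ?_⟩
  · refine le_antisymm ?_ (le_inf hE.1 h1.1)
    rintro m ⟨hm, hmA⟩
    obtain ⟨e, he, s, hsm, rfl⟩ := hE.2.2.2 m hm
    have hsA : s ∈ normalizer (A : Set G) := by
      simpa using mul_mem (inv_mem (h1.1 he)) hmA
    have hsC : s ∈ Cfsg.sigmaCore M ⊓ centralizer (A : Set G) :=
      ⟨hsm, Coprime.mem_centralizer_of_mem_normalizer (hAM.trans (le_normalizer_sigmaCore M))
        (Coprime.inf_eq_bot (coprime_card_of_isPGroup (elemAb_isPGroup hAe) EX.not_dvd_sigmaCore))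
        hsm hsA⟩
    rw [EX.inf_centralizer_eq_bot S10, mem_bot] at hsC
    rwa [hsC, mul_one]
  · obtain ⟨P, hP, hAP⟩ := exists_sylowOf_ge' (elemAb_isPGroup hAe) hAM
    obtain ⟨g, hg, hgM, -, -⟩ := EX.exists_not_mem hP hAP
    exact fun h => hgM (h (EX.normalizer_sylow_le_normalizer S10 hP hAP hg))
  · have hAC : A ≤ centralizer (X : Set G) := fun a ha => mem_centralizer_iff.mpr fun b hb =>
      elemAb_commute hAe (hXA hb) ha
    have huniq : ∀ L : Subgroup G, IsCoatom L → centralizer (X : Set G) ≤ L → L = M :=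
      fun L hL hle => by_contra fun hLM => hne (eq_bot_iff.mpr
        ((inf_le_inf_left _ hle).trans
          (S10.sigmaCore_inf_eq_bot hM hs hAM hAe hA2 hL hLM (hAC.trans hle)).le))
    refine ⟨?_, huniq⟩
    obtain ⟨L, hL, hle⟩ := exists_coatom_ge (centralizer_ne_top S10.minSimple
      (ne_bot_of_card (hXc ▸ hp.out.one_lt) : X ≠ ⊥) (ne_top_of_le_coatom hM (hXA.trans hAM)))
    exact huniq L hL hle ▸ hle

/-- The Sylow subgroups of `M` for primes outside `σ(M)` are abelian. -/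
theorem commute_of_not_sigma (hM : IsCoatom M) (hs : p ∉ Cfsg.sigma M) {R : Subgroup G}
    (hR : IsPGroup p R) (hRM : R ≤ M) : ∀ x ∈ R, ∀ y ∈ R, x * y = y * x := by
  obtain ⟨P, hP, hRP⟩ := exists_sylowOf_ge' hR hRM
  intro x hx y hy
  rcases eq_or_ne R ⊥ with rfl | h0
  · rw [mem_bot.mp hx, one_mul, mul_one]
  by_cases h1 : Cfsg.PRankLE p 1 M
  · have hd : p ∣ Nat.card R := by
      obtain ⟨k, hk⟩ := IsPGroup.iff_card.mp hR
      rcases k with _ | k
      · exact absurd (eq_bot_of_card_eq _ (by rwa [pow_zero] at hk)) h0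
      · exact hk ▸ dvd_pow_self p k.succ_ne_zero
    have hcyc := isCyclic_of_pRankLE_one (ne_two_of_mem_card S10.minSimple hd) hP.2.1
      (pRankLE_of_le hP.1 h1)
    let _ := IsCyclic.commGroup (α := P)
    exact congrArg Subtype.val (mul_comm (⟨x, hRP hx⟩ : P) ⟨y, hRP hy⟩)
  · obtain ⟨A, hAM, hA, hA2⟩ := exists_elemAb_sq h1
    obtain ⟨m, hm, hle⟩ := exists_conj_le hP (elemAb_isPGroup hA) hAM
    obtain ⟨A₀, E⟩ := S10.exists_exc hM hs (hle.trans hP.1) (elemAb_cj hA m) ((card_cj m A).trans hA2)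
    exact E.commute_sylow S10 hP hle x (hRP hx) y (hRP hy)

end Section10

end Cfsg.Agent.OddOrder.BG11
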